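import Cfsg.Agent.H957.CarLab_m3
import Cfsg.Agent.H908.CarterPC
import Cfsg.Agent.H466.CA.BridgeUni
import Cfsg.Agent.H721.FR.Base
import Cfsg.Agent.GpLn.Rank
import Cfsg.Agent.H160.QDisc
import Cfsg.Agent.H484.GenSpRow
import Cfsg.Agent.H381.Car.Wp
import Cfsg.Agent.Lib.SolvableNormalP
import Mathlib
import Cfsg.Agent.H636.SympWreath
import Cfsg.Agent.LieClassical.SympCount
import Cfsg.Agent.GpSp.Iso
import Cfsg.Agent.H206.FieldKill
import Cfsg.Agent.H507.GmnSp
import Cfsg.Agent.H749.BlockOrth_m3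
import Cfsg.Agent.LieClassical.SLGen
import Cfsg.Agent.H989.OutOrth.Basic
import Cfsg.Agent.FooteOrth.Spin
import Cfsg.Agent.H507.GmnOrthRows
import Cfsg.Agent.H709.CharPow
import Cfsg.Agent.H763.Ccp.Alt_m3
import Cfsg.Agent.H906.ThreeByThree_m3
import Cfsg.Agent.H688.TransAut
import Cfsg.Agent.Lib.FieldAutCard
import Cfsg.Agent.FastGrp
import Cfsg.Agent.Prune
set_option linter.all false

section
prune_inst 0x7fb8a8fbabf821dedfff7e7da6d4cffc19909fffa4dff94b7fe069ff0b9f03000945ab8509e010fe0ed6401410a87843f9ffceffe26bd87ffffd1ff41ffbee0fe5f7b508519488340f340ffe03f0678e7f3fffffffffffffffffffffffffffaeffbfffffffff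

-- part: H308/CA/Facts
section
set_option linter.all false
open scoped Cfsg.Agent.FastGrp

/-!
# The facts on the coefficient rings; the groups `unitary E`
-/

set_option autoImplicit false
set_option linter.unusedSectionVars false
set_option linter.unusedVariables false

namespace Cfsg.Agent.H308.CA

open Subgroup Pointwise Matrix

theorem ex_st {E : Type} [CommRing E] [StarRing E] (h : Gd E) : EXSt E := by
  cases h with
  | lin F i _ => exact Cfsg.Agent.H206.CA.ex_lin F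
  | uni F i s _ hs => exact Cfsg.Agent.H261.CA.ex_uni _ hs

theorem two_st {E : Type} [CommRing E] [StarRing E] (h : Gd E) : TwoSt E := by
  cases h with
  | lin F i _ => exact Cfsg.Agent.H55.CA.two_lin F
  | uni F i s _ hs => exact Cfsg.Agent.H911.CA.two_uni _ hs

section

variable {E : Type} [CommRing E] [StarRing E] (h : Gd E) {p : ℕ} (hp : p.Prime) [CharP E p]
include h hp

/-- `unitary E` is a `p'`-group -/
theorem not_dvd_unitary : ¬ p ∣ Nat.card (unitary E) := by
  have : Fact p.Prime := ⟨hp⟩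
  have := h.finite
  intro hd
  obtain ⟨x, hx⟩ := exists_prime_orderOf_dvd_card' (G := unitary E) p hd
  have h1 : x ^ p = 1 := by rw [← hx]; exact pow_orderOf_eq_one x
  have h2 : (x : E) ^ p = 1 := by
    have := congrArg Subtype.val h1
    exact this
  have h3 := Cfsg.Agent.H689.CA.eq_one_of_pow h hp h2
  have h4 : x = 1 := Subtype.ext h3
  rw [h4, orderOf_one] at hx
  exact hp.one_lt.ne hx

/-- `p`-th roots of norm one elements -/
theorem exists_root {l : E} (hl : star l * l = 1) : ∃ m : E, star m * m = 1 ∧ m ^ p = l := by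
  have := h.finite
  have hc : Nat.Coprime (Nat.card (unitary E)) p := (Nat.coprime_comm.1 ((Nat.Prime.coprime_iff_not_dvd hp).2 (not_dvd_unitary h hp)))
  let L : unitary E := ⟨l, Unitary.mem_iff.2 ⟨hl, by rw [mul_comm]; exact hl⟩⟩
  obtain ⟨M, hM⟩ := (powCoprime hc).surjective L
  refine ⟨M, (Unitary.mem_iff.1 M.2).1, ?_⟩
  have := congrArg Subtype.val hM
  exact this

theorem isUnit_of_ne {r : ℕ} (hr : r.Prime) (hrp : r ≠ p) : IsUnit (r : E) := by
  have hc : Nat.Coprime r p := (Nat.coprime_primes hr hp).2 hrp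
  have h1 := (Nat.isCoprime_iff_coprime.2 hc).map (Int.castRingHom E)
  obtain ⟨a, b, hab⟩ := h1
  have h2 : ((p : ℤ) : E) = 0 := by rw [Int.cast_natCast]; exact CharP.cast_eq_zero E p
  refine IsUnit.of_mul_eq_one a ?_
  have h3 : a * (r : E) + b * (p : E) = 1 := by simpa using hab
  rw [CharP.cast_eq_zero E p, mul_zero, add_zero] at h3
  rw [mul_comm]; exact h3

end

/-- square roots of one of norm one -/
theorem sq_eq_one {E : Type} [CommRing E] [StarRing E] (h : Gd E) {c : E} (h1 : star c * c = 1) (h2 : c ^ 2 = 1) :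
    c = 1 ∨ c = -1 := by
  cases h with
  | lin F i _ =>
    obtain ⟨a, b⟩ := c
    have h3 : ((b * a, a * b) : F × F) = (1, 1) := h1
    have h4 : ((a ^ 2, b ^ 2) : F × F) = (1, 1) := h2
    rw [Prod.mk.injEq] at h3 h4
    rcases sq_eq_one_iff.1 h4.1 with ha | ha
    · left
      have hb : b = 1 := by have := h3.1; rwa [ha, mul_one] at this
      rw [ha, hb]; rfl
    · right
      have hb : b = -1 := by
        have := h3.1
        rw [ha] at this
        linear_combination -this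
      rw [ha, hb]; rfl
  | uni F i s _ hs =>
    have h3 : (c - 1) * (c + 1) = 0 := by linear_combination h2
    rcases mul_eq_zero.1 h3 with h4 | h4
    · exact Or.inl (by linear_combination h4)
    · exact Or.inr (by linear_combination h4)

end Cfsg.Agent.H308.CA
end

-- part: H308/CA/Main1
section
prune_inst 0x10000000000000
set_option linter.all false
open scoped Cfsg.Agent.FastGrp

/-!
# Claim 1: a Carter subgroup fixes a proper symmetric idempotent, unless `n` is a power of `2`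
-/

set_option autoImplicit false
set_option linter.unusedSectionVars false
set_option linter.unusedVariables false

namespace Cfsg.Agent.H308.CA

open Subgroup Pointwise Matrix
open Cfsg.Agent.Solvable.Carter Cfsg.Agent.H18.Carter Cfsg.Agent.H381.Car

universe u

theorem not_two_pow_of_dvd {r n : ℕ} (hr : r.Prime) (hr2 : r ≠ 2) (h : r ∣ n) : ¬ ∃ a : ℕ, n = 2 ^ a := by
  rintro ⟨a, rfl⟩
  have h1 := hr.dvd_of_dvd_pow h
  exact hr2 ((Nat.prime_dvd_prime_iff_eq hr Nat.prime_two).1 h1)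

section

variable {Γ : Type u} [Group Γ] [Finite Γ] {ι : Type} [Fintype ι] [DecidableEq ι] {E : Type} [CommRing E] [StarRing E]
  (h : Gd E) (T : TA Γ ι E) (hS : Sml Γ) {K : Subgroup Γ} (hK : IsCarter K) {p : ℕ} (hp : p.Prime) [CharP E p]
include h hS hK hp

/-- a unipotent element of order `p` of `SU`, fixed by `K` -/
theorem exists_unip [Nonempty ι] (hex : Hex T K p) :
    ∃ y : SU ι E, y ^ p = 1 ∧ y ≠ 1 ∧ ¬ Sc (mt y) 1 ∧ (∀ k ∈ K, T.ρ k (mt y) = mt y) ∧
      ∃ x : SU ι E, T.j x ∈ K ∧ Sc (mt x) (mt y) := by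
  have hpf : Fact p.Prime := ⟨hp⟩
  have hD := Cfsg.Agent.H35.CA.det_st h
  obtain ⟨x, hxK, hx1, hxp, hxK'⟩ := T.central_mod hD hS hK hex
  obtain ⟨l, hl, hxl⟩ := id hxp
  obtain ⟨m, hm, hml⟩ := exists_root h hp hl
  have hmm : star (star m) * star m = 1 := by rw [star_star, mul_comm, hm]
  set Y : Matrix ι ι E := star m • mt x with hY
  have hYY : star Y * Y = 1 := by
    rw [hY, star_smul, smul_mul_smul_comm, star_mt_mul, hmm, one_smul]
  have hYp : Y ^ p = 1 := by
    rw [hY, smul_pow, hxl, smul_smul, ← star_pow, hml, hl, one_smul]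
  have hYd : Y.det = 1 := by
    refine Cfsg.Agent.H689.CA.eq_one_of_pow h hp ?_
    rw [← Matrix.det_pow, hYp, Matrix.det_one]
  have hSc : Sc (mt x) Y := Sc.symm ⟨star m, hmm, rfl⟩
  have hY1 : ¬ Sc Y 1 := fun hc => hx1 (hSc.trans hc)
  refine ⟨mkSU Y hYY hYd, ?_, ?_, ?_, ?_, x, hxK, hSc⟩
  · apply mt_injective
    rw [map_pow, mt_mkSU, hYp, map_one]
  · intro hc
    apply hY1
    have h1 := congrArg (mt : SU ι E → Matrix ι ι E) hc
    rw [mt_mkSU, map_one] at h1
    rw [h1]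
    exact Sc.refl _
  · exact hY1
  · intro k hk
    rw [mt_mkSU]
    obtain ⟨c, hc, hck⟩ := ((T.ρ_sc k hSc.symm).trans (hxK' k hk)).trans hSc
    have h1 := congrArg (fun z => z ^ p) hck
    rw [← map_pow, hYp, map_one, smul_pow, hYp] at h1
    obtain ⟨i⟩ := (inferInstance : Nonempty ι)
    have h2 := congrFun (congrFun h1 i) i
    rw [Matrix.smul_apply, Matrix.one_apply_eq, smul_eq_mul, mul_one] at h2
    have h3 := Cfsg.Agent.H689.CA.eq_one_of_pow h hp h2.symm
    rw [hck, h3, one_smul]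

/-- it is bad -/
theorem exists_bad [Nonempty ι] (hp2 : p ≠ 2) (hex : Hex T K p) :
    ∃ y : SU ι E, BadU E p y ∧ (∀ k ∈ K, T.ρ k (mt y) = mt y) ∧ y ^ p = 1 ∧ y ≠ 1 := by
  obtain ⟨y, hyp, hy1, hys, hyK, -⟩ := exists_unip h T hS hK hp hex
  rcases Cfsg.Agent.H901.CA.uni_st h p hp hp2 inferInstance ι y hyp hy1 with ⟨g, a, ha, hg⟩ | hb
  · exfalso
    refine ha (T.not_conj_pow hS hK (x := y) (fun k hk => by rw [hyK k hk]; exact Sc.refl _) hp ?_ hys (g := g) ?_)
    · rw [← map_pow, hyp, map_one]; exact Sc.refl _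
    · rw [hg, map_pow]; exact Sc.refl _
  · exact ⟨y, hb, hyK, hyp, hy1⟩

/-- if `K` has elements of order `3 = p` and `2` modulo scalars, then it fixes a proper idempotent -/
theorem propFix_of_bad [Nonempty ι] (hp2 : p ≠ 2) (hex : Hex T K p) (hex2 : Hex T K 2) : PropFix T K := by
  have hD := Cfsg.Agent.H35.CA.det_st h
  obtain ⟨y, hb, hyK, -, -⟩ := exists_bad h T hS hK hp hp2 hex
  have hp3 : p = 3 := hb.1
  subst hp3
  obtain ⟨x, hxK, hx1, hx2, hxK'⟩ := T.central_mod hD hS hK hex2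
  obtain ⟨l, hl, hxl⟩ := id hx2
  have hxy : x * y = y * x := by
    have h1 := hyK _ hxK
    rw [T.ρ_j] at h1
    apply mt_injective
    rw [map_mul, map_mul]
    calc mt x * mt y = mt x * mt y * (star (mt x) * mt x) := by rw [star_mt_mul, mul_one]
      _ = (mt x * mt y * star (mt x)) * mt x := by rw [mul_assoc, mul_assoc, mul_assoc]
      _ = mt y * mt x := by rw [h1]
  obtain ⟨m, hm, hml, hrk⟩ := Cfsg.Agent.H481.CA.inv_st h ι y hb inferInstance x l hxl hxy
  have hmm : star (star m) * star m = 1 := by rw [star_star, mul_comm, hm]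
  set w : Matrix ι ι E := star m • mt x with hw
  have hww : star w * w = 1 := by
    rw [hw, star_smul, smul_mul_smul_comm, star_mt_mul, hmm, one_smul]
  have hw2 : w ^ 2 = 1 := by
    rw [hw, smul_pow, hxl, smul_smul, ← star_pow, hml, hl, one_smul]
  have hws : star w = w := by
    calc star w = star w * (w ^ 2) := by rw [hw2, mul_one]
      _ = (star w * w) * w := by rw [sq, mul_assoc]
      _ = w := by rw [hww, one_mul]
  have h3 : (3 : E) = 0 := by exact_mod_cast CharP.cast_eq_zero E 3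
  have h4 : (2 : E) * 2 = 1 := by linear_combination h3
  have h5 : (2 : E) + 2 = 1 := by linear_combination h3
  have h2s : star (2 : E) = 2 := by
    have : star ((2 : ℕ) : E) = ((2 : ℕ) : E) := star_natCast 2
    exact_mod_cast this
  have hwsq : w * w = 1 := by rw [← sq, hw2]
  have hSc : Sc (mt x) w := Sc.symm ⟨star m, hmm, rfl⟩
  have hw1 : ¬ Sc w 1 := fun hc => hx1 (hSc.trans hc)
  have hP : IsP ((2 : E) • (1 + w)) := by
    constructor
    · rw [smul_mul_smul_comm, h4, one_smul]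
      have e1 : (1 + w) * (1 + w) = (1 + w) + (1 + w) := by
        rw [add_mul, mul_add, mul_add, one_mul, mul_one, hwsq, one_mul]; abel
      rw [e1, ← two_smul E (1 + w)]
    · rw [star_smul, h2s, star_add, star_one, hws]
  have hfix : ∀ k ∈ K, T.ρ k w = w := by
    intro k hk
    obtain ⟨c, hc, hck⟩ := ((T.ρ_sc k hSc.symm).trans (hxK' k hk)).trans hSc
    have h1 := congrArg (fun z => z ^ 2) hck
    rw [← map_pow, hw2, map_one, smul_pow, hw2] at h1
    obtain ⟨i⟩ := (inferInstance : Nonempty ι)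
    have h6 := congrFun (congrFun h1 i) i
    rw [Matrix.smul_apply, Matrix.one_apply_eq, smul_eq_mul, mul_one] at h6
    rcases sq_eq_one h hc h6.symm with h7 | h7
    · rw [hck, h7, one_smul]
    · exfalso
      apply hrk
      have h8 : T.ρ k ((2 : E) • (1 + w)) = (2 : E) • (1 - w) := by
        have e1 : ∀ a : Matrix ι ι E, (2 : E) • a = a + a := fun a => two_smul E a
        rw [e1, e1, map_add, map_add, map_one, hck, h7, neg_smul, one_smul, sub_eq_add_neg]
      rw [← h8, Cfsg.Agent.H957.CarLab.rk_map]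
  refine ⟨(2 : E) • (1 + w), hP, ?_, ?_, ?_⟩
  · intro hc
    apply hw1
    have h6 : (2 : E) • ((2 : E) • (1 + w)) = 0 := by rw [hc, smul_zero]
    rw [smul_smul, h4, one_smul] at h6
    have h7 : w = (-1 : E) • (1 : Matrix ι ι E) := by
      rw [neg_smul, one_smul]
      exact eq_neg_of_add_eq_zero_right h6
    exact ⟨-1, by rw [star_neg, star_one, neg_mul_neg, one_mul], h7⟩
  · intro hc
    apply hw1
    have h6 : (2 : E) • ((2 : E) • (1 + w)) = (2 : E) • (1 : Matrix ι ι E) := by rw [hc]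
    rw [smul_smul, h4, one_smul, two_smul] at h6
    have h7 : w = (1 : Matrix ι ι E) := add_left_cancel h6
    rw [h7]
    exact Sc.refl _
  · intro k hk
    have e1 : ∀ a : Matrix ι ι E, (2 : E) • a = a + a := fun a => two_smul E a
    rw [e1, map_add, map_add, map_one, hfix k hk]

end

/-- **Claim 1.** -/
theorem claim1 (hF : Fpf.{u}) {p : ℕ} (hp : p.Prime) (hp2 : p ≠ 2) (n : ℕ) :
    ∀ (Γ : Type u) [Group Γ] [Finite Γ] (ι : Type) [Fintype ι] [DecidableEq ι] (E : Type) [CommRing E] [StarRing E]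
      (h : Gd E) [CharP E p] (T : TA Γ ι E) (hS : Sml Γ) (K : Subgroup Γ) (hK : IsCarter K),
      Fintype.card ι = n → (¬ ∃ a : ℕ, n = 2 ^ a) → n ≠ 0 → PropFix T K := by
  induction n using Nat.strong_induction_on with
  | _ n IH =>
  intro Γ _ _ ι _ _ E _ _ h _ T hS K hK hn hnp hn0
  have : Nonempty ι := Fintype.card_pos_iff.1 (by omega)
  have hpf : Fact p.Prime := ⟨hp⟩
  have hD := Cfsg.Agent.H35.CA.det_st h
  have hfam := fam_st h
  by_cases hA : ∃ r : ℕ, r.Prime ∧ r ≠ 2 ∧ r ≠ p ∧ Hex T K r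
  · obtain ⟨r, hr, hr2, hrp, hex⟩ := hA
    rcases step h hD (Cfsg.Agent.H908.CarterPC.pc_st h) (Cfsg.Agent.H957.CarLab.lab_st h hfam) (ex_st h) hS hK
      hr hr2 (isUnit_of_ne h hp hr hrp) hex with hP | ⟨m, E', i, s, hG, hc, hrm, hch, R, hR⟩
    · exact hP
    · let _ := i
      let _ := s
      have : CharP E' p := hch p inferInstance
      have hm0 : m ≠ 0 := by
        rintro rfl
        rw [mul_zero] at hc
        omega
      have hmn : m < n := by
        rw [← hn, hc]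
        have := hr.one_lt
        nlinarith [Nat.pos_of_ne_zero hm0]
      exact R.propFix hR (IH m hmn R.M (Fin m) E' hG R.T' (hS.subgroup R.M) (K.subgroupOf R.M) (R.carter hK)
        (Fintype.card_fin m) (not_two_pow_of_dvd hr hr2 hrm) hm0)
  push Not at hA
  by_cases hB : Hex T K p
  · by_cases h2 : Hex T K 2
    · exact propFix_of_bad h T hS hK hp hp2 hB h2
    · exfalso
      obtain ⟨y, hb, -⟩ := exists_bad h T hS hK hp hp2 hB
      obtain ⟨P, hPr, hPp, hPi, hPK⟩ := T.lemma_x_ta hD hF hS hK (l := p) fun r hr hrp hex => by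
        by_cases hr2 : r = 2
        · rw [hr2] at hex; exact h2 hex
        · exact hA r hr hr2 hrp hex
      have hn3 : 3 ≤ Fintype.card ι := by
        obtain ⟨-, -, k, hk, hk2, -⟩ := hb
        rw [hk2]
        obtain ⟨t, ht⟩ := hk
        rcases Nat.eq_zero_or_pos t with h0 | h0
        · exfalso
          apply hnp
          refine ⟨1, ?_⟩
          rw [← hn, hk2, ht, h0]
          norm_num
        · omega
      exact h2 (Cfsg.Agent.H689.CA.exists_two_of_sylow_p h T hD (Cfsg.Agent.H689.CA.bor_st h) hS hK hp2 hn3 hPr hPp hPi hPK)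
  · have : Fact (Nat.Prime 2) := ⟨Nat.prime_two⟩
    obtain ⟨P, hPr, hPp, hPi, hPK⟩ := T.lemma_x_ta hD hF hS hK (l := 2) fun r hr hr2 hex => by
      by_cases hrp : r = p
      · rw [hrp] at hex; exact hB hex
      · exact hA r hr hr2 hrp hex
    obtain ⟨e, he, h0, h1, hf⟩ := Cfsg.Agent.H911.CA.exists_fix_of_sylow2 h T hD (by
      have := isUnit_of_ne (E := E) h hp Nat.prime_two hp2.symm
      exact_mod_cast this) (two_st h) (by rw [hn]; exact hnp) inferInstance hPr hPp hPi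
    exact ⟨e, he, h0, h1, fun k hk => hf k (hPK hk)⟩

end Cfsg.Agent.H308.CA
end

-- part: H308/CA/Main3
section
prune_inst 0x4515005404de2120000182582b3001e42f60005b2006b080010200a460e8fbd48a0028f61fc701912922a0ac54031006003100180424000000e008400011d01a084880000a008010ca6001f801183180c00000000000000000000000000051004000000000
set_option linter.all false
open scoped Cfsg.Agent.FastGrp

-- part: H308/CA/Main2
section
/-!
# No elements of order `p` modulo scalars, `n ≥ 3`
-/

set_option autoImplicit false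
set_option linter.unusedSectionVars false
set_option linter.unusedVariables false

namespace Cfsg.Agent.H308.CA

open Subgroup Pointwise Matrix
open Cfsg.Agent.Solvable.Carter Cfsg.Agent.H18.Carter Cfsg.Agent.H381.Car

universe u

/-- the corner embedding, with determinants -/
theorem cor_data {ι : Type} [Fintype ι] [DecidableEq ι] {E : Type} [CommRing E] [StarRing E] (h : Gd E)
    {e : Matrix ι ι E} (he : IsP e) :
    ∃ (ι' : Type) (_ : Fintype ι') (_ : DecidableEq ι') (φ : Matrix ι' ι' E →ₙ+* Matrix ι ι E),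
      Function.Injective φ ∧ (∀ a, φ (star a) = star (φ a)) ∧ φ 1 = e ∧ Fintype.card ι' = rk e ∧
      (∀ b, e * b * e = b → ∃ a, b = φ a) ∧ (∀ a, (φ a + (1 - φ 1)).det = a.det) ∧ ∀ a, rk (φ a) = rk a := by
  classical
  have he1 : IsP (1 - e) := Cfsg.Agent.H55.CA.isP_one_sub he
  have he2 : e * (1 - e) = 0 := by rw [mul_sub, mul_one, he.idem, sub_self]
  have he3 : (1 - e) * e = 0 := by rw [sub_mul, one_mul, he.idem, sub_self]
  obtain ⟨u, c, hc⟩ := Cfsg.Agent.H248.CA.onSt h ι Bool (fun b => if b then e else 1 - e) (by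
    intro b
    cases b
    · exact he1
    · exact he) (by
    intro b b' hb
    cases b <;> cases b'
    · exact absurd rfl hb
    · exact he3
    · exact he2
    · exact absurd rfl hb) (by
    rw [Fintype.sum_bool]
    change e + (1 - e) = 1
    rw [add_sub_cancel])
  have hc1 := (hc true).symm
  rw [if_pos rfl] at hc1
  set p : ι → Prop := fun x => c x = true with hp
  have h1 : Cfsg.Agent.H35.CA.cor (p := p) u 1 = e := by rw [Cfsg.Agent.H35.CA.cor_one]; exact hc1
  refine ⟨{x // p x}, inferInstance, inferInstance, Cfsg.Agent.H35.CA.cor (p := p) u,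
    Cfsg.Agent.H35.CA.cor_injective u, Cfsg.Agent.H35.CA.cor_star u, h1, ?_, ?_, ?_, fun a =>
    Cfsg.Agent.H35.CA.cor_rk u a⟩
  · rw [← h1, Cfsg.Agent.H35.CA.cor_rk, Cfsg.Agent.H35.CA.rk_one h]
  · intro b hb
    apply Cfsg.Agent.H35.CA.cor_range
    have h2 : star (mt u) * dg p * mt u = e := hc1
    rw [h2]; exact hb
  · intro a
    have e1 : Cfsg.Agent.H35.CA.cor (p := p) u a + (1 - Cfsg.Agent.H35.CA.cor (p := p) u 1) =
        star (mt u) * (Cfsg.Agent.H35.CA.blk p a + (1 - Cfsg.Agent.H35.CA.blk p 1)) * mt u := by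
      rw [Cfsg.Agent.H35.CA.cor_apply, Cfsg.Agent.H35.CA.cor_apply, mul_add, mul_sub, add_mul, sub_mul, mul_one,
        star_mt_mul]
    have e2 : (star (mt u)).det = 1 := by rw [← mt_inv, mt_det]
    rw [e1, det_mul, det_mul, e2, mt_det, Cfsg.Agent.H35.CA.blk_det, one_mul, mul_one]

/-- unitary matrices of given determinant -/
theorem exists_det {ι : Type} [Fintype ι] [DecidableEq ι] [Nonempty ι] {E : Type} [CommRing E] [StarRing E] {d : E}
    (hd : star d * d = 1) : ∃ a : Matrix ι ι E, star a * a = 1 ∧ a.det = d := by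
  obtain ⟨x0⟩ := (inferInstance : Nonempty ι)
  set a : ι → E := Function.update (fun _ => 1) x0 d with ha
  have haa : ∀ x, star (a x) * a x = 1 := by
    intro x
    by_cases hx : x = x0
    · rw [ha, hx, Function.update_self, hd]
    · rw [ha, Function.update_of_ne hx, star_one, one_mul]
  refine ⟨Matrix.diagonal a, ?_, ?_⟩
  · rw [Matrix.star_eq_conjTranspose, Matrix.diagonal_conjTranspose, Matrix.diagonal_mul_diagonal, ← Matrix.diagonal_one]
    congr 1
    funext x
    exact haa x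
  · rw [Matrix.det_diagonal, ha, Finset.prod_update_of_mem (Finset.mem_univ _), Finset.prod_const_one, mul_one]

section

variable {ι : Type} [Fintype ι] [DecidableEq ι] {E : Type} [CommRing E] [StarRing E]
  {ι' : Type} [Fintype ι'] [DecidableEq ι']

theorem phi_unit {e : Matrix ι ι E} {φ : Matrix ι' ι' E →ₙ+* Matrix ι ι E} (hst : ∀ a, φ (star a) = star (φ a))
    (h1 : φ 1 = e) {a : Matrix ι' ι' E} (ha : star a * a = 1) :
    star (φ a + (1 - e)) * (φ a + (1 - e)) = 1 := by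
  subst h1
  have hs : star (φ 1) = φ 1 := by rw [← hst, star_one]
  have e1 : φ (star a) * φ a = φ 1 := by rw [← map_mul, ha]
  have e2 : φ (star a) * (1 - φ 1) = 0 := by rw [mul_sub, mul_one, ← map_mul, mul_one, sub_self]
  have e3 : (1 - φ 1) * φ a = 0 := by rw [sub_mul, one_mul, ← map_mul, one_mul, sub_self]
  have e4 : (1 - φ 1) * (1 - φ 1) = 1 - φ 1 := by
    rw [mul_sub, mul_one, sub_mul, one_mul, ← map_mul, one_mul, sub_self, sub_zero]
  rw [star_add, star_sub, star_one, hs, ← hst, add_mul, mul_add, mul_add, e1, e2, e3, e4]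
  abel

end

/-- a full unitary element of a proper corner extends to `SU` -/
theorem extend {ι : Type} [Fintype ι] [DecidableEq ι] {E : Type} [CommRing E] [StarRing E] (h : Gd E)
    {e : Matrix ι ι E} (he : IsP e) (hne : e ≠ 1) {ι' : Type} [Fintype ι'] [DecidableEq ι']
    {φ : Matrix ι' ι' E →ₙ+* Matrix ι ι E} (hst : ∀ a, φ (star a) = star (φ a)) (h1 : φ 1 = e)
    (hdet : ∀ a, (φ a + (1 - φ 1)).det = a.det) {a : Matrix ι' ι' E} (ha : star a * a = 1) :
    ∃ g : SU ι E, mt g * e = φ a ∧ e * mt g = φ a := by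
  obtain ⟨κ, i1, i2, ψ, hψi, hψs, hψ1, hψc, -, hψd, -⟩ := cor_data h (Cfsg.Agent.H55.CA.isP_one_sub he)
  have hκ : Nonempty κ := by
    rw [← Fintype.card_pos_iff, hψc, Nat.pos_iff_ne_zero]
    intro h0
    rw [Cfsg.Agent.H55.CA.rk_eq_zero h (Cfsg.Agent.H55.CA.isP_one_sub he)] at h0
    exact hne (sub_eq_zero.1 h0).symm
  have hdu : star a.det * a.det = 1 := by
    rw [← Matrix.det_conjTranspose, ← Matrix.star_eq_conjTranspose, ← Matrix.det_mul, ha, Matrix.det_one]
  obtain ⟨b, hb, hbd⟩ := exists_det (ι := κ) (E := E) (d := star a.det) (by rw [star_star, mul_comm, hdu])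
  have e1 : φ a * e = φ a := by rw [← h1, ← map_mul, mul_one]
  have e2 : e * φ a = φ a := by rw [← h1, ← map_mul, one_mul]
  have e3 : ψ b * e = 0 := by
    have h2 : ψ b * (1 - e) = ψ b := by rw [← hψ1, ← map_mul, mul_one]
    rw [mul_sub, mul_one] at h2
    exact sub_eq_self.1 h2
  have e4 : e * ψ b = 0 := by
    have h2 : (1 - e) * ψ b = ψ b := by rw [← hψ1, ← map_mul, one_mul]
    rw [sub_mul, one_mul] at h2
    exact sub_eq_self.1 h2
  have hu1 := phi_unit hst h1 ha
  have hu2 := phi_unit hψs hψ1 hb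
  rw [sub_sub_cancel] at hu2
  set A := φ a + (1 - e) with hA
  set B := ψ b + e with hB
  have hAd : A.det = a.det := by rw [hA, ← h1]; exact hdet a
  have hBd : B.det = star a.det := by
    have := hψd b
    rw [hψ1, sub_sub_cancel, hbd] at this
    exact this
  refine ⟨mkSU (A * B) ?_ ?_, ?_, ?_⟩
  · rw [star_mul, mul_assoc, ← mul_assoc (star A), hu1, one_mul, hu2]
  · rw [Matrix.det_mul, hAd, hBd, mul_comm, hdu]
  · have f1 : B * e = e := by rw [hB, add_mul, e3, he.idem, zero_add]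
    have f2 : A * e = φ a := by rw [hA, add_mul, sub_mul, one_mul, he.idem, sub_self, add_zero, e1]
    rw [mt_mkSU, mul_assoc, f1, f2]
  · have f1 : e * A = φ a := by rw [hA, mul_add, mul_sub, mul_one, he.idem, sub_self, add_zero, e2]
    have f2 : φ a * B = φ a := by
      calc φ a * B = φ a * e * B := by rw [e1]
        _ = φ a * (e * B) := mul_assoc _ _ _
        _ = φ a := by rw [hB, mul_add, e4, he.idem, zero_add, e1]
    rw [mt_mkSU, ← mul_assoc, f1, f2]

section

variable {Γ : Type u} [Group Γ] [Finite Γ] {ι : Type} [Fintype ι] [DecidableEq ι] {E : Type} [CommRing E] [StarRing E]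
  (h : Gd E) (T : TA Γ ι E) (hS : Sml Γ) {K : Subgroup Γ} (hK : IsCarter K) {p : ℕ} (hp : p.Prime) [CharP E p]
include h hS hK hp

/-- a unipotent matrix fixed by `K` is trivial on proper `K`-fixed corners -/
theorem unip_corner (hp2 : p ≠ 2) {Y e : Matrix ι ι E} (hYs : star Y * Y = 1) (hYp : Y ^ p = 1)
    (hYK : ∀ k ∈ K, T.ρ k Y = Y) (he : IsP e) (he1 : e ≠ 1) (heK : ∀ k ∈ K, T.ρ k e = e) (hYe : Y * e = e * Y) :
    e * Y = e := by
  by_contra hne
  obtain ⟨ι', i1, i2, φ, hi, hst, h1, hc, hr, hd, -⟩ := cor_data h he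
  have e0 : e * (e * Y) * e = e * Y := by
    rw [← mul_assoc, he.idem, mul_assoc, hYe, ← mul_assoc, he.idem]
  obtain ⟨a, ha⟩ := hr _ e0
  have haK : ∀ k ∈ K, T.ρ k (φ a) = φ a := fun k hk => by rw [← ha, map_mul, heK k hk, hYK k hk]
  have hφn : ∀ n : ℕ, φ (a ^ n) = e * Y ^ n := by
    intro n
    induction n with
    | zero => rw [pow_zero, pow_zero, mul_one, h1]
    | succ n ih =>
      rw [pow_succ, map_mul, ih, ← ha, pow_succ]
      have hc : Y ^ n * e = e * Y ^ n := by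
        clear ih
        induction n with
        | zero => rw [pow_zero, one_mul, mul_one]
        | succ n ih => rw [pow_succ, mul_assoc, hYe, ← mul_assoc, ih, mul_assoc]
      rw [mul_assoc, ← mul_assoc (Y ^ n), hc, mul_assoc e (Y ^ n) Y, ← mul_assoc e e, he.idem]
  have has : star a * a = 1 := by
    apply hi
    rw [map_mul, hst, ← ha, star_mul, he.sym, h1]
    calc star Y * e * (e * Y) = star Y * (e * e * Y) := by simp only [mul_assoc]
      _ = star Y * (Y * e) := by rw [he.idem, hYe]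
      _ = e := by rw [← mul_assoc, hYs, one_mul]
  have hap : a ^ p = 1 := by
    apply hi
    rw [hφn, hYp, mul_one, h1]
  have ha1 : a ≠ 1 := by
    rintro rfl
    rw [h1] at ha
    exact hne ha
  obtain ⟨g, b, hg, hb, hgb⟩ := Cfsg.Agent.H901.CA.uni_full h hp hp2 inferInstance a has hap ha1
  obtain ⟨γ, hγ1, hγ2⟩ := extend h he he1 hst h1 hd hg
  -- conjugation with `j γ`
  have hfix : ∀ n : ℕ, ∀ k ∈ K, T.ρ k (φ (a ^ n)) = φ (a ^ n) := by
    intro n k hk
    rw [hφn, map_mul, map_pow, heK k hk, hYK k hk]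
  have hconj : T.ρ (T.j γ) (φ a) = φ (a ^ b) := by
    rw [T.ρ_j]
    have e1 : φ a = e * φ a * e := by rw [← h1, ← map_mul, ← map_mul, one_mul, mul_one]
    have e2 : e * star (mt γ) = φ (star g) := by rw [hst, ← hγ1, star_mul, he.sym]
    rw [e1]
    calc mt γ * (e * φ a * e) * star (mt γ) = (mt γ * e) * φ a * (e * star (mt γ)) := by simp only [mul_assoc]
      _ = φ (a ^ b) := by rw [hγ1, e2, ← map_mul, ← map_mul, hgb]
  have hmem : (T.j γ)⁻¹ ∈ T.fixer (φ a) := by
    refine mem_of_conj_le hS hK (fun k hk => haK k hk) ?_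
    intro y hy
    rw [mem_cj, inv_inv] at hy
    set k := T.j γ * y * (T.j γ)⁻¹ with hkdef
    have hy' : y = (T.j γ)⁻¹ * (k * T.j γ) := by rw [hkdef]; group
    rw [TA.mem_fixer, hy', T.ρ_mul, T.ρ_mul, hconj, hfix b k hy, ← hconj, T.ρ_inv]
  have h2 := inv_mem hmem
  rw [inv_inv, TA.mem_fixer, hconj] at h2
  have h3 := hi h2
  -- `a ^ b = a`, `a ^ p = 1`
  have hau : IsUnit a := IsUnit.of_mul_eq_one (star a) (mul_eq_one_comm.1 has)
  obtain ⟨u, hu⟩ := hau
  apply ha1
  have h4 : u ^ b = u := Units.ext (by rw [Units.val_pow_eq_pow_val, hu]; exact h3)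
  have h5 : u ^ p = 1 := Units.ext (by rw [Units.val_pow_eq_pow_val, hu]; exact hap)
  have h6 : u ∈ (⊥ : Subgroup (Matrix ι' ι' E)ˣ) :=
    mem_of_pow_mem hp (by rw [h5]; exact one_mem _) (by rw [h4, mul_inv_cancel]; exact one_mem _) hb
  rw [Subgroup.mem_bot] at h6
  rw [← hu, h6, Units.val_one]

/-- **Claim P** -/
theorem claimP (hF : Fpf.{u}) (hp2 : p ≠ 2) (hn : 3 ≤ Fintype.card ι) : ¬ Hex T K p := by
  intro hex
  have : Nonempty ι := Fintype.card_pos_iff.1 (by omega)
  obtain ⟨y, hyp, hy1, hys, hyK, x, hxK, hxy⟩ := exists_unip h T hS hK hp hex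
  have hpf : PropFix T K := by
    rcases Cfsg.Agent.H901.CA.uni_st h p hp hp2 inferInstance ι y hyp hy1 with ⟨g, a, ha, hg⟩ | hb
    · exfalso
      refine ha (T.not_conj_pow hS hK (x := y) (fun k hk => by rw [hyK k hk]; exact Sc.refl _) hp ?_ hys (g := g) ?_)
      · rw [← map_pow, hyp, map_one]; exact Sc.refl _
      · rw [hg, map_pow]; exact Sc.refl _
    · obtain ⟨-, -, k, hk, hk2, -⟩ := hb
      refine claim1 hF hp hp2 (Fintype.card ι) Γ ι E h T hS K hK rfl ?_ (by omega)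
      rintro ⟨a, ha⟩
      rw [hk2] at ha hn
      rcases a with _ | a
      · omega
      · have h1 : k = 2 ^ a := by rw [pow_succ] at ha; omega
        rw [h1] at hk
        rcases a with _ | a
        · omega
        · rw [pow_succ] at hk
          exact (Nat.not_even_iff_odd.2 hk) (even_two.mul_left _)
  obtain ⟨e, he, h0, h1, hf⟩ := hpf
  have hYe : mt y * e = e * mt y := by
    obtain ⟨c, hc, hcx⟩ := hxy.symm
    have h2 := hf _ hxK
    rw [T.ρ_j] at h2
    have h3 : mt x * e = e * mt x := by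
      calc mt x * e = mt x * e * (star (mt x) * mt x) := by rw [star_mt_mul, mul_one]
        _ = (mt x * e * star (mt x)) * mt x := by rw [mul_assoc, mul_assoc, mul_assoc]
        _ = e * mt x := by rw [h2]
    rw [hcx, smul_mul_assoc, mul_smul_comm, h3]
  have hYp : mt y ^ p = 1 := by rw [← map_pow, hyp, map_one]
  have h2 := unip_corner h T hS hK hp hp2 (star_mt_mul y) hYp hyK he h1 hf hYe
  have h3 := unip_corner h T hS hK hp hp2 (star_mt_mul y) hYp hyK (Cfsg.Agent.H55.CA.isP_one_sub he)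
    (fun hc => h0 (by rw [sub_eq_self] at hc; exact hc)) (fun k hk => by rw [map_sub, map_one, hf k hk])
    (by rw [mul_sub, sub_mul, mul_one, one_mul, hYe])
  apply hy1
  apply mt_injective
  rw [map_one]
  calc mt y = e * mt y + (1 - e) * mt y := by rw [← add_mul, add_sub_cancel, one_mul]
    _ = 1 := by rw [h2, h3, add_sub_cancel]

end

end Cfsg.Agent.H308.CA
end

-- part: H308/CA/Main3
section
/-!
# Claim 2: a complete orthogonal system of ranks distinct powers of `2`, fixed by `K`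
-/

set_option autoImplicit false
set_option linter.unusedSectionVars false
set_option linter.unusedVariables false

namespace Cfsg.Agent.H308.CA

open Subgroup Pointwise Matrix
open Cfsg.Agent.Solvable.Carter Cfsg.Agent.H18.Carter Cfsg.Agent.H381.Car

universe u

/-- orthogonal systems of ranks distinct powers of `2` with sum `f`, fixed by `K` -/
structure Sys {Γ : Type u} [Group Γ] {ι : Type} [Fintype ι] [DecidableEq ι] {E : Type} [CommRing E] [StarRing E]
    (T : TA Γ ι E) (K : Subgroup Γ) (f : Matrix ι ι E) (s : Finset ℕ) (e : ℕ → Matrix ι ι E) : Prop where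
  isP : ∀ a ∈ s, IsP (e a)
  orth : ∀ a ∈ s, ∀ b ∈ s, a ≠ b → e a * e b = 0
  sum : ∑ a ∈ s, e a = f
  rk : ∀ a ∈ s, rk (e a) = 2 ^ a
  fix : ∀ a ∈ s, ∀ k ∈ K, T.ρ k (e a) = e a

section

variable {Γ : Type u} [Group Γ] {ι : Type} [Fintype ι] [DecidableEq ι] {E : Type} [CommRing E] [StarRing E]
  {T : TA Γ ι E} {K : Subgroup Γ} {ι' : Type} [Fintype ι'] [DecidableEq ι'] {E' : Type} [CommRing E'] [StarRing E']

theorem Sys.map (R : RedS T K ι' E') (hR : ∀ a, IsP a → CA.rk (R.φ a) = CA.rk a) {f : Matrix ι' ι' E'} {s : Finset ℕ}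
    {e : ℕ → Matrix ι' ι' E'} (S : Sys R.T' (K.subgroupOf R.M) f s e) : Sys T K (R.φ f) s (fun a => R.φ (e a)) where
  isP a ha := R.isP (S.isP a ha)
  orth a ha b hb hab := by rw [← map_mul, S.orth a ha b hb hab, map_zero]
  sum := by rw [← S.sum, map_sum]
  rk a ha := by rw [hR _ (S.isP a ha), S.rk a ha]
  fix a ha := R.fix (fun m hm => S.fix a ha m hm)

theorem Sys.mul_left {f : Matrix ι ι E} {s : Finset ℕ} {e : ℕ → Matrix ι ι E} (S : Sys T K f s e) {a : ℕ}
    (ha : a ∈ s) : e a * f = e a := by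
  rw [← S.sum, Finset.mul_sum, Finset.sum_eq_single_of_mem a ha fun b hb hab => S.orth a ha b hb hab.symm,
    (S.isP a ha).idem]

theorem Sys.mul_right {f : Matrix ι ι E} {s : Finset ℕ} {e : ℕ → Matrix ι ι E} (S : Sys T K f s e) {a : ℕ}
    (ha : a ∈ s) : f * e a = e a := by
  rw [← S.sum, Finset.sum_mul, Finset.sum_eq_single_of_mem a ha fun b hb hab => S.orth b hb a ha hab,
    (S.isP a ha).idem]

variable [Finite Γ]

theorem Sys.glue (h : Gd E) (hS : Sml Γ) (hK : IsCarter K) {e0 : Matrix ι ι E} (he0 : IsP e0) {s1 s2 : Finset ℕ}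
    {e1 e2 : ℕ → Matrix ι ι E} (S1 : Sys T K e0 s1 e1) (S2 : Sys T K (1 - e0) s2 e2) :
    Disjoint s1 s2 ∧ Sys T K 1 (s1 ∪ s2) (fun a => if a ∈ s1 then e1 a else e2 a) := by
  have h0 : e0 * (1 - e0) = 0 := by rw [mul_sub, mul_one, he0.idem, sub_self]
  have h0' : (1 - e0) * e0 = 0 := by rw [sub_mul, one_mul, he0.idem, sub_self]
  have ho : ∀ a ∈ s1, ∀ b ∈ s2, e1 a * e2 b = 0 := by
    intro a ha b hb
    rw [← S1.mul_left ha, ← S2.mul_right hb, mul_assoc, ← mul_assoc e0, h0, zero_mul, mul_zero]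
  have ho' : ∀ a ∈ s1, ∀ b ∈ s2, e2 b * e1 a = 0 := by
    intro a ha b hb
    rw [← S1.mul_right ha, ← S2.mul_left hb, mul_assoc, ← mul_assoc (1 - e0), h0', zero_mul, mul_zero]
  have hd : Disjoint s1 s2 := by
    rw [Finset.disjoint_left]
    intro a h1 h2
    have h3 := T.rk_ne (Cfsg.Agent.H35.CA.det_st h) (fam_st h) hS hK (S1.isP a h1) (S2.isP a h2) (ho a h1 a h2)
      (S1.fix a h1) (S2.fix a h2) (by rw [S1.rk a h1, S2.rk a h2])
    have h4 : e1 a = 0 := by
      have := (S1.isP a h1).idem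
      rw [← this]
      nth_rw 2 [h3]
      exact ho a h1 a h2
    have h5 := (Cfsg.Agent.H55.CA.rk_eq_zero h (S1.isP a h1)).2 h4
    rw [S1.rk a h1] at h5
    exact (pow_ne_zero a two_ne_zero) h5
  have hn : ∀ a ∈ s2, a ∉ s1 := fun a h2 h1 => Finset.disjoint_left.1 hd h1 h2
  refine ⟨hd, ?_, ?_, ?_, ?_, ?_⟩
  · intro a ha
    by_cases h1 : a ∈ s1
    · rw [if_pos h1]; exact S1.isP a h1
    · rw [if_neg h1]; exact S2.isP a ((Finset.mem_union.1 ha).resolve_left h1)
  · intro a ha b hb hab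
    by_cases h1 : a ∈ s1
    · rw [if_pos h1]
      by_cases h2 : b ∈ s1
      · rw [if_pos h2]; exact S1.orth a h1 b h2 hab
      · rw [if_neg h2]; exact ho a h1 b ((Finset.mem_union.1 hb).resolve_left h2)
    · rw [if_neg h1]
      have h1' := (Finset.mem_union.1 ha).resolve_left h1
      by_cases h2 : b ∈ s1
      · rw [if_pos h2]; exact ho' b h2 a h1'
      · rw [if_neg h2]; exact S2.orth a h1' b ((Finset.mem_union.1 hb).resolve_left h2) hab
  · rw [Finset.sum_union hd, Finset.sum_congr rfl fun a ha => if_pos ha,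
      Finset.sum_congr rfl fun a ha => if_neg (hn a ha), S1.sum, S2.sum, add_sub_cancel]
  · intro a ha
    by_cases h1 : a ∈ s1
    · rw [if_pos h1]; exact S1.rk a h1
    · rw [if_neg h1]; exact S2.rk a ((Finset.mem_union.1 ha).resolve_left h1)
  · intro a ha
    by_cases h1 : a ∈ s1
    · rw [if_pos h1]; exact S1.fix a h1
    · rw [if_neg h1]; exact S2.fix a ((Finset.mem_union.1 ha).resolve_left h1)

end

theorem rk_lt {ι : Type} [Fintype ι] [DecidableEq ι] {E : Type} [CommRing E] [StarRing E] (h : Gd E)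
    {e : Matrix ι ι E} (he : IsP e) (he1 : e ≠ 1) : rk e < Fintype.card ι := by
  have h1 := Cfsg.Agent.H55.CA.rk_sub h he
  have h2 : rk (1 - e) ≠ 0 := fun h0 => he1 (by
    rw [Cfsg.Agent.H55.CA.rk_eq_zero h (Cfsg.Agent.H55.CA.isP_one_sub he), sub_eq_zero] at h0
    exact h0.symm)
  omega

theorem one_sub_ne {ι : Type} [Fintype ι] [DecidableEq ι] {E : Type} [CommRing E] {e : Matrix ι ι E} (he0 : e ≠ 0) :
    1 - e ≠ 1 := fun hc => he0 (by rw [sub_eq_self] at hc; exact hc)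

/-- **Claim 2.** -/
theorem claim2 (hF : Fpf.{u}) {p : ℕ} (hp : p.Prime) (hp2 : p ≠ 2) (n : ℕ) :
    ∀ (Γ : Type u) [Group Γ] [Finite Γ] (ι : Type) [Fintype ι] [DecidableEq ι] (E : Type) [CommRing E] [StarRing E]
      (h : Gd E) [CharP E p] (T : TA Γ ι E) (hS : Sml Γ) (K : Subgroup Γ) (hK : IsCarter K),
      Fintype.card ι = n → ∃ (s : Finset ℕ) (e : ℕ → Matrix ι ι E), Sys T K 1 s e := by
  induction n using Nat.strong_induction_on with
  | _ n IH =>
  intro Γ _ _ ι _ _ E _ _ h _ T hS K hK hn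
  by_cases h0 : n = 0
  · have : IsEmpty ι := Fintype.card_eq_zero_iff.1 (by omega)
    exact ⟨∅, fun _ => 0, fun a ha => absurd ha (Finset.notMem_empty a), fun a ha => absurd ha (Finset.notMem_empty a),
      Matrix.ext fun i => isEmptyElim i, fun a ha => absurd ha (Finset.notMem_empty a),
      fun a ha => absurd ha (Finset.notMem_empty a)⟩
  by_cases h2 : ∃ a : ℕ, n = 2 ^ a
  · obtain ⟨a, ha⟩ := h2
    refine ⟨{a}, fun _ => 1, fun b hb => ⟨one_mul 1, star_one _⟩, fun b hb c hc hbc => ?_, Finset.sum_singleton _ _, ?_,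
      fun b hb k hk => map_one _⟩
    · rw [Finset.mem_singleton] at hb hc
      exact absurd (hb.trans hc.symm) hbc
    · intro b hb
      rw [Finset.mem_singleton] at hb
      rw [Cfsg.Agent.H55.CA.rk_one h, hb, hn, ha]
  · obtain ⟨e, he, he0, he1, heK⟩ := claim1 hF hp hp2 n Γ ι E h T hS K hK hn h2 h0
    obtain ⟨ι1, i1, i2, R1, hR1, hc1, hr1⟩ := corner h T he heK
    obtain ⟨ι2, j1, j2, R2, hR2, hc2, hr2⟩ := corner h T (Cfsg.Agent.H55.CA.isP_one_sub he)
      (K := K) (fun k hk => by rw [map_sub, map_one, heK k hk])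
    have hlt1 : Fintype.card ι1 < n := by rw [hc1, ← hn]; exact rk_lt h he he1
    have hlt2 : Fintype.card ι2 < n := by
      rw [hc2, ← hn]; exact rk_lt h (Cfsg.Agent.H55.CA.isP_one_sub he) (one_sub_ne he0)
    obtain ⟨s1, e1, S1⟩ := IH _ hlt1 R1.M ι1 E h R1.T' (hS.subgroup R1.M) (K.subgroupOf R1.M) (R1.carter hK) rfl
    obtain ⟨s2, e2, S2⟩ := IH _ hlt2 R2.M ι2 E h R2.T' (hS.subgroup R2.M) (K.subgroupOf R2.M) (R2.carter hK) rfl
    have S1' := S1.map R1 hr1
    have S2' := S2.map R2 hr2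
    rw [hR1] at S1'
    rw [hR2] at S2'
    exact ⟨_, _, (S1'.glue h hS hK he S2').2⟩

section

variable {Γ : Type u} [Group Γ] [Finite Γ] {ι : Type} [Fintype ι] [DecidableEq ι] {E : Type} [CommRing E] [StarRing E]
  (h : Gd E) (T : TA Γ ι E) (hS : Sml Γ) {K : Subgroup Γ} (hK : IsCarter K) {p : ℕ} (hp : p.Prime) [CharP E p]
include h hS hK hp

/-- systems refining a given `K`-fixed idempotent -/
theorem exists_sys (hF : Fpf.{u}) (hp2 : p ≠ 2) {e : Matrix ι ι E} (he : IsP e) (heK : ∀ k ∈ K, T.ρ k e = e) :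
    ∃ (s1 s2 : Finset ℕ) (f : ℕ → Matrix ι ι E), Disjoint s1 s2 ∧ Sys T K 1 (s1 ∪ s2) f ∧ ∑ a ∈ s1, f a = e := by
  obtain ⟨ι1, i1, i2, R1, hR1, hc1, hr1⟩ := corner h T he heK
  obtain ⟨ι2, j1, j2, R2, hR2, hc2, hr2⟩ := corner h T (Cfsg.Agent.H55.CA.isP_one_sub he)
    (K := K) (fun k hk => by rw [map_sub, map_one, heK k hk])
  obtain ⟨s1, e1, S1⟩ := claim2 hF hp hp2 _ R1.M ι1 E h R1.T' (hS.subgroup R1.M) (K.subgroupOf R1.M) (R1.carter hK) rfl
  obtain ⟨s2, e2, S2⟩ := claim2 hF hp hp2 _ R2.M ι2 E h R2.T' (hS.subgroup R2.M) (K.subgroupOf R2.M) (R2.carter hK) rfl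
  have S1' := S1.map R1 hr1
  have S2' := S2.map R2 hr2
  rw [hR1] at S1'
  rw [hR2] at S2'
  obtain ⟨hd, hS'⟩ := S1'.glue h hS hK he S2'
  refine ⟨s1, s2, _, hd, hS', ?_⟩
  rw [Finset.sum_congr rfl fun a ha => if_pos ha]
  exact S1'.sum

/-- for `n = 2 ^ a` there is no proper fixed idempotent -/
theorem not_propFix (hF : Fpf.{u}) (hp2 : p ≠ 2) {a : ℕ} (hn : Fintype.card ι = 2 ^ a) : ¬ PropFix T K := by
  rintro ⟨e, he, he0, he1, heK⟩
  obtain ⟨s1, s2, f, hd, hsys, hs1⟩ := exists_sys h T hS hK hp hF hp2 he heK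
  have h1 := Cfsg.Agent.H55.CA.card_eq_sum h (s1 ∪ s2) f hsys.isP hsys.orth hsys.sum hsys.rk
  rw [hn] at h1
  have h2 : (fun s : Finset ℕ => ∑ i ∈ s, 2 ^ i) {a} = (fun s : Finset ℕ => ∑ i ∈ s, 2 ^ i) (s1 ∪ s2) := by
    simp only [Finset.sum_singleton]
    exact h1
  have h3 := Finset.geomSum_injective le_rfl h2
  by_cases ha : a ∈ s1
  · have h4 : s2 = ∅ := by
      rw [Finset.eq_empty_iff_forall_notMem]
      intro b hb
      have h5 : b ∈ ({a} : Finset ℕ) := by rw [h3]; exact Finset.mem_union_right _ hb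
      rw [Finset.mem_singleton] at h5
      subst h5
      exact Finset.disjoint_left.1 hd ha hb
    apply he1
    rw [← hs1, ← hsys.sum, h4, Finset.union_empty]
  · have h4 : s1 = ∅ := by
      rw [Finset.eq_empty_iff_forall_notMem]
      intro b hb
      have h5 : b ∈ ({a} : Finset ℕ) := by rw [h3]; exact Finset.mem_union_left _ hb
      rw [Finset.mem_singleton] at h5
      subst h5
      exact ha hb
    apply he0
    rw [← hs1, h4, Finset.sum_empty]

/-- for `n = 2 ^ a`, `K ∩ SU` is a `2`-group modulo scalars, if it has no elements of order `p` -/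
theorem not_hex_odd (hF : Fpf.{u}) (hp2 : p ≠ 2) {a : ℕ} (hn : Fintype.card ι = 2 ^ a) (hP : ¬ Hex T K p) {r : ℕ}
    (hr : r.Prime) (hr2 : r ≠ 2) : ¬ Hex T K r := by
  intro hex
  by_cases hrp : r = p
  · rw [hrp] at hex; exact hP hex
  rcases step h (Cfsg.Agent.H35.CA.det_st h) (Cfsg.Agent.H908.CarterPC.pc_st h)
    (Cfsg.Agent.H957.CarLab.lab_st h (fam_st h)) (ex_st h) hS hK
    hr hr2 (isUnit_of_ne h hp hr hrp) hex with hP | ⟨m, E', i, s, hG, hc, hrm, hch, R, hR⟩
  · exact not_propFix h T hS hK hp hF hp2 hn hP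
  · exact not_two_pow_of_dvd hr hr2 ⟨m, hc⟩ ⟨a, hn⟩

end

end Cfsg.Agent.H308.CA
end
end

-- part: H308/CA/Main4
section
prune_inst 0x10000000000000
set_option linter.all false
open scoped Cfsg.Agent.FastGrp

/-!
# A Carter subgroup normalises a Sylow `2`-subgroup of the special unitary group
-/

set_option autoImplicit false
set_option linter.unusedSectionVars false
set_option linter.unusedVariables false

namespace Cfsg.Agent.H308.CA

open Subgroup Pointwise Matrix
open Cfsg.Agent.Solvable.Carter Cfsg.Agent.H18.Carter Cfsg.Agent.H381.Car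

universe u

section

variable {ι : Type} [Fintype ι] [DecidableEq ι] {E : Type} [CommRing E] [StarRing E]

/-- the elements of `SU` which are the identity on `f` -/
def LS (f : Matrix ι ι E) : Subgroup (SU ι E) where
  carrier := {v | mt v * f = f}
  one_mem' := by
    change mt (1 : SU ι E) * f = f
    rw [map_one, one_mul]
  mul_mem' := by
    intro v w hv hw
    change mt (v * w) * f = f
    rw [map_mul, mul_assoc]
    change mt w * f = f at hw
    rw [hw]; exact hv
  inv_mem' := by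
    intro v hv
    change mt v⁻¹ * f = f
    change mt v * f = f at hv
    rw [mt_inv]
    nth_rw 1 [← hv]
    rw [← mul_assoc, star_mt_mul, one_mul]

theorem mem_LS {f : Matrix ι ι E} {v : SU ι E} : v ∈ LS f ↔ mt v * f = f := Iff.rfl

theorem LS_right {f : Matrix ι ι E} (hf : IsP f) {v : SU ι E} (hv : v ∈ LS f) : f * mt v = f := by
  have h1 := mem_LS.1 (inv_mem hv)
  rw [mt_inv] at h1
  have h2 := congrArg star h1
  rwa [star_mul, star_star, hf.sym] at h2

/-- the elements commuting with `e` -/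
def CS (e : Matrix ι ι E) : Subgroup (SU ι E) where
  carrier := {v | mt v * e = e * mt v}
  one_mem' := by
    change mt (1 : SU ι E) * e = e * mt (1 : SU ι E)
    rw [map_one, one_mul, mul_one]
  mul_mem' := by
    intro v w hv hw
    change mt v * e = e * mt v at hv
    change mt w * e = e * mt w at hw
    change mt (v * w) * e = e * mt (v * w)
    rw [map_mul, mul_assoc, hw, ← mul_assoc, hv, mul_assoc]
  inv_mem' := by
    intro v hv
    change mt v * e = e * mt v at hv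
    change mt v⁻¹ * e = e * mt v⁻¹
    rw [mt_inv]
    calc star (mt v) * e = star (mt v) * (e * (mt v * star (mt v))) := by rw [mt_mul_star, mul_one]
      _ = star (mt v) * (mt v * e) * star (mt v) := by rw [hv]; simp only [mul_assoc]
      _ = e * star (mt v) := by rw [← mul_assoc, star_mt_mul, one_mul]

theorem mem_CS {e : Matrix ι ι E} {v : SU ι E} : v ∈ CS e ↔ mt v * e = e * mt v := Iff.rfl

theorem LS_le_CS {e : Matrix ι ι E} (he : IsP e) : LS e ≤ CS e := by
  intro v hv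
  rw [mem_CS, mem_LS.1 hv, LS_right he hv]

theorem CS_compl (e : Matrix ι ι E) : CS (1 - e) = CS e := by
  ext v
  rw [mem_CS, mem_CS, mul_sub, sub_mul, mul_one, one_mul]
  constructor
  · intro h
    exact sub_right_injective h
  · intro h
    rw [h]

/-- `LS (1 - e)` and `LS e` commute -/
theorem LS_comm {e : Matrix ι ι E} (he : IsP e) {v w : SU ι E} (hv : v ∈ LS (1 - e)) (hw : w ∈ LS e) :
    v * w = w * v := by
  have he1 := Cfsg.Agent.H55.CA.isP_one_sub he
  have hv1 := mem_LS.1 hv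
  have hv2 := LS_right he1 hv
  have hw1 := mem_LS.1 hw
  have hw2 := LS_right he hw
  have hv3 : mt v * e = e * mt v := mem_CS.1 (by rw [← CS_compl]; exact LS_le_CS he1 hv)
  have hw3 : mt w * (1 - e) = (1 - e) * mt w := by rw [mul_sub, sub_mul, mul_one, one_mul, hw1, hw2]
  apply mt_injective
  rw [map_mul, map_mul]
  calc mt v * mt w = mt v * ((e + (1 - e)) * mt w) := by rw [add_sub_cancel, one_mul]
    _ = mt v * (e * mt w) + mt v * (1 - e) * mt w := by rw [add_mul, mul_add, mul_assoc (mt v) (1 - e)]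
    _ = mt v * e + (1 - e) * mt w := by rw [hw2, hv1]
    _ = e * mt v + mt w * (1 - e) := by rw [hv3, hw3]
    _ = mt w * (e * mt v) + mt w * ((1 - e) * mt v) := by rw [hv2, ← mul_assoc, hw1]
    _ = mt w * mt v := by rw [← mul_add, ← add_mul, add_sub_cancel, one_mul]

theorem CS_norm {e : Matrix ι ι E} {u v : SU ι E} (hu : u ∈ CS e) (hv : v ∈ LS e) : u * v * u⁻¹ ∈ LS e := by
  rw [mem_LS, map_mul, map_mul, mul_assoc, mem_CS.1 (inv_mem hu), ← mul_assoc, mul_assoc (mt u), mem_LS.1 hv,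
    mem_CS.1 hu, mul_assoc, ← map_mul, mul_inv_cancel, map_one, mul_one]

/-- the determinant on the corner -/
theorem corner_unit {e : Matrix ι ι E} (he : IsP e) {u : SU ι E} (hu : u ∈ CS e) :
    star (e * mt u + (1 - e)) * (e * mt u + (1 - e)) = 1 := by
  have h1 := mem_CS.1 hu
  have h2 := mem_CS.1 (inv_mem hu)
  rw [mt_inv] at h2
  have e1 : star (mt u) * e * (e * mt u) = e := by
    calc star (mt u) * e * (e * mt u) = star (mt u) * (e * e) * mt u := by simp only [mul_assoc]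
      _ = e * (star (mt u) * mt u) := by rw [he.idem, h2, mul_assoc]
      _ = e := by rw [star_mt_mul, mul_one]
  have e2 : star (mt u) * e * (1 - e) = 0 := by rw [mul_assoc, mul_sub, mul_one, he.idem, sub_self, mul_zero]
  have e3 : (1 - e) * (e * mt u) = 0 := by rw [← mul_assoc, sub_mul, one_mul, he.idem, sub_self, zero_mul]
  have e4 : (1 - e) * (1 - e) = 1 - e := (Cfsg.Agent.H55.CA.isP_one_sub he).idem
  rw [star_add, star_sub, star_one, star_mul, he.sym, add_mul, mul_add, mul_add, e1, e2, e3, e4]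
  abel

theorem corner_mul {e : Matrix ι ι E} (he : IsP e) {u v : SU ι E} (hu : u ∈ CS e) :
    e * mt (u * v) + (1 - e) = (e * mt u + (1 - e)) * (e * mt v + (1 - e)) := by
  have h1 := mem_CS.1 hu
  have e1 : e * mt u * (e * mt v) = e * mt (u * v) := by
    rw [map_mul, ← h1, mul_assoc, ← mul_assoc e e, he.idem, ← mul_assoc, h1, mul_assoc]
  have e2 : e * mt u * (1 - e) = 0 := by rw [← h1, mul_assoc, mul_sub, mul_one, he.idem, sub_self, mul_zero]
  have e3 : (1 - e) * (e * mt v) = 0 := by rw [← mul_assoc, sub_mul, one_mul, he.idem, sub_self, zero_mul]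
  have e4 : (1 - e) * (1 - e) = 1 - e := (Cfsg.Agent.H55.CA.isP_one_sub he).idem
  rw [add_mul, mul_add, mul_add, e1, e2, e3, e4]
  abel

/-- the determinant on the corner, as a homomorphism -/
def dcor {e : Matrix ι ι E} (he : IsP e) : CS e →* unitary E :=
  MonoidHom.mk' (fun u => ⟨(e * mt u.1 + (1 - e)).det, Unitary.mem_iff.2 (by
    have h1 : star (e * mt u.1 + (1 - e)).det * (e * mt u.1 + (1 - e)).det = 1 := by
      rw [← Matrix.det_conjTranspose, ← Matrix.star_eq_conjTranspose, ← Matrix.det_mul, corner_unit he u.2,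
        Matrix.det_one]
    exact ⟨h1, by rw [mul_comm]; exact h1⟩)⟩) (fun u v => Subtype.ext (by
      change (e * mt (u.1 * v.1) + (1 - e)).det = (e * mt u.1 + (1 - e)).det * (e * mt v.1 + (1 - e)).det
      rw [corner_mul he u.2, Matrix.det_mul]))

theorem dcor_ker {e : Matrix ι ι E} (he : IsP e) {u : CS e} (hu : dcor he u = 1) :
    ∃ v ∈ LS (1 - e), ∃ w ∈ LS e, (u : SU ι E) = v * w := by
  have h1 : (e * mt u.1 + (1 - e)).det = 1 := congrArg Subtype.val hu
  have hc := mem_CS.1 u.2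
  have hv : mkSU (e * mt u.1 + (1 - e)) (corner_unit he u.2) h1 ∈ LS (1 - e) := by
    rw [mem_LS, mt_mkSU, add_mul, ← hc, mul_assoc, mul_sub, mul_one, he.idem, sub_self, mul_zero, zero_add]
    exact (Cfsg.Agent.H55.CA.isP_one_sub he).idem
  refine ⟨_, hv, (mkSU (e * mt u.1 + (1 - e)) (corner_unit he u.2) h1)⁻¹ * u.1, ?_, by rw [mul_inv_cancel_left]⟩
  have h2 := mem_CS.1 (inv_mem u.2)
  rw [mt_inv] at h2
  rw [mem_LS, map_mul, mt_inv, mt_mkSU, star_add, star_sub, star_one, star_mul, he.sym, add_mul]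
  have e1 : star (mt u.1) * e * mt u.1 = e := by rw [h2, mul_assoc, star_mt_mul, mul_one]
  have e2 : (1 - e) * mt u.1 * e = 0 := by
    rw [mul_assoc, hc, ← mul_assoc, sub_mul, one_mul, he.idem, sub_self, zero_mul]
  rw [add_mul, e1, e2, he.idem, add_zero]

end

section

variable {Γ : Type u} [Group Γ] {ι : Type} [Fintype ι] [DecidableEq ι] {E : Type} [CommRing E] [StarRing E]

/-- invariant subgroups -/
theorem norm_map (T : TA Γ ι E) (hD : DetSt E) {K : Subgroup Γ} {X : Subgroup (SU ι E)}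
    (hX : ∀ k ∈ K, ∀ v ∈ X, T.act hD k v ∈ X) : K ≤ normalizer ((X.map T.j : Subgroup Γ) : Set Γ) := by
  have key : ∀ k ∈ K, ∀ x ∈ X.map T.j, k * x * k⁻¹ ∈ X.map T.j := by
    rintro k hk _ ⟨v, hv, rfl⟩
    rw [T.conj_eq hD]
    exact ⟨_, hX k hk v hv, rfl⟩
  intro k hk
  rw [mem_normalizer_iff]
  intro x
  refine ⟨key k hk x, fun h => ?_⟩
  have h1 := key k⁻¹ (inv_mem hk) _ h
  have e : k⁻¹ * (k * x * k⁻¹) * k⁻¹⁻¹ = x := by group
  rwa [e] at h1

theorem act_LS (T : TA Γ ι E) (hD : DetSt E) {k : Γ} {f : Matrix ι ι E} (hf : T.ρ k f = f) {v : SU ι E}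
    (hv : v ∈ LS f) : T.act hD k v ∈ LS f := by
  rw [mem_LS, T.mt_act]
  nth_rw 1 [← hf]
  rw [← map_mul, mem_LS.1 hv, hf]

theorem act_CS (T : TA Γ ι E) (hD : DetSt E) {k : Γ} {f : Matrix ι ι E} (hf : T.ρ k f = f) {v : SU ι E}
    (hv : v ∈ CS f) : T.act hD k v ∈ CS f := by
  rw [mem_CS, T.mt_act]
  nth_rw 1 [← hf]
  rw [← map_mul, mem_CS.1 hv, map_mul, hf]

/-- corners, with all their properties -/
theorem corner' (h : Gd E) (T : TA Γ ι E) {K : Subgroup Γ} {e : Matrix ι ι E} (he : IsP e)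
    (hK : ∀ k ∈ K, T.ρ k e = e) :
    ∃ (ι' : Type) (_ : Fintype ι') (_ : DecidableEq ι') (R : RedS T K ι' E), R.φ 1 = e ∧ Fintype.card ι' = rk e ∧
      (∀ a, rk (R.φ a) = rk a) ∧ R.T'.j.range.map R.M.subtype = (LS (1 - e)).map T.j := by
  obtain ⟨ι', i1, i2, φ, hi, hst, h1, hc, hr, hd, hrk⟩ := cor_data h he
  have hsu : ∀ u : SU ι' E, (φ (mt u) + (1 - φ 1)).det = 1 := fun u => by rw [hd, mt_det]
  obtain ⟨M, T', h4, h5, h6⟩ := Cfsg.Agent.H35.CA.exists_red T (K := K) φ hi hst hsu (by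
    intro k hk a
    apply hr
    have e1 : e * φ a * e = φ a := by
      rw [← h1, ← map_mul, ← map_mul, one_mul, mul_one]
    calc e * T.ρ k (φ a) * e = T.ρ k e * T.ρ k (φ a) * T.ρ k e := by rw [hK k hk]
      _ = _ := by rw [← map_mul, ← map_mul, e1])
  refine ⟨ι', i1, i2, ⟨φ, M, T', hi, hst, h4, h5, h6⟩, h1, hc, hrk, le_antisymm ?_ ?_⟩
  · rintro _ ⟨_, ⟨u, rfl⟩, rfl⟩
    obtain ⟨v, hv, hj⟩ := h6 u
    refine ⟨v, ?_, hj.symm⟩
    rw [SetLike.mem_coe, mem_LS, hv, h1]
    have e1 : φ (mt u) * e = φ (mt u) := by rw [← h1, ← map_mul, mul_one]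
    rw [add_mul, mul_sub, mul_one, e1, sub_self, zero_add]
    exact (Cfsg.Agent.H55.CA.isP_one_sub he).idem
  · rintro _ ⟨v, hv, rfl⟩
    have hv1 := mem_LS.1 hv
    have hv2 := LS_right (Cfsg.Agent.H55.CA.isP_one_sub he) hv
    have hv3 : mt v * e = e * mt v := mem_CS.1 (by
      rw [← CS_compl]; exact LS_le_CS (Cfsg.Agent.H55.CA.isP_one_sub he) hv)
    obtain ⟨a, ha⟩ := hr (e * mt v) (by rw [← mul_assoc, he.idem, mul_assoc, hv3, ← mul_assoc, he.idem])
    have hv4 : mt v = φ a + (1 - φ 1) := by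
      rw [h1, ← ha]
      calc mt v = (e + (1 - e)) * mt v := by rw [add_sub_cancel, one_mul]
        _ = _ := by rw [add_mul, hv2]
    have hda : a.det = 1 := by rw [← hd, ← hv4, mt_det]
    have haa : star a * a = 1 := by
      apply hi
      rw [map_mul, hst, ← ha, star_mul, he.sym, h1]
      calc star (mt v) * e * (e * mt v) = star (mt v) * (e * e * mt v) := by simp only [mul_assoc]
        _ = star (mt v) * (mt v * e) := by rw [he.idem, hv3]
        _ = e := by rw [← mul_assoc, star_mt_mul, one_mul]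
    obtain ⟨w, hw, hj⟩ := h6 (mkSU a haa hda)
    have hwv : w = v := mt_injective (by rw [hw, mt_mkSU, hv4])
    rw [← hwv, ← hj]
    exact ⟨_, ⟨mkSU a haa hda, rfl⟩, rfl⟩

end

end Cfsg.Agent.H308.CA
end

-- part: H308/CA/Main5
section
prune_inst 0x10000000000000
set_option linter.all false
open scoped Cfsg.Agent.FastGrp

/-!
# A Carter subgroup normalises a Sylow `2`-subgroup of the special unitary group, II
-/

set_option autoImplicit false
set_option linter.unusedSectionVars false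
set_option linter.unusedVariables false

namespace Cfsg.Agent.H308.CA

open Subgroup Pointwise Matrix
open Cfsg.Agent.Solvable.Carter Cfsg.Agent.H18.Carter Cfsg.Agent.H381.Car

universe u

/-- elements of order `p` modulo scalars in a reduction -/
theorem hex_of_red {Γ : Type u} [Group Γ] {ι : Type} [Fintype ι] [DecidableEq ι] {E : Type} [CommRing E] [StarRing E]
    {T : TA Γ ι E} {K : Subgroup Γ} {ι' : Type} [Fintype ι'] [DecidableEq ι'] {E' : Type} [CommRing E'] [StarRing E']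
    (h : Gd E') (R : RedS T K ι' E') {p : ℕ} (hp : p.Prime) [CharP E' p] (hex : Hex R.T' (K.subgroupOf R.M) p) :
    Hex T K p := by
  obtain ⟨m, hmK, ⟨u, rfl⟩, hmZ, hmp⟩ := hex
  have hu1 : ¬ Sc (mt u) 1 := fun hc => hmZ (R.T'.j_mem_Z.2 hc)
  rw [← map_pow, R.T'.j_mem_Z, map_pow] at hmp
  have := h.finite
  obtain ⟨c, hc, hcu⟩ := hmp
  set N := Nat.card (unitary E') with hN
  have hco : Nat.Coprime N p :=
    (Nat.coprime_comm.1 ((Nat.Prime.coprime_iff_not_dvd hp).2 (not_dvd_unitary h hp)))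
  obtain ⟨t, ht0, ht1⟩ := Nat.chineseRemainder hco 0 1
  have hNt : N ∣ t := (Nat.modEq_zero_iff_dvd).1 ht0
  have hct : c ^ t = 1 := by
    let C : unitary E' := ⟨c, Unitary.mem_iff.2 ⟨hc, by rw [mul_comm]; exact hc⟩⟩
    have h1 : C ^ t = 1 := by
      obtain ⟨q, hq⟩ := hNt
      rw [hq, pow_mul, hN, pow_card_eq_one', one_pow]
    exact congrArg Subtype.val h1
  have hup : (u ^ t) ^ p = 1 := by
    apply mt_injective
    rw [← pow_mul, mul_comm, pow_mul, map_pow, map_pow, hcu, smul_pow, one_pow, hct, one_smul, map_one]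
  have hut : ¬ Sc (mt (u ^ t)) 1 := by
    intro hs
    apply hu1
    have h1 : t ≠ 0 := by
      rintro rfl
      have := (Nat.modEq_iff_dvd' (Nat.zero_le 1)).1 ht1
      exact hp.one_lt.ne' (Nat.dvd_one.1 this)
    obtain ⟨q, hq⟩ := (Nat.modEq_iff_dvd' (Nat.pos_of_ne_zero h1)).1 ht1.symm
    have hq' : t = 1 + p * q := by omega
    have h2 : u ^ t = u * (u ^ p) ^ q := by rw [hq', pow_add, pow_one, pow_mul]
    have h3 : (u ^ p) ^ q ∈ scal ι' E' := pow_mem (by rw [mem_scal, map_pow]; exact ⟨c, hc, hcu⟩) q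
    have h4 : u ^ t ∈ scal ι' E' := hs
    rw [h2] at h4
    exact (Subgroup.mul_mem_cancel_right _ h3).1 h4
  obtain ⟨v, hv, hj⟩ := R.jr (u ^ t)
  refine ⟨T.j v, ?_, ⟨v, rfl⟩, ?_, ?_⟩
  · rw [← hj, map_pow]
    have h5 := pow_mem hmK t
    rw [mem_subgroupOf] at h5
    exact h5
  · intro hz
    obtain ⟨d, hd, hdv⟩ := T.j_mem_Z.1 hz
    apply hut
    apply sc_of_comm
    intro a
    apply R.inj
    have h1 : R.φ (mt (u ^ t)) * R.φ 1 = R.φ (mt (u ^ t)) := by rw [← map_mul, mul_one]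
    have h1' : R.φ 1 * R.φ (mt (u ^ t)) = R.φ (mt (u ^ t)) := by rw [← map_mul, one_mul]
    have h11 : R.φ 1 * R.φ 1 = R.φ 1 := by rw [← map_mul, one_mul]
    have h6 : R.φ (mt (u ^ t)) = d • R.φ 1 := by
      calc R.φ (mt (u ^ t)) = mt v * R.φ 1 := by
            rw [hv, add_mul, sub_mul, one_mul, h11, sub_self, add_zero, h1]
        _ = d • R.φ 1 := by rw [hdv, smul_mul_assoc, one_mul]
    rw [map_mul, map_mul, h6, smul_mul_assoc, mul_smul_comm, ← map_mul, ← map_mul, one_mul, mul_one]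
  · rw [← hj, ← Subgroup.coe_pow, ← map_pow, hup, map_one, Subgroup.coe_one]
    exact one_mem _

/-- `K` normalises a Sylow `2`-subgroup of the special unitary group -/
def NT {Γ : Type u} [Group Γ] {ι : Type} [Fintype ι] [DecidableEq ι] {E : Type} [CommRing E] [StarRing E]
    (T : TA Γ ι E) (K : Subgroup Γ) : Prop :=
  ∃ P : Subgroup Γ, P ≤ T.j.range ∧ IsPGroup 2 P ∧ ¬ 2 ∣ P.relIndex T.j.range ∧ K ≤ normalizer (P : Set Γ)

/-- the case of two complementary corners -/
theorem nt_glue (hF : Fpf.{u}) {p : ℕ} (hp : p.Prime) (hp2 : p ≠ 2) {Γ : Type u} [Group Γ] [Finite Γ] {ι : Type}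
    [Fintype ι] [DecidableEq ι] {E : Type} [CommRing E] [StarRing E] (h : Gd E) [CharP E p] (T : TA Γ ι E)
    (hS : Sml Γ) {K : Subgroup Γ} (hK : IsCarter K) {e : Matrix ι ι E} (he : IsP e) (heK : ∀ k ∈ K, T.ρ k e = e)
    {L1 L2 T1 T2 : Subgroup Γ} (hL1 : L1 = (LS (1 - e)).map T.j) (hL2 : L2 = (LS e).map T.j) (h1 : T1 ≤ L1)
    (h2 : T2 ≤ L2) (p1 : IsPGroup 2 T1) (p2 : IsPGroup 2 T2) (i1 : ¬ 2 ∣ T1.relIndex L1) (i2 : ¬ 2 ∣ T2.relIndex L2)
    (hK1 : K ≤ normalizer (T1 : Set Γ)) (hK2 : K ≤ normalizer (T2 : Set Γ)) : NT T K := by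
  have hD := Cfsg.Agent.H35.CA.det_st h
  have he1 := Cfsg.Agent.H55.CA.isP_one_sub he
  have heK' : ∀ k ∈ K, T.ρ k (1 - e) = 1 - e := fun k hk => by rw [map_sub, map_one, heK k hk]
  have hL1Y : L1 ≤ (CS e).map T.j := by
    rw [hL1, ← CS_compl]; exact map_mono (LS_le_CS he1)
  have hL2Y : L2 ≤ (CS e).map T.j := by
    rw [hL2]; exact map_mono (LS_le_CS he)
  have hc : ∀ x ∈ L1, ∀ y ∈ L2, x * y = y * x := by
    rw [hL1, hL2]
    rintro _ ⟨v, hv, rfl⟩ _ ⟨w, hw, rfl⟩
    rw [← map_mul, LS_comm he hv hw, map_mul]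
  obtain ⟨hTp, hTi⟩ := Cfsg.Agent.H248.CA.Prod.sylow_prod hc h1 h2 p1 p2 i1 i2
  have hLY : L1 ⊔ L2 ≤ (CS e).map T.j := sup_le hL1Y hL2Y
  -- `Y` normalises `L1 ⊔ L2`
  have hn1 : (CS e).map T.j ≤ normalizer (L1 : Set Γ) := by
    have key : ∀ y ∈ (CS e).map T.j, ∀ x ∈ L1, y * x * y⁻¹ ∈ L1 := by
      rw [hL1]
      rintro _ ⟨u, hu, rfl⟩ _ ⟨v, hv, rfl⟩
      rw [← map_inv, ← map_mul, ← map_mul]
      exact ⟨_, CS_norm (by rw [CS_compl]; exact hu) hv, rfl⟩
    intro y hy
    rw [mem_normalizer_iff]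
    intro x
    refine ⟨key y hy x, fun h => ?_⟩
    have h3 := key y⁻¹ (inv_mem hy) _ h
    have e3 : y⁻¹ * (y * x * y⁻¹) * y⁻¹⁻¹ = x := by group
    rwa [e3] at h3
  have hn2 : (CS e).map T.j ≤ normalizer (L2 : Set Γ) := by
    have key : ∀ y ∈ (CS e).map T.j, ∀ x ∈ L2, y * x * y⁻¹ ∈ L2 := by
      rw [hL2]
      rintro _ ⟨u, hu, rfl⟩ _ ⟨v, hv, rfl⟩
      rw [← map_inv, ← map_mul, ← map_mul]
      exact ⟨_, CS_norm hu hv, rfl⟩
    intro y hy
    rw [mem_normalizer_iff]
    intro x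
    refine ⟨key y hy x, fun h => ?_⟩
    have h3 := key y⁻¹ (inv_mem hy) _ h
    have e3 : y⁻¹ * (y * x * y⁻¹) * y⁻¹⁻¹ = x := by group
    rwa [e3] at h3
  have hsup : ∀ {A B M : Subgroup Γ}, M ≤ normalizer (A : Set Γ) → M ≤ normalizer (B : Set Γ) →
      M ≤ normalizer ((A ⊔ B : Subgroup Γ) : Set Γ) := by
    intro A B M hA hB x hx
    rw [mem_normalizer_iff_map_conj_eq, Subgroup.map_sup]
    rw [mem_normalizer_iff_map_conj_eq.1 (hA hx), mem_normalizer_iff_map_conj_eq.1 (hB hx)]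
  have hnL : (CS e).map T.j ≤ normalizer ((L1 ⊔ L2 : Subgroup Γ) : Set Γ) := hsup hn1 hn2
  have hKY : K ≤ normalizer (((CS e).map T.j : Subgroup Γ) : Set Γ) :=
    norm_map T hD fun k hk v hv => act_CS T hD (heK k hk) hv
  have hKL1 : K ≤ normalizer (L1 : Set Γ) := by
    rw [hL1]; exact norm_map T hD fun k hk v hv => act_LS T hD (heK' k hk) hv
  have hKL2 : K ≤ normalizer (L2 : Set Γ) := by
    rw [hL2]; exact norm_map T hD fun k hk v hv => act_LS T hD (heK k hk) hv
  have hnorm : ((L1 ⊔ L2).subgroupOf ((CS e).map T.j)).Normal := by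
    rw [normal_subgroupOf_iff_le_normalizer hLY]
    exact hnL
  have hCy := h.cyclic
  have hcyc : IsCyclic (↥((CS e).map T.j) ⧸ (L1 ⊔ L2).subgroupOf ((CS e).map T.j)) := by
    refine Cfsg.Agent.H248.CA.Prod.isCyclic_quot T.j (CS e) (dcor he) (L1 ⊔ L2) ?_
    intro u hu
    obtain ⟨v, hv, w, hw, huv⟩ := dcor_ker he hu
    rw [huv, map_mul]
    refine mul_mem (mem_sup_left ?_) (mem_sup_right ?_)
    · rw [hL1]; exact ⟨v, hv, rfl⟩
    · rw [hL2]; exact ⟨w, hw, rfl⟩
  obtain ⟨P, hPY, hPp, hPi, hPK⟩ := Cfsg.Agent.H248.CA.sylow_two_ext hS hK ((CS e).map T.j) (L1 ⊔ L2) (T1 ⊔ T2) hLY hKY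
    (hsup hKL1 hKL2) hnL hcyc (sup_le_sup h1 h2) hTp hTi (hsup hK1 hK2)
  have hYr : (CS e).map T.j ≤ T.j.range := by
    rw [MonoidHom.range_eq_map] ; exact map_mono le_top
  refine ⟨P, hPY.trans hYr, hPp, ?_, hPK⟩
  rw [← relIndex_mul_relIndex _ _ _ hPY hYr]
  refine Nat.Prime.not_dvd_mul Nat.prime_two hPi ?_
  -- the index of `Y`
  obtain ⟨s1, s2, f, hd, hsys, hs1⟩ := exists_sys h T hS hK hp hF hp2 he heK
  have hodd : ¬ 2 ∣ (CS e).index := by
    refine Cfsg.Agent.H55.CA.index_odd h (by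
      have := isUnit_of_ne (E := E) h hp Nat.prime_two hp2.symm
      exact_mod_cast this) (two_st h) (s1 ∪ s2) f hsys.isP hsys.orth hsys.sum hsys.rk (CS e) ?_
    intro u hu
    rw [mem_CS, ← hs1, Finset.mul_sum, Finset.sum_mul]
    exact Finset.sum_congr rfl fun a ha => hu a (Finset.mem_union_left _ ha)
  intro hdv
  rw [MonoidHom.range_eq_map, relIndex_map_map, top_sup_eq, relIndex_top_right] at hdv
  exact hodd (hdv.trans (index_dvd_of_le le_sup_left))

/-- **NTwo** -/
theorem nTwo_aux (hF : Fpf.{u}) {p : ℕ} (hp : p.Prime) (hp2 : p ≠ 2) (n : ℕ) :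
    ∀ (Γ : Type u) [Group Γ] [Finite Γ] (ι : Type) [Fintype ι] [DecidableEq ι] (E : Type) [CommRing E] [StarRing E]
      (h : Gd E) [CharP E p] (T : TA Γ ι E) (hS : Sml Γ) (K : Subgroup Γ) (hK : IsCarter K),
      Fintype.card ι = n → ¬ Hex T K p → NT T K := by
  induction n using Nat.strong_induction_on with
  | _ n IH =>
  intro Γ _ _ ι _ _ E _ _ h _ T hS K hK hn hP
  have hD := Cfsg.Agent.H35.CA.det_st h
  have : Fact (Nat.Prime 2) := ⟨Nat.prime_two⟩
  by_cases h0 : n = 0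
  · have : IsEmpty ι := Fintype.card_eq_zero_iff.1 (by omega)
    exact T.lemma_x_ta hD hF hS hK (l := 2) fun r hr hr2 hex => by
      obtain ⟨k, -, ⟨u, rfl⟩, hkZ, -⟩ := hex
      exact hkZ (T.j_mem_Z.2 ⟨1, by rw [star_one, one_mul], Matrix.ext fun i => isEmptyElim i⟩)
  by_cases h2 : ∃ a : ℕ, n = 2 ^ a
  · obtain ⟨a, ha⟩ := h2
    exact T.lemma_x_ta hD hF hS hK (l := 2) fun r hr hr2 =>
      not_hex_odd h T hS hK hp hF hp2 (a := a) (by rw [hn, ha]) hP hr hr2
  · obtain ⟨e, he, he0, he1, heK⟩ := claim1 hF hp hp2 n Γ ι E h T hS K hK hn h2 h0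
    obtain ⟨ι1, i1, i2, R1, hR1, hc1, hr1, hL1⟩ := corner' h T he heK
    obtain ⟨ι2, j1, j2, R2, hR2, hc2, hr2, hL2⟩ := corner' h T (Cfsg.Agent.H55.CA.isP_one_sub he)
      (K := K) (fun k hk => by rw [map_sub, map_one, heK k hk])
    have hlt1 : Fintype.card ι1 < n := by rw [hc1, ← hn]; exact rk_lt h he he1
    have hlt2 : Fintype.card ι2 < n := by
      rw [hc2, ← hn]; exact rk_lt h (Cfsg.Agent.H55.CA.isP_one_sub he) (one_sub_ne he0)
    obtain ⟨P1, a1, a2, a3, a4⟩ := IH _ hlt1 R1.M ι1 E h R1.T' (hS.subgroup R1.M) (K.subgroupOf R1.M) (R1.carter hK) rfl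
      (fun hc => hP (hex_of_red h R1 hp hc))
    obtain ⟨P2, b1, b2, b3, b4⟩ := IH _ hlt2 R2.M ι2 E h R2.T' (hS.subgroup R2.M) (K.subgroupOf R2.M) (R2.carter hK) rfl
      (fun hc => hP (hex_of_red h R2 hp hc))
    rw [sub_sub_cancel] at hL2
    exact nt_glue hF hp hp2 h T hS hK he heK (L1 := R1.T'.j.range.map R1.M.subtype)
      (L2 := R2.T'.j.range.map R2.M.subtype) (T1 := P1.map R1.M.subtype) (T2 := P2.map R2.M.subtype) hL1 hL2
      (map_mono a1) (map_mono b1) (a2.map _) (b2.map _)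
      (by rw [relIndex_map_map_of_injective _ _ (subtype_injective _)]; exact a3)
      (by rw [relIndex_map_map_of_injective _ _ (subtype_injective _)]; exact b3)
      (R1.map_inv a4) (R2.map_inv b4)

theorem nTwo (hF : Fpf.{u}) {p : ℕ} (hp : p.Prime) (hp2 : p ≠ 2) {Γ : Type u} [Group Γ] [Finite Γ] {ι : Type}
    [Fintype ι] [DecidableEq ι] {E : Type} [CommRing E] [StarRing E] (h : Gd E) [CharP E p] (T : TA Γ ι E)
    (hS : Sml Γ) {K : Subgroup Γ} (hK : IsCarter K) (hn : 3 ≤ Fintype.card ι) : NT T K :=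
  nTwo_aux hF hp hp2 _ Γ ι E h T hS K hK rfl (claimP h T hS hK hp hF hp2 hn)

end Cfsg.Agent.H308.CA
end

-- part: H308/CA/Rows
section
prune_inst 0x10000000000000
set_option linter.all false
open scoped Cfsg.Agent.FastGrp

/-!
# The rows `PSL_n`, `PSU_n`, `n ≥ 3`
-/

set_option autoImplicit false
set_option linter.unusedSectionVars false
set_option linter.unusedVariables false

namespace Cfsg.Agent.H308.CA

open Subgroup Pointwise Matrix
open Cfsg.Agent.Solvable.Carter Cfsg.Agent.H18.Carter Cfsg.Agent.H381.Car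

universe u

section

variable {G : Type u} [Group G] [Finite G] {S : Subgroup G} [S.Normal]

end

section

variable {Γ : Type u} [Group Γ] {ι : Type} [Fintype ι] [DecidableEq ι] {E : Type} [CommRing E] [StarRing E]

end

/-- the characteristic of a finite field, not two -/
theorem exists_char (F : Type) [Field F] [Finite F] (h2 : (2 : F) ≠ 0) : ∃ p : ℕ, p.Prime ∧ p ≠ 2 ∧ CharP F p := by
  obtain ⟨p, hp⟩ := CharP.exists F
  have hpp := CharP.char_is_prime F p
  refine ⟨p, hpp, ?_, hp⟩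
  rintro rfl
  apply h2
  exact_mod_cast CharP.cast_eq_zero F 2

theorem not_three_two {F : Type} [Field F] [Fintype F] {n q : ℕ} (hq : Fintype.card F = q ^ 2) (h2 : (2 : F) ≠ 0) :
    ¬ (n = 3 ∧ q = 2) := by
  rintro ⟨-, rfl⟩
  apply h2
  have h3 : ((Fintype.card F : ℕ) : F) = 0 := Nat.cast_card_eq_zero F
  rw [hq, Nat.cast_pow, Nat.cast_ofNat] at h3
  exact pow_eq_zero_iff (two_ne_zero) |>.1 h3

section

variable {G : Type u} [Group G] [Finite G] {S : Subgroup G} [S.Normal] (hc : centralizer (S : Set G) = ⊥)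
  (hS : Sml G) {K : Subgroup G} (hK : IsCarter K)

section psl

variable {n : ℕ} (hn : 3 ≤ n) (F : Type) [Field F] [Finite F] (e : S ≃* Matrix.ProjectiveSpecialLinearGroup (Fin n) F)
include hc hS hK hn e

theorem psl_nTwo (hF : Fpf.{u}) (h2 : (2 : F) ≠ 0) :
    ∃ P : Subgroup G, P ≤ S ∧ IsPGroup 2 P ∧ ¬ 2 ∣ P.relIndex S ∧ K ≤ normalizer (P : Set G) := by
  obtain ⟨T, hT, -⟩ := Cfsg.Agent.H683.CA.bridge_lin S hc F n hn e
  obtain ⟨p, hp, hp2, hpF⟩ := exists_char F h2
  have : CharP (Ex F) p := Cfsg.Agent.H206.CA.charP_ex.2 hpF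
  have h1 := nTwo hF hp hp2 (Good.lin F inferInstance inferInstance) T hS hK (by rw [Fintype.card_fin]; exact hn)
  rw [NT, hT] at h1
  exact h1

end psl

section psu

variable {n : ℕ} (hn : 3 ≤ n) (F : Type) [Field F] [Fintype F] {q : ℕ} (hq : Fintype.card F = q ^ 2)
  (e : S ≃* Cfsg.PSU n F q)
include hc hS hK hn e hq

theorem psu_nTwo (hF : Fpf.{u}) (h2 : (2 : F) ≠ 0) :
    ∃ P : Subgroup G, P ≤ S ∧ IsPGroup 2 P ∧ ¬ 2 ∣ P.relIndex S ∧ K ≤ normalizer (P : Set G) := by
  obtain ⟨p, hp, hp2, hpF⟩ := exists_char F h2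
  obtain ⟨s, hs, T, hT, -⟩ := Cfsg.Agent.H466.CA.BridgeUni.bridge_uni S hc F n q hq hn (not_three_two hq h2) e
  have h1 := nTwo hF hp hp2 (Good.uni F inferInstance s inferInstance hs) T hS hK (by rw [Fintype.card_fin]; exact hn)
  rw [NT, hT] at h1
  exact h1

end psu

end

section

variable {G : Type u} [Group G] [Finite G] {S : Subgroup G} [S.Normal]

end

end Cfsg.Agent.H308.CA

private theorem dce_fa1b625b7dcf : _root_.True := by
  try have : _root_.True := by simp only [_root_.Cfsg.Agent.H308.CA.NT.eq_1]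
  exact _root_.True.intro
end

-- part: H18/Carter/UniT
section
prune_inst 0x4746041005dc0120000182000a0001e42f20004220048080020000e0207892c48a5438821880005121aa200450031000002100000000000000000040001180180008000040000000802000e000100000000000000000000000000000000010000000000000
set_option linter.all false
open scoped Cfsg.Agent.FastGrp

-- part: H904/FR/Cayley
section
/-!
# The Cayley transform of a unipotent isometry (helper904, S4970, piece UNI)
-/

set_option autoImplicit false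

universe u

namespace Cfsg.Agent.H904.FR

open Cfsg Cfsg.Agent.H955.FS Cfsg.Agent.H721.FR Module

variable {F V : Type u} [Field F] [AddCommGroup V] [Module F V]

/-- `N` is the Cayley transform of `c` -/
structure Cay (c : V ≃ₗ[F] V) (N : V →ₗ[F] V) : Prop where
  nil : IsNilpotent N
  comm : ∀ x, N (c x) = c (N x)
  eq : ∀ x, N (c x + x) = c x - x

theorem exists_cay (h2 : (2 : F) ≠ 0) [Finite F] {c : V ≃ₗ[F] V} (hu : ∃ a : ℕ, c ^ (ringChar F) ^ a = 1) :
    ∃ N : V →ₗ[F] V, Cay c N := by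
  rcases subsingleton_or_nontrivial V with hV | hV
  · exact ⟨0, ⟨1, by rw [pow_one]⟩, fun x => Subsingleton.elim _ _, fun x => Subsingleton.elim _ _⟩
  obtain ⟨a, ha⟩ := hu
  set p := ringChar F with hp
  have hchF : CharP F p := ringChar.charP F
  have hprime : Fact p.Prime := ⟨(CharP.char_is_prime_or_zero F p).resolve_right fun h => by
    have h1 : CharP F 0 := h ▸ hchF
    have := CharP.charP_to_charZero F
    exact not_finite F⟩
  have hch : CharP (Module.End F V) p :=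
    charP_of_injective_algebraMap (FaithfulSMul.algebraMap_injective F (Module.End F V)) p
  let c' : Module.End F V := (c : V →ₗ[F] V)
  have hc' : ∀ x, c' x = c x := fun x => rfl
  have hcpow : ∀ n : ℕ, c' ^ n = ((c ^ n : V ≃ₗ[F] V) : V →ₗ[F] V) := by
    intro n
    induction n with
    | zero => rfl
    | succ n ih =>
      rw [pow_succ, ih, pow_succ]
      rfl
  have h1 : (c' - 1) ^ p ^ a = 0 := by
    rw [sub_pow_char_pow_of_commute _ _ (Commute.one_right c'), one_pow, hcpow, ha]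
    exact sub_self _
  have hnil : IsNilpotent (c' - 1) := ⟨_, h1⟩
  have h2' : IsUnit (2 : Module.End F V) := by
    have : (2 : Module.End F V) = algebraMap F (Module.End F V) 2 := by
      rw [map_ofNat]
    rw [this]
    exact (IsUnit.mk0 _ h2).map _
  have hunit : IsUnit (c' + 1) := by
    have h3 : c' + 1 = 2 + (c' - 1) := by
      rw [← one_add_one_eq_two]
      abel
    rw [h3]
    exact IsNilpotent.isUnit_add_left_of_commute hnil h2' (by
      rw [← one_add_one_eq_two]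
      exact (Commute.one_right _).add_right (Commute.one_right _))
  obtain ⟨u, hu⟩ := hunit
  have hcomm1 : Commute c' (c' + 1) := (Commute.refl c').add_right (Commute.one_right _)
  have hcomm2 : Commute c' (↑u⁻¹ : Module.End F V) := by
    rw [← hu] at hcomm1
    exact hcomm1.units_inv_right
  have hcomm3 : Commute (c' - 1) (↑u⁻¹ : Module.End F V) := hcomm2.sub_left (Commute.one_left _)
  refine ⟨(c' - 1) * ↑u⁻¹, ?_, fun x => ?_, fun x => ?_⟩
  · exact hcomm3.isNilpotent_mul_right hnil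
  · have h4 : Commute ((c' - 1) * ↑u⁻¹) c' :=
      ((Commute.refl c').sub_left (Commute.one_left _)).mul_left hcomm2.symm
    exact LinearMap.congr_fun h4.eq x
  · have h5 : ((c' - 1) * ↑u⁻¹) * (c' + 1) = c' - 1 := by
      rw [← hu, mul_assoc, Units.inv_mul, mul_one]
    exact LinearMap.congr_fun h5 x

section

variable {c : V ≃ₗ[F] V} {N : V →ₗ[F] V} (h2 : (2 : F) ≠ 0) (h : Cay c N)

include h

theorem Cay.eq' (x : V) : c x - N (c x) = x + N x := by
  have h1 := h.eq x
  rw [map_add, ← sub_eq_zero] at h1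
  rw [← sub_eq_zero, ← neg_eq_zero, ← h1]
  abel

include h2 in
theorem Cay.exists_eq (x : V) : ∃ u, x = c u + u := by
  refine ⟨(2 : F)⁻¹ • (x - N x), ?_⟩
  rw [map_smul, ← smul_add, map_sub, ← h.comm, h.eq']
  rw [show x + N x + (x - N x) = (2 : F) • x by rw [two_smul]; abel, smul_smul, inv_mul_cancel₀ h2, one_smul]

theorem Cay.eq_zero {x : V} (hx : N x = x) : x = 0 := by
  obtain ⟨k, hk⟩ := h.nil
  have h1 : ∀ n : ℕ, (N ^ n) x = x := by
    intro n
    induction n with
    | zero => rfl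
    | succ n ih =>
      rw [pow_succ, Module.End.mul_apply, hx, ih]
  rw [← h1 k, hk]
  rfl

theorem Cay.inj {x y : V} (hxy : x - N x = y - N y) : x = y := by
  rw [← sub_eq_zero]
  apply h.eq_zero
  rw [map_sub]
  rw [← sub_eq_zero] at hxy ⊢
  rw [← neg_eq_zero, ← hxy]
  abel

theorem Cay.ne_zero (hc : c ≠ 1) : N ≠ 0 := by
  rintro rfl
  apply hc
  refine LinearEquiv.ext fun x => ?_
  have h1 := h.eq' x
  rwa [LinearMap.zero_apply, sub_zero, LinearMap.zero_apply, add_zero] at h1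

include h2 in
theorem Cay.skew {B : V →ₗ[F] V →ₗ[F] F} (hc : c ∈ Isom B) (x y : V) : B (N x) y = - B x (N y) := by
  obtain ⟨u, rfl⟩ := h.exists_eq h2 x
  obtain ⟨v, rfl⟩ := h.exists_eq h2 y
  rw [h.eq, h.eq]
  simp only [map_add, map_sub, LinearMap.add_apply, LinearMap.sub_apply]
  rw [mem_isom.1 hc]
  ring

include h2 in
theorem Cay.of_comm {g : V ≃ₗ[F] V} (hg : g * c * g⁻¹ = c) (x : V) : N (g x) = g (N x) := by
  obtain ⟨u, rfl⟩ := h.exists_eq h2 x
  have h1 : g (c u) = c (g u) := by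
    have h3 : g * c = c * g := by rwa [mul_inv_eq_iff_eq_mul] at hg
    exact LinearEquiv.congr_fun h3 u
  rw [map_add, h1, h.eq, h.eq, map_sub, h1]

/-- an `N`-invariant subspace is `c`-invariant -/
theorem Cay.map_eq [FiniteDimensional F V] {U : Submodule F V} (hU : ∀ x ∈ U, N x ∈ U) :
    U.map (c : V →ₗ[F] V) = U := by
  let f : U →ₗ[F] U := LinearMap.id - N.restrict hU
  have hf : Function.Injective f := by
    intro x y hxy
    have h1 := congrArg Subtype.val hxy
    exact Subtype.ext (h.inj h1)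
  have hs := LinearMap.surjective_of_injective hf
  have hle : U.map (c : V →ₗ[F] V) ≤ U := by
    rintro _ ⟨x, hx, rfl⟩
    obtain ⟨u, hu⟩ := hs ⟨x + N x, U.add_mem hx (hU x hx)⟩
    have h1 : (u : V) - N u = x + N x := congrArg Subtype.val hu
    have h3 : (c : V →ₗ[F] V) x = u := by
      apply h.inj
      rw [h1]
      exact h.eq' x
    rw [h3]
    exact u.2
  exact Submodule.eq_of_le_of_finrank_eq hle (LinearEquiv.finrank_map_eq c U)

end

end Cfsg.Agent.H904.FR
end

-- part: H904/FR/Struct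
section
/-!
# The structure of the top block of a nilpotent skew element (helper904, S4970, piece UNI)

`N` skew for `B`, `N ^ (k+1) = 0`, `N ^ k ≠ 0`, `P` a 2-group of isometries which commute or anticommute with `N`. There
is a `P`-invariant complement `M` of `ker N ^ k` such that `B x (N ^ j y) = 0` for `x y ∈ M` and `j ≠ k`.
-/

set_option autoImplicit false

universe u

namespace Cfsg.Agent.H904.FR

open Cfsg Cfsg.Agent.H955.FS Cfsg.Agent.H721.FR Cfsg.Agent.H721.SR Module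

variable {F V : Type u} [Field F] [AddCommGroup V] [Module F V]

/-- `N g = θ g N` -/
def Th (N : V →ₗ[F] V) (g : V ≃ₗ[F] V) (θ : F) : Prop := ∀ x, N (g x) = θ • g (N x)

theorem Th.pow {N : V →ₗ[F] V} {g : V ≃ₗ[F] V} {θ : F} (h : Th N g θ) (j : ℕ) (x : V) :
    (N ^ j) (g x) = θ ^ j • g ((N ^ j) x) := by
  induction j generalizing x with
  | zero => simp
  | succ j ih =>
    rw [pow_succ, Module.End.mul_apply, h, map_smul, ih, smul_smul, pow_succ', Module.End.mul_apply]

theorem skew_pow {B : V →ₗ[F] V →ₗ[F] F} {N : V →ₗ[F] V} (hs : ∀ x y, B (N x) y = - B x (N y)) (j : ℕ) (x y : V) :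
    B ((N ^ j) x) y = (-1) ^ j * B x ((N ^ j) y) := by
  induction j generalizing x y with
  | zero => simp
  | succ j ih =>
    have e1 : (N ^ (j + 1)) x = (N ^ j) (N x) := by rw [pow_succ]; rfl
    have e2 : (N ^ (j + 1)) y = N ((N ^ j) y) := by rw [pow_succ']; rfl
    rw [e1, e2, ih, hs, pow_succ]
    ring

theorem pow_zero_of_lt {N : V →ₗ[F] V} {k : ℕ} (hN : N ^ (k + 1) = 0) {j : ℕ} (hj : k < j) (x : V) :
    (N ^ j) x = 0 := by
  rw [pow_eq_zero_of_le hj hN]
  rfl

/-- partial orthogonality -/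
structure Good (B : V →ₗ[F] V →ₗ[F] F) (N : V →ₗ[F] V) (P : Subgroup (V ≃ₗ[F] V)) (k m : ℕ) (M : Submodule F V) :
    Prop where
  inv : ∀ g ∈ P, ∀ x ∈ M, g x ∈ M
  compl : IsCompl (LinearMap.ker (N ^ k)) M
  orth : ∀ x ∈ M, ∀ y ∈ M, ∀ j, m ≤ j → j < k → B x ((N ^ j) y) = 0

section

variable {B : V →ₗ[F] V →ₗ[F] F} {N : V →ₗ[F] V} {P : Subgroup (V ≃ₗ[F] V)} {k m : ℕ} {ε : F}

/-- nondegeneracy of `B x (N ^ k y)` on `M` -/
theorem nd_of_compl (hnd : ∀ x, (∀ y, B x y = 0) → x = 0) (hs : ∀ x y, B (N x) y = - B x (N y))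
    {M : Submodule F V} (hM : IsCompl (LinearMap.ker (N ^ k)) M) {x : V} (hx : x ∈ M)
    (h : ∀ y ∈ M, B x ((N ^ k) y) = 0) : x = 0 := by
  have h1 : (N ^ k) x = 0 := by
    apply hnd
    intro v
    have h2 : v ∈ LinearMap.ker (N ^ k) ⊔ M := by
      rw [hM.sup_eq_top]
      exact Submodule.mem_top
    obtain ⟨w, hw, y, hy, rfl⟩ := Submodule.mem_sup.1 h2
    rw [skew_pow hs, map_add, LinearMap.mem_ker.1 hw, zero_add, h y hy, mul_zero]
  exact Submodule.disjoint_def.1 hM.disjoint x (LinearMap.mem_ker.2 h1) hx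

theorem Good.step [FiniteDimensional F V] (h2 : (2 : F) ≠ 0) (hε : ε * ε = 1) (hB : ∀ x y, B x y = ε * B y x)
    (hnd : ∀ x, (∀ y, B x y = 0) → x = 0) (hs : ∀ x y, B (N x) y = - B x (N y)) (hN : N ^ (k + 1) = 0)
    (hPB : P ≤ Isom B) (hPN : ∀ g ∈ P, ∃ θ : F, θ * θ = 1 ∧ Th N g θ) (hm : m < k)
    {M : Submodule F V} (hM : Good B N P k (m + 1) M) : ∃ M' : Submodule F V, Good B N P k m M' := by
  -- symmetry
  have hsym : ∀ (j : ℕ) (x y : V), B x ((N ^ j) y) = ε * (-1) ^ j * B y ((N ^ j) x) := by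
    intro j x y
    rw [hB, skew_pow hs]
    ring
  let L : ℕ → M →ₗ[F] (M →ₗ[F] F) := fun j => (B.compl₁₂ M.subtype ((N ^ j) ∘ₗ M.subtype)).flip
  have hL : ∀ j (x y : M), L j y x = B x ((N ^ j) y) := fun j x y => rfl
  have hinj : Function.Injective (L k) := by
    rw [injective_iff_map_eq_zero]
    intro y hy
    apply Subtype.ext
    refine nd_of_compl hnd hs hM.compl y.2 fun x hx => ?_
    have h3 := LinearMap.congr_fun hy ⟨x, hx⟩
    rw [hL] at h3
    rw [hsym]
    have h4 : B x ((N ^ k) (y : V)) = 0 := h3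
    rw [h4, mul_zero]
  have hbij : Function.Bijective (L k) :=
    ⟨hinj, (LinearMap.injective_iff_surjective_of_finrank_eq_finrank
      (Subspace.dual_finrank_eq (K := F) (V := M)).symm).1 hinj⟩
  let e := LinearEquiv.ofBijective (L k) hbij
  let φ : M →ₗ[F] M := e.symm.toLinearMap ∘ₗ ((-(2 : F)⁻¹) • L m)
  have hφ : ∀ x y : M, B x ((N ^ k) (φ y : V)) = -(2 : F)⁻¹ * B x ((N ^ m) y) := by
    intro x y
    have h3 : e (φ y) = (-(2 : F)⁻¹) • L m y := by
      show e (e.symm ((-(2 : F)⁻¹) • L m y)) = _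
      rw [LinearEquiv.apply_symm_apply]
    exact LinearMap.congr_fun h3 x
  obtain ⟨r, hr⟩ : ∃ r, m + r = k := ⟨k - m, by omega⟩
  have hr1 : 0 < r := by omega
  let f : M →ₗ[F] V := M.subtype + (N ^ r) ∘ₗ M.subtype ∘ₗ φ
  have hf : ∀ x : M, f x = x + (N ^ r) (φ x : V) := fun x => rfl
  have hkr : ∀ x : V, (N ^ k) ((N ^ r) x) = 0 := by
    intro x
    rw [← Module.End.mul_apply, ← pow_add]
    exact pow_zero_of_lt hN (by omega) x
  have hpp : ∀ (a b : ℕ) (x : V), (N ^ a) ((N ^ b) x) = (N ^ (a + b)) x := by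
    intro a b x
    rw [← Module.End.mul_apply, ← pow_add]
  refine ⟨LinearMap.range f, ?_, ⟨?_, ?_⟩, ?_⟩
  · -- invariance
    rintro g hg _ ⟨x, rfl⟩
    obtain ⟨θ, hθ, hgN⟩ := hPN g hg
    have hpow : ∀ j : ℕ, θ ^ j * θ ^ j = 1 := fun j => by rw [← mul_pow, hθ, one_pow]
    refine ⟨⟨g x, hM.inv g hg x x.2⟩, ?_⟩
    rw [hf, hf, map_add]
    congr 1
    -- the key identity
    have h3 : (φ ⟨g x, hM.inv g hg x x.2⟩ : V) = θ ^ r • g (φ x : V) := by
      have h4 : φ ⟨g x, hM.inv g hg x x.2⟩ = θ ^ r • (⟨g (φ x : V), hM.inv g hg _ (φ x).2⟩ : M) := by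
        apply hinj
        refine LinearMap.ext fun y => ?_
        rw [hL, hL, hφ]
        show -(2 : F)⁻¹ * B y ((N ^ m) (g x)) = B y ((N ^ k) (θ ^ r • g (φ x : V)))
        have hyy : (y : V) = g (g⁻¹ (y : V)) := (g.apply_symm_apply (y : V)).symm
        have h5 : ∀ v : V, B y (g v) = B (g⁻¹ (y : V)) v := by
          intro v
          conv_lhs => rw [hyy]
          exact mem_isom.1 (hPB hg) _ _
        rw [map_smul, hgN.pow, hgN.pow, map_smul, map_smul, map_smul, h5, h5]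
        have h6 := hφ ⟨g⁻¹ (y : V), hM.inv _ (inv_mem hg) _ y.2⟩ x
        change B (g⁻¹ (y : V)) ((N ^ k) (φ x : V)) = -(2 : F)⁻¹ * B (g⁻¹ (y : V)) ((N ^ m) x) at h6
        rw [h6, ← hr, pow_add]
        simp only [smul_eq_mul]
        linear_combination (-(2 : F)⁻¹ * B (g⁻¹ (y : V)) ((N ^ m) x) * θ ^ m) * (-hpow r)
      exact congrArg Subtype.val h4
    rw [h3, map_smul, hgN.pow, smul_smul, hpow, one_smul]
  · -- disjoint
    rw [Submodule.disjoint_def]
    rintro _ hx ⟨x, rfl⟩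
    rw [LinearMap.mem_ker, hf, map_add, hkr, add_zero] at hx
    have h3 : (x : V) = 0 := Submodule.disjoint_def.1 hM.compl.disjoint x (LinearMap.mem_ker.2 hx) x.2
    have h4 : x = 0 := Subtype.ext h3
    rw [h4, map_zero]
  · -- codisjoint
    rw [codisjoint_iff, eq_top_iff]
    intro v _
    have h3 : v ∈ LinearMap.ker (N ^ k) ⊔ M := by
      rw [hM.compl.sup_eq_top]
      exact Submodule.mem_top
    obtain ⟨w, hw, y, hy, rfl⟩ := Submodule.mem_sup.1 h3
    refine Submodule.mem_sup.2 ⟨w - (N ^ r) (φ ⟨y, hy⟩ : V), ?_, f ⟨y, hy⟩, ⟨_, rfl⟩, ?_⟩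
    · rw [LinearMap.mem_ker, map_sub, LinearMap.mem_ker.1 hw, hkr, sub_zero]
    · rw [hf]
      abel
  · -- orthogonality
    rintro _ ⟨x, rfl⟩ _ ⟨y, rfl⟩ j hmj hjk
    rw [hf, hf, map_add]
    rcases Nat.eq_or_lt_of_le hmj with hj | hj
    · subst hj
      rw [map_add, map_add, LinearMap.add_apply, LinearMap.add_apply, hpp, skew_pow hs, skew_pow hs, hpp, hpp,
        add_comm r m, hr, hφ, hsym k (φ x : V) y, hφ, hsym m (y : V) x,
        pow_zero_of_lt hN (show k < r + k by omega), map_zero]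
      have h3 : ((-1 : F)) ^ r * (-1) ^ k * (-1) ^ m = 1 := by
        rw [← pow_add, ← pow_add, show r + k + m = 2 * k by omega, pow_mul]
        norm_num
      have h4 : (2 : F) * 2⁻¹ = 1 := mul_inv_cancel₀ h2
      linear_combination (-(2 : F)⁻¹ * B x ((N ^ m) y)) * (ε * ε * h3 + hε) - B x ((N ^ m) y) * h4
    · rw [map_add, hpp, pow_zero_of_lt hN (show k < j + r by omega), add_zero, LinearMap.add_apply, skew_pow hs, hpp,
        pow_zero_of_lt hN (show k < r + j by omega), map_zero, mul_zero, add_zero]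
      exact hM.orth x x.2 y y.2 j hj hjk

/-- the standard structure -/
structure Std (B : V →ₗ[F] V →ₗ[F] F) (N : V →ₗ[F] V) (k : ℕ) (M : Submodule F V) : Prop where
  skew : ∀ x y, B (N x) y = - B x (N y)
  nil : N ^ (k + 1) = 0
  orth : ∀ x ∈ M, ∀ y ∈ M, ∀ j, j ≠ k → B x ((N ^ j) y) = 0
  nd : ∀ x ∈ M, (∀ y ∈ M, B x ((N ^ k) y) = 0) → x = 0

end

end Cfsg.Agent.H904.FR
end

-- part: H904/FR/Lift
section
/-!
# Lifting automorphisms of `M` to `V = ⊕ N ^ i M` (helper904, S4970, piece UNI)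
-/

set_option autoImplicit false

universe u

namespace Cfsg.Agent.H904.FR

open Cfsg Cfsg.Agent.H955.FS Cfsg.Agent.H721.FR Cfsg.Agent.H721.SR Module

variable {F V : Type u} [Field F] [AddCommGroup V] [Module F V]

/-- the map `f ↦ ∑ N ^ i (f i)` -/
noncomputable def Phi (N : V →ₗ[F] V) (k : ℕ) (M : Submodule F V) : (Fin (k + 1) → M) →ₗ[F] V :=
  ∑ i : Fin (k + 1), (N ^ (i : ℕ)) ∘ₗ M.subtype ∘ₗ LinearMap.proj i

theorem Phi_apply (N : V →ₗ[F] V) (k : ℕ) (M : Submodule F V) (f : Fin (k + 1) → M) :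
    Phi N k M f = ∑ i : Fin (k + 1), (N ^ (i : ℕ)) (f i : V) := by
  unfold Phi
  rw [LinearMap.sum_apply]
  rfl

theorem Phi_single (N : V →ₗ[F] V) (k : ℕ) (M : Submodule F V) (i : Fin (k + 1)) (x : M) :
    Phi N k M (Pi.single i x) = (N ^ (i : ℕ)) (x : V) := by
  rw [Phi_apply, Finset.sum_eq_single i]
  · rw [Pi.single_eq_same]
  · intro j _ hj
    rw [Pi.single_eq_of_ne hj]
    exact map_zero _
  · exact fun h => absurd (Finset.mem_univ i) h

section

variable {B : V →ₗ[F] V →ₗ[F] F} {N : V →ₗ[F] V} {k : ℕ} {M : Submodule F V}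

theorem pow_mem_range (hN : N ^ (k + 1) = 0) (j : ℕ) {x : V} (hx : x ∈ M) : (N ^ j) x ∈ LinearMap.range (Phi N k M) := by
  rcases Nat.lt_or_ge k j with h | h
  · rw [pow_zero_of_lt hN h]
    exact zero_mem _
  · exact ⟨Pi.single ⟨j, by omega⟩ ⟨x, hx⟩, Phi_single N k M ⟨j, by omega⟩ ⟨x, hx⟩⟩

theorem Std.form (hS : Std B N k M) {x y : V} (hx : x ∈ M) (hy : y ∈ M) (i j : ℕ) (hij : i + j ≠ k) :
    B ((N ^ i) x) ((N ^ j) y) = 0 := by
  rw [skew_pow hS.skew, ← Module.End.mul_apply, ← pow_add, hS.orth x hx y hy _ hij, mul_zero]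

theorem Std.form' (hS : Std B N k M) (x y : V) (i j : ℕ) (hij : i + j = k) :
    B ((N ^ i) x) ((N ^ j) y) = (-1) ^ i * B x ((N ^ k) y) := by
  rw [skew_pow hS.skew, ← Module.End.mul_apply, ← pow_add, hij]

theorem Std.coord (hS : Std B N k M) (f : Fin (k + 1) → M) (i : Fin (k + 1)) {y : V} (hy : y ∈ M) :
    B (Phi N k M f) ((N ^ (k - i)) y) = (-1) ^ (i : ℕ) * B (f i) ((N ^ k) y) := by
  rw [Phi_apply, map_sum, LinearMap.sum_apply, Finset.sum_eq_single i]
  · exact hS.form' _ _ _ _ (by omega)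
  · intro j _ hj
    refine hS.form (f j).2 hy _ _ fun h => hj (Fin.ext ?_)
    omega
  · exact fun h => absurd (Finset.mem_univ i) h

theorem Std.eq_zero (hS : Std B N k M) {f : Fin (k + 1) → M}
    (h : ∀ y ∈ LinearMap.range (Phi N k M), B (Phi N k M f) y = 0) : f = 0 := by
  funext i
  apply Subtype.ext
  refine hS.nd _ (f i).2 fun y hy => ?_
  have h1 := hS.coord f i hy
  rw [h _ (pow_mem_range hS.nil _ hy)] at h1
  exact (mul_eq_zero.1 h1.symm).resolve_left (pow_ne_zero _ (neg_ne_zero.2 one_ne_zero))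

theorem Std.injective (hS : Std B N k M) : Function.Injective (Phi N k M) := by
  rw [injective_iff_map_eq_zero]
  intro f hf
  apply hS.eq_zero
  intro y _
  rw [hf, map_zero, LinearMap.zero_apply]

theorem Std.ndOn (hS : Std B N k M) : NdOn B (LinearMap.range (Phi N k M)) := by
  rintro _ ⟨f, rfl⟩ h
  rw [hS.eq_zero h, map_zero]

theorem range_inv (hN : N ^ (k + 1) = 0) {x : V} (hx : x ∈ LinearMap.range (Phi N k M)) :
    N x ∈ LinearMap.range (Phi N k M) := by
  obtain ⟨f, rfl⟩ := hx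
  rw [Phi_apply, map_sum]
  refine Submodule.sum_mem _ fun i _ => ?_
  have h1 : N ((N ^ (i : ℕ)) (f i : V)) = (N ^ ((i : ℕ) + 1)) (f i : V) := by rw [pow_succ']; rfl
  rw [h1]
  exact pow_mem_range hN _ (f i).2

/-- `V = ⊕ N ^ i M` with lifts of the automorphisms of `M` and the element `h` -/
structure Full (N : V →ₗ[F] V) (k : ℕ) (M : Submodule F V) (lft : (M ≃ₗ[F] M) →* (V ≃ₗ[F] V)) (h : V ≃ₗ[F] V) :
    Prop where
  ind : ∀ {p : V → Prop}, p 0 → (∀ x y, p x → p y → p (x + y)) → (∀ (i : ℕ) (x : M), p ((N ^ i) x)) → ∀ v, p v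
  lft : ∀ (a : M ≃ₗ[F] M) (i : ℕ) (x : M), lft a ((N ^ i) (x : V)) = (N ^ i) (a x : V)
  h : ∀ (i : ℕ) (x : M), h ((N ^ i) (x : V)) = (-1 : F) ^ i • (N ^ i) (x : V)

/-- the form on `M` -/
def bet (B : V →ₗ[F] V →ₗ[F] F) (N : V →ₗ[F] V) (k : ℕ) (M : Submodule F V) : M →ₗ[F] M →ₗ[F] F :=
  B.compl₁₂ M.subtype ((N ^ k) ∘ₗ M.subtype)

theorem bet_apply (x y : M) : bet B N k M x y = B x ((N ^ k) (y : V)) := rfl

theorem Std.bet_symm (hS : Std B N k M) {ε : F} (hB : ∀ x y, B x y = ε * B y x) (x y : M) :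
    bet B N k M x y = (ε * (-1) ^ k) * bet B N k M y x := by
  rw [bet_apply, bet_apply, hB, skew_pow hS.skew]
  ring

theorem Std.bet_nondeg (hS : Std B N k M) (x : M) (h : ∀ y, bet B N k M x y = 0) : x = 0 :=
  Subtype.ext (hS.nd x x.2 fun y hy => h ⟨y, hy⟩)

end

section

variable {B : V →ₗ[F] V →ₗ[F] F} {N : V →ₗ[F] V} {k : ℕ} {M : Submodule F V} {lft : (M ≃ₗ[F] M) →* (V ≃ₗ[F] V)}
  {h : V ≃ₗ[F] V} (hf : Full N k M lft h)

include hf

theorem Full.ext {W : Type*} [AddCommGroup W] [Module F W] {f g : V →ₗ[F] W}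
    (hfg : ∀ (i : ℕ) (x : M), f ((N ^ i) (x : V)) = g ((N ^ i) (x : V))) : f = g := by
  refine LinearMap.ext fun v => ?_
  refine hf.ind (p := fun v => f v = g v) ?_ ?_ hfg v
  · rw [map_zero, map_zero]
  · intro x y hx hy
    rw [map_add, map_add, hx, hy]

end

end Cfsg.Agent.H904.FR
end

-- part: H18/Carter/UniBlk
section
/-!
# Conjugacy of unipotent isometries: one block (S3852)

`N` skew nilpotent for the `ε`-symmetric nondegenerate form `B`, `N ^ (k+1) = 0`.

* `exists_std'` : `M` complement of `ker N ^ k` with `B x (N ^ j y) = 0` on `M` for `j ≠ k`;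
* `blk` : if `V = ⊕ N ^ i M` (i.e. `dim V = (k+1) rank (N ^ k)`), `N'` skew with `N' ^ k = n ^ k N ^ k`, and the form
  `B x (N ^ k y)` on `M` has a similitude with multiplier `μ n ^ (-k)`, then there is a similitude `h` of `V` with
  multiplier `μ` and `h N = N' h`.
-/

set_option autoImplicit false
set_option linter.unusedSectionVars false
set_option linter.unusedVariables false

universe u

namespace Cfsg.Agent.H18.Carter.Uni

open Cfsg.Agent.H904.FR Cfsg.Agent.H721.FR Cfsg.Agent.H721.SR Module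

variable {F V : Type u} [Field F] [AddCommGroup V] [Module F V]

variable {B : V →ₗ[F] V →ₗ[F] F} {N N' : V →ₗ[F] V} {k : ℕ} {ε : F}

theorem exists_std' [FiniteDimensional F V] (h2 : (2 : F) ≠ 0) (hε : ε * ε = 1)
    (hB : ∀ x y, B x y = ε * B y x)
    (hnd : ∀ x, (∀ y, B x y = 0) → x = 0) (hs : ∀ x y, B (N x) y = - B x (N y)) (hN : N ^ (k + 1) = 0) :
    ∃ M : Submodule F V, IsCompl (LinearMap.ker (N ^ k)) M ∧ Std B N k M := by
  obtain ⟨M₀, hM₀⟩ : ∃ M : Submodule F V, Good B N ⊥ k k M := by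
    obtain ⟨M, hc⟩ := Submodule.exists_isCompl (LinearMap.ker (N ^ k))
    exact ⟨M, fun g hg x hx => by rw [Subgroup.mem_bot.1 hg]; exact hx, hc, fun x _ y _ j h3 h4 => absurd h4 (not_lt.2 h3)⟩
  have hall : ∀ d, d ≤ k → ∃ M : Submodule F V, Good B N ⊥ k (k - d) M := by
    intro d
    induction d with
    | zero => exact fun _ => ⟨M₀, hM₀⟩
    | succ d ih =>
      intro hd
      obtain ⟨M, hM⟩ := ih (by omega)
      have h3 : k - d = (k - (d + 1)) + 1 := by omega
      rw [h3] at hM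
      refine hM.step h2 hε hB hnd hs hN bot_le (fun g hg => ⟨1, one_mul 1, ?_⟩) (by omega)
      rw [Subgroup.mem_bot.1 hg]
      intro x
      rw [one_smul]
      rfl
  obtain ⟨M, hM⟩ := hall k le_rfl
  rw [Nat.sub_self] at hM
  refine ⟨M, hM.compl, hs, hN, fun x hx y hy j hj => ?_, fun x hx h => nd_of_compl hnd hs hM.compl hx h⟩
  rcases lt_or_gt_of_ne hj with h3 | h3
  · exact hM.orth x hx y hy j (Nat.zero_le _) h3
  · rw [pow_zero_of_lt hN h3, map_zero]

/-- two complements of the same subspace -/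
theorem exists_proj {K M M' : Submodule F V} (h : IsCompl K M) (h' : IsCompl K M') :
    ∃ p : M ≃ₗ[F] M', ∀ x : M, (p x : V) - x ∈ K := by
  refine ⟨(Submodule.quotientEquivOfIsCompl K M h).symm ≪≫ₗ Submodule.quotientEquivOfIsCompl K M' h', fun x => ?_⟩
  have h1 := Submodule.mk_quotientEquivOfIsCompl_apply h' ((Submodule.quotientEquivOfIsCompl K M h).symm x)
  rw [Submodule.quotientEquivOfIsCompl_symm_apply] at h1
  rw [← Submodule.Quotient.eq]
  exact h1

/-- the dimension of `M` -/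
theorem finrank_M [FiniteDimensional F V] {M : Submodule F V} (hc : IsCompl (LinearMap.ker (N ^ k)) M) :
    finrank F M = finrank F (LinearMap.range (N ^ k)) := by
  have h1 := Submodule.finrank_add_eq_of_isCompl hc
  have h2 := LinearMap.finrank_range_add_finrank_ker (N ^ k)
  omega

theorem Phi_surj [FiniteDimensional F V] {M : Submodule F V} (hc : IsCompl (LinearMap.ker (N ^ k)) M)
    (hS : Std B N k M) (hd : finrank F V = (k + 1) * finrank F (LinearMap.range (N ^ k))) :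
    Function.Bijective (Phi N k M) := by
  refine ⟨hS.injective, ?_⟩
  refine (LinearMap.injective_iff_surjective_of_finrank_eq_finrank ?_).1 hS.injective
  rw [Module.finrank_pi_fintype, Finset.sum_const, Finset.card_univ, Fintype.card_fin, smul_eq_mul, hd, finrank_M hc]

/-- **one block** -/
theorem blk [FiniteDimensional F V] (h2 : (2 : F) ≠ 0) (hε : ε * ε = 1)
    (hB : ∀ x y, B x y = ε * B y x)
    (hnd : ∀ x, (∀ y, B x y = 0) → x = 0) (hs : ∀ x y, B (N x) y = - B x (N y))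
    (hs' : ∀ x y, B (N' x) y = - B x (N' y)) (hN : N ^ (k + 1) = 0) (hN' : N' ^ (k + 1) = 0) {n μ : F} (hn : n ≠ 0)
    (hNN : ∀ x, (N' ^ k) x = n ^ k • (N ^ k) x)
    (hd : finrank F V = (k + 1) * finrank F (LinearMap.range (N ^ k)))
    (hA : ∀ M : Submodule F V, Std B N k M → IsCompl (LinearMap.ker (N ^ k)) M →
      ∃ A : M ≃ₗ[F] M, ∀ x y, bet B N k M (A x) (A y) = μ * (n⁻¹) ^ k * bet B N k M x y) :
    ∃ h : V ≃ₗ[F] V, (∀ x y, B (h x) (h y) = μ * B x y) ∧ ∀ x, h (N x) = N' (h x) := by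
  obtain ⟨M, hc, hS⟩ := exists_std' h2 hε hB hnd hs hN
  obtain ⟨M', hc', hS'⟩ := exists_std' h2 hε hB hnd hs' hN'
  have hker : LinearMap.ker (N' ^ k) = LinearMap.ker (N ^ k) := by
    ext x
    rw [LinearMap.mem_ker, LinearMap.mem_ker, hNN]
    exact smul_eq_zero_iff_right (pow_ne_zero _ hn)
  have hd' : finrank F V = (k + 1) * finrank F (LinearMap.range (N' ^ k)) := by
    rw [hd]
    have e1 := LinearMap.finrank_range_add_finrank_ker (N ^ k)
    have e2 := LinearMap.finrank_range_add_finrank_ker (N' ^ k)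
    rw [hker] at e2
    congr 1
    omega
  obtain ⟨A, hA⟩ := hA M hS hc
  rw [hker] at hc'
  obtain ⟨p, hp⟩ := exists_proj hc hc'
  set C : M ≃ₗ[F] M' := A ≪≫ₗ p with hC
  have hCk : ∀ x : M, (N ^ k) (C x : V) = (N ^ k) (A x : V) := by
    intro x
    have := hp (A x)
    rw [LinearMap.mem_ker, map_sub, sub_eq_zero] at this
    exact this
  have hform : ∀ x y : M, B (C x : V) ((N' ^ k) (C y : V)) = μ * B x ((N ^ k) (y : V)) := by
    intro x y
    have h5 := hA x y
    rw [bet_apply, bet_apply] at h5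
    rw [hNN, hCk, map_smul, smul_eq_mul]
    have h6 : B (C x : V) ((N ^ k) (A y : V)) = B (A x : V) ((N ^ k) (A y : V)) := by
      have h7 := skew_pow hs k (C x : V) (A y : V)
      have h8 := skew_pow hs k (A x : V) (A y : V)
      rw [hCk] at h7
      have h9 := h7.symm.trans h8
      exact mul_left_cancel₀ (pow_ne_zero k (neg_ne_zero.2 one_ne_zero)) h9
    rw [h6, h5]
    have h10 : n ^ k * n⁻¹ ^ k = 1 := by rw [← mul_pow, mul_inv_cancel₀ hn, one_pow]
    linear_combination (μ * B x ((N ^ k) (y : V))) * h10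
  let e := LinearEquiv.ofBijective (Phi N k M) (Phi_surj hc hS hd)
  let e' := LinearEquiv.ofBijective (Phi N' k M') (Phi_surj (by rw [hker]; exact hc') hS' hd')
  let h : V ≃ₗ[F] V := e.symm ≪≫ₗ (LinearEquiv.piCongrRight fun _ => C) ≪≫ₗ e'
  have he : ∀ f, h (Phi N k M f) = Phi N' k M' (fun i => C (f i)) := by
    intro f
    have h1 : Phi N k M f = e f := rfl
    rw [h1]
    show e' ((LinearEquiv.piCongrRight fun _ => C) (e.symm (e f))) = _
    rw [e.symm_apply_apply]
    rfl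
  have hpow : ∀ (j : ℕ) (x : M), h ((N ^ j) (x : V)) = (N' ^ j) (C x : V) := by
    intro j x
    rcases Nat.lt_or_ge k j with hj | hj
    · rw [pow_zero_of_lt hN hj, pow_zero_of_lt hN' hj, map_zero]
    · have h1 := Phi_single N k M ⟨j, by omega⟩ x
      have h3 := Phi_single N' k M' ⟨j, by omega⟩ (C x)
      change Phi N k M _ = (N ^ j) (x : V) at h1
      change Phi N' k M' _ = (N' ^ j) (C x : V) at h3
      rw [← h1, ← h3, he]
      congr 1
      funext i
      by_cases hi : i = ⟨j, by omega⟩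
      · subst hi
        rw [Pi.single_eq_same, Pi.single_eq_same]
      · rw [Pi.single_eq_of_ne hi, Pi.single_eq_of_ne hi, map_zero]
  have hsur : ∀ v, ∃ f, v = Phi N k M f := fun v => ⟨e.symm v, (e.apply_symm_apply v).symm⟩
  refine ⟨h, ?_, ?_⟩
  · intro x y
    obtain ⟨f, rfl⟩ := hsur x
    obtain ⟨g, rfl⟩ := hsur y
    rw [he, he]
    simp only [Phi_apply, map_sum, LinearMap.sum_apply, Finset.mul_sum]
    refine Finset.sum_congr rfl fun i _ => Finset.sum_congr rfl fun j _ => ?_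
    by_cases hij : (j : ℕ) + i = k
    · rw [hS'.form' _ _ _ _ hij, hS.form' _ _ _ _ hij, hform]
      ring
    · rw [hS'.form (C (f j)).2 (C (g i)).2 _ _ hij, hS.form (f j).2 (g i).2 _ _ hij, mul_zero]
  · intro v
    obtain ⟨f, rfl⟩ := hsur v
    rw [he]
    simp only [Phi_apply, map_sum]
    refine Finset.sum_congr rfl fun i _ => ?_
    have h1 : N ((N ^ (i : ℕ)) (f i : V)) = (N ^ ((i : ℕ) + 1)) (f i : V) := by rw [pow_succ']; rfl
    have h3 : N' ((N' ^ (i : ℕ)) (C (f i) : V)) = (N' ^ ((i : ℕ) + 1)) (C (f i) : V) := by rw [pow_succ']; rfl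
    rw [h1, h3, hpow]

end Cfsg.Agent.H18.Carter.Uni
end

-- part: H18/Carter/UniGlue
section
/-!
# Conjugacy of unipotent isometries: orthogonal sums (S3852)
-/

set_option autoImplicit false
set_option linter.unusedSectionVars false
set_option linter.unusedVariables false

universe u

namespace Cfsg.Agent.H18.Carter.Uni

open Cfsg.Agent.H904.FR Cfsg.Agent.H721.FR Cfsg.Agent.H721.SR Module

variable {F V : Type u} [Field F] [AddCommGroup V] [Module F V]

variable {B : V →ₗ[F] V →ₗ[F] F} {N N' : V →ₗ[F] V} {k : ℕ} {ε : F}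

theorem isCompl_perp [FiniteDimensional F V] (hε : ε * ε = 1) (hB : ∀ x y, B x y = ε * B y x) {U : Submodule F V}
    (hU : NdOn B U) : IsCompl U (perp B U) := by
  have hB0 : ∀ x y, B x y = 0 → B y x = 0 := fun x y h => by rw [hB, h, mul_zero]
  constructor
  · rw [Submodule.disjoint_def]
    intro x hx hx'
    exact hU x hx fun y hy => hB0 _ _ (hx' y hy)
  · rw [codisjoint_iff, eq_top_iff]
    intro v _
    let L : U →ₗ[F] (U →ₗ[F] F) := (B.compl₁₂ U.subtype U.subtype)
    have hL : ∀ x y : U, L x y = B x y := fun x y => rfl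
    have hinj : Function.Injective L := by
      rw [injective_iff_map_eq_zero]
      intro x hx
      apply Subtype.ext
      refine hU x x.2 fun y hy => ?_
      exact LinearMap.congr_fun hx ⟨y, hy⟩
    have hsur := (LinearMap.injective_iff_surjective_of_finrank_eq_finrank
      (Subspace.dual_finrank_eq (K := F) (V := U)).symm).1 hinj
    obtain ⟨u, hu⟩ := hsur ((B v) ∘ₗ U.subtype)
    have h1 : ∀ y ∈ U, B u y = B v y := fun y hy => LinearMap.congr_fun hu ⟨y, hy⟩
    refine Submodule.mem_sup.2 ⟨u, u.2, v - u, ?_, by abel⟩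
    intro y hy
    apply hB0
    rw [map_sub, LinearMap.sub_apply, h1 y hy, sub_self]

theorem perp_inv (hs : ∀ x y, B (N x) y = - B x (N y)) {U : Submodule F V} (hU : ∀ x ∈ U, N x ∈ U) :
    ∀ x ∈ perp B U, N x ∈ perp B U := by
  intro x hx y hy
  have h1 := hs y x
  rw [hx _ (hU y hy)] at h1
  exact (neg_eq_zero.1 h1.symm)

/-- the restricted form -/
def res (B : V →ₗ[F] V →ₗ[F] F) (U : Submodule F V) : U →ₗ[F] U →ₗ[F] F := B.compl₁₂ U.subtype U.subtype

@[simp] theorem res_apply (U : Submodule F V) (x y : U) : res B U x y = B x y := rfl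

/-- glueing -/
theorem exists_glue {U W : Submodule F V} (h : IsCompl U W) (f : U ≃ₗ[F] U) (g : W ≃ₗ[F] W) :
    ∃ r : V ≃ₗ[F] V, (∀ x : U, r x = f x) ∧ ∀ x : W, r x = g x := by
  let e := Submodule.prodEquivOfIsCompl U W h
  refine ⟨e.symm ≪≫ₗ (f.prodCongr g) ≪≫ₗ e, fun x => ?_, fun x => ?_⟩
  · have h1 : (x : V) = e (x, 0) := by
      rw [Submodule.coe_prodEquivOfIsCompl']
      simp
    show e ((f.prodCongr g) (e.symm x)) = f x
    rw [h1, e.symm_apply_apply]
    show e (f x, g 0) = f x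
    rw [Submodule.coe_prodEquivOfIsCompl']
    simp only [_root_.map_zero, _root_.ZeroMemClass.coe_zero, _root_.add_zero]
  · have h1 : (x : V) = e (0, x) := by
      rw [Submodule.coe_prodEquivOfIsCompl']
      simp
    show e ((f.prodCongr g) (e.symm x)) = g x
    rw [h1, e.symm_apply_apply]
    show e (f 0, g x) = g x
    rw [Submodule.coe_prodEquivOfIsCompl']
    simp only [_root_.map_zero, _root_.ZeroMemClass.coe_zero, _root_.zero_add]

/-- glueing of similitudes intertwining `N` and `N'` -/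
theorem glue (hε : ε * ε = 1) (hB : ∀ x y, B x y = ε * B y x) {U : Submodule F V} (hc : IsCompl U (perp B U))
    {μ : F} (f : U ≃ₗ[F] U) (g : perp B U ≃ₗ[F] perp B U)
    (hf : ∀ x y, B (f x : V) (f y) = μ * B x y) (hg : ∀ x y, B (g x : V) (g y) = μ * B x y)
    (hfN : ∀ x y : U, (y : V) = N x → (f y : V) = N' (f x))
    (hgN : ∀ x y : perp B U, (y : V) = N x → (g y : V) = N' (g x))
    (hU : ∀ x ∈ U, N x ∈ U) (hW : ∀ x ∈ perp B U, N x ∈ perp B U) :
    ∃ h : V ≃ₗ[F] V, (∀ x y, B (h x) (h y) = μ * B x y) ∧ ∀ x, h (N x) = N' (h x) := by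
  have hB0 : ∀ x y, B x y = 0 → B y x = 0 := fun x y h => by rw [hB, h, mul_zero]
  obtain ⟨r, h1, h2⟩ := exists_glue hc f g
  have hdec : ∀ v : V, ∃ (x : U) (y : perp B U), v = x + y := by
    intro v
    have : v ∈ U ⊔ perp B U := by rw [hc.sup_eq_top]; exact Submodule.mem_top
    obtain ⟨x, hx, y, hy, rfl⟩ := Submodule.mem_sup.1 this
    exact ⟨⟨x, hx⟩, ⟨y, hy⟩, rfl⟩
  refine ⟨r, ?_, ?_⟩
  · intro v w
    obtain ⟨x, y, rfl⟩ := hdec v
    obtain ⟨x', y', rfl⟩ := hdec w
    have o1 : B (x : V) (y' : V) = 0 := y'.2 x x.2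
    have o2 : B (y : V) (x' : V) = 0 := hB0 _ _ (y.2 x' x'.2)
    have o3 : B (f x : V) (g y' : V) = 0 := (g y').2 _ (f x).2
    have o4 : B (g y : V) (f x' : V) = 0 := hB0 _ _ ((g y).2 _ (f x').2)
    simp only [map_add, LinearMap.add_apply, h1, h2]
    rw [o1, o2, o3, o4, hf, hg]
    ring
  · intro v
    obtain ⟨x, y, rfl⟩ := hdec v
    rw [map_add, map_add, map_add, map_add, h1, h2]
    have e1 := h1 ⟨N x, hU x x.2⟩
    have e2 := h2 ⟨N y, hW y y.2⟩
    change r (N x) = _ at e1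
    change r (N y) = _ at e2
    rw [e1, e2, hfN x ⟨N x, hU x x.2⟩ rfl, hgN y ⟨N y, hW y y.2⟩ rfl]

/-- `N'` is a polynomial in `N` with leading term `n N` -/
structure Rel (n : F) (N N' : V →ₗ[F] V) : Prop where
  comm : ∀ x, N (N' x) = N' (N x)
  lead : ∀ U : Submodule F V, (∀ x ∈ U, N x ∈ U) → ∀ x ∈ U, ∃ y ∈ U, N' x = n • N x + N (N y)

theorem Rel.inv {n : F} (h : Rel n N N') {U : Submodule F V} (hU : ∀ x ∈ U, N x ∈ U) : ∀ x ∈ U, N' x ∈ U := by
  intro x hx
  obtain ⟨y, hy, e⟩ := h.lead U hU x hx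
  rw [e]
  exact U.add_mem (U.smul_mem _ (hU x hx)) (hU _ (hU y hy))

theorem Rel.pow {n : F} (h : Rel n N N') (j : ℕ) : ∀ x, ∃ y, (N' ^ j) x = n ^ j • (N ^ j) x + (N ^ (j + 1)) y := by
  induction j with
  | zero => exact fun x => ⟨0, by simp⟩
  | succ j ih =>
    intro x
    obtain ⟨y, hy⟩ := ih (N' x)
    obtain ⟨z, -, hz⟩ := h.lead ⊤ (fun _ _ => Submodule.mem_top) x Submodule.mem_top
    obtain ⟨w, -, hw⟩ := h.lead ⊤ (fun _ _ => Submodule.mem_top) y Submodule.mem_top
    have hcom : ∀ (i : ℕ) (v : V), (N ^ i) (N' v) = N' ((N ^ i) v) := by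
      intro i v
      induction i generalizing v with
      | zero => rfl
      | succ i ih => rw [pow_succ, Module.End.mul_apply, h.comm, ih, Module.End.mul_apply]
    obtain ⟨y, hy⟩ := ih x
    obtain ⟨w, -, hw⟩ := h.lead ⊤ (fun _ _ => Submodule.mem_top) y Submodule.mem_top
    obtain ⟨z, -, hz⟩ := h.lead ⊤ (fun _ _ => Submodule.mem_top) x Submodule.mem_top
    have e1 : (N' ^ (j + 1)) x = N' ((N' ^ j) x) := by rw [pow_succ']; rfl
    have e2 : ∀ v, (N ^ (j + 1)) (N v) = (N ^ (j + 1 + 1)) v := fun v => by rw [pow_succ N (j + 1)]; rfl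
    have e3 : ∀ v, (N ^ j) (N v) = (N ^ (j + 1)) v := fun v => by rw [pow_succ N j]; rfl
    refine ⟨n ^ j • z + n • y + N w, ?_⟩
    rw [e1, hy, map_add, map_smul, ← hcom, ← hcom, hz, hw]
    simp only [map_add, map_smul, e3, e2, smul_add, smul_smul]
    rw [pow_succ n j]
    abel

theorem Rel.pow_eq {n : F} (h : Rel n N N') (hN : N ^ (k + 1) = 0) (x : V) : (N' ^ k) x = n ^ k • (N ^ k) x := by
  obtain ⟨y, hy⟩ := h.pow k x
  rw [hy, hN]
  simp

theorem Rel.pow_succ_eq {n : F} (h : Rel n N N') (hN : N ^ (k + 1) = 0) : N' ^ (k + 1) = 0 := by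
  ext x
  obtain ⟨y, hy⟩ := h.pow (k + 1) x
  rw [hy, hN, pow_zero_of_lt hN (by omega)]
  simp

theorem Rel.restrict {n : F} (h : Rel n N N') {U : Submodule F V} (hU : ∀ x ∈ U, N x ∈ U) :
    Rel n (N.restrict hU) (N'.restrict (h.inv hU)) := by
  refine ⟨fun x => Subtype.ext (h.comm x), fun W hW x hx => ?_⟩
  obtain ⟨y, hy, e⟩ := h.lead (W.map U.subtype) (by
    rintro _ ⟨w, hw, rfl⟩
    exact ⟨_, hW w hw, rfl⟩) x ⟨x, hx, rfl⟩
  obtain ⟨y, hy, rfl⟩ := hy
  exact ⟨y, hy, Subtype.ext e⟩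

end Cfsg.Agent.H18.Carter.Uni
end

-- part: H18/Carter/UniInd
section
/-!
# Conjugacy of unipotent isometries: the induction (S3852)
-/

set_option autoImplicit false
set_option linter.unusedSectionVars false
set_option linter.unusedVariables false

universe u

namespace Cfsg.Agent.H18.Carter.Uni

open Cfsg.Agent.H904.FR Cfsg.Agent.H721.FR Cfsg.Agent.H721.SR Module

section

variable {F V : Type u} [Field F] [AddCommGroup V] [Module F V]

variable {B : V →ₗ[F] V →ₗ[F] F} {N N' : V →ₗ[F] V} {k : ℕ} {ε : F} {M : Submodule F V}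

theorem finrank_map_pow [FiniteDimensional F V] (hc : IsCompl (LinearMap.ker (N ^ k)) M) :
    finrank F (M.map (N ^ k)) = finrank F M := by
  have h : Function.Injective ((N ^ k) ∘ₗ M.subtype) := by
    rw [← LinearMap.ker_eq_bot, LinearMap.ker_eq_bot']
    intro x hx
    exact Subtype.ext (Submodule.disjoint_def.1 hc.disjoint x (LinearMap.mem_ker.2 hx) x.2)
  have h1 := LinearMap.finrank_range_of_inj h
  rwa [LinearMap.range_comp, Submodule.range_subtype] at h1

theorem finrank_range_Phi [FiniteDimensional F V] (hS : Std B N k M) :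
    finrank F (LinearMap.range (Phi N k M)) = (k + 1) * finrank F M := by
  rw [LinearMap.finrank_range_of_inj hS.injective, Module.finrank_pi_fintype, Finset.sum_const, Finset.card_univ,
    Fintype.card_fin, smul_eq_mul]

theorem pow_Phi (hN : N ^ (k + 1) = 0) (f : Fin (k + 1) → M) : (N ^ k) (Phi N k M f) = (N ^ k) (f 0 : V) := by
  rw [Phi_apply, map_sum, Finset.sum_eq_single 0]
  · rfl
  · intro i _ hi
    have hi' : 0 < (i : ℕ) := Nat.pos_of_ne_zero fun h => hi (Fin.ext h)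
    rw [← Module.End.mul_apply, ← pow_add]
    exact pow_zero_of_lt hN (by omega) _
  · exact fun h => absurd (Finset.mem_univ _) h

/-- the shift -/
theorem N_Phi (hN : N ^ (k + 1) = 0) (f : Fin (k + 1) → M) :
    N (Phi N k M f) = Phi N k M (Fin.cons 0 fun i : Fin k => f i.castSucc) := by
  have hl := Fin.sum_univ_castSucc (fun i : Fin (k + 1) => N ((N ^ (i : ℕ)) (f i : V)))
  have hr := Fin.sum_univ_succ (fun i : Fin (k + 1) => (N ^ (i : ℕ)) ((Fin.cons 0 (fun i : Fin k => f i.castSucc) : Fin (k + 1) → M) i : V))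
  rw [Phi_apply, Phi_apply, map_sum, hl, hr]
  have h1 : N ((N ^ ((Fin.last k : Fin (k + 1)) : ℕ)) (f (Fin.last k) : V)) = 0 := by
    have : (N ^ (k + 1)) (f (Fin.last k) : V) = 0 := by rw [hN]; rfl
    rw [pow_succ'] at this
    exact this
  rw [h1, add_zero]
  simp only [Fin.cons_zero, Fin.cons_succ, Submodule.coe_zero, map_zero, zero_add]
  refine Finset.sum_congr rfl fun i _ => ?_
  rw [Fin.val_castSucc, Fin.val_succ, pow_succ']
  rfl

theorem ker_on_range (hS : Std B N k M) {x : V} (hx : x ∈ LinearMap.range (Phi N k M)) (h0 : N x = 0) :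
    x ∈ M.map (N ^ k) := by
  obtain ⟨f, rfl⟩ := hx
  rw [N_Phi hS.nil] at h0
  have h1 := hS.injective (h0.trans (map_zero _).symm)
  have h2 : ∀ i : Fin k, f i.castSucc = 0 := by
    intro i
    have := congrFun h1 i.succ
    rwa [Fin.cons_succ] at this
  refine ⟨f (Fin.last k), (f (Fin.last k)).2, ?_⟩
  rw [Phi_apply, Fin.sum_univ_castSucc]
  simp only [h2, _root_.Fin.val_castSucc, _root_.ZeroMemClass.coe_zero, _root_.map_zero, _root_.Finset.sum_const_zero, _root_.Fin.val_last, _root_.zero_add]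

/-- ranks on the block -/
theorem rank_block [FiniteDimensional F V] (hS : Std B N k M) (hc : IsCompl (LinearMap.ker (N ^ k)) M)
    {U : Submodule F V} (hUd : U = LinearMap.range (Phi N k M)) (hU : ∀ x ∈ U, N x ∈ U) :
    finrank F (LinearMap.range ((N.restrict hU) ^ k)) = finrank F M ∧
      finrank F (LinearMap.range (N.restrict hU)) = k * finrank F M := by
  have hpow : ∀ (j : ℕ) (x : U), (((N.restrict hU) ^ j) x : V) = (N ^ j) (x : V) := by
    intro j
    induction j with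
    | zero => exact fun x => rfl
    | succ j ih =>
      intro x
      rw [pow_succ, pow_succ, Module.End.mul_apply, Module.End.mul_apply, ih]
      rfl
  constructor
  · rw [← finrank_map_pow hc, (Submodule.equivMapOfInjective U.subtype U.injective_subtype
      (LinearMap.range ((N.restrict hU) ^ k))).finrank_eq]
    have hEq : (LinearMap.range ((N.restrict hU) ^ k)).map U.subtype = M.map (N ^ k) := ?_
    · rw [hEq]
    ext v
    constructor
    · rintro ⟨_, ⟨x, rfl⟩, rfl⟩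
      obtain ⟨f, hf⟩ : (x : V) ∈ LinearMap.range (Phi N k M) := hUd ▸ x.2
      refine ⟨f 0, (f 0).2, ?_⟩
      rw [← pow_Phi hS.nil, hf]
      exact (hpow k x).symm
    · rintro ⟨m, hm, rfl⟩
      have hmU : m ∈ U := by
        have := pow_mem_range (M := M) hS.nil 0 hm
        rw [hUd]
        exact this
      exact ⟨_, ⟨⟨m, hmU⟩, rfl⟩, hpow k ⟨m, hmU⟩⟩
  · have h1 := LinearMap.finrank_range_add_finrank_ker (N.restrict hU)
    have h0 : finrank F U = (k + 1) * finrank F M := by rw [hUd, finrank_range_Phi hS]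
    rw [h0] at h1
    have h2 : finrank F (LinearMap.ker (N.restrict hU)) = finrank F M := by
      rw [← finrank_map_pow hc, (Submodule.equivMapOfInjective U.subtype U.injective_subtype
        (LinearMap.ker (N.restrict hU))).finrank_eq]
      have hEq : (LinearMap.ker (N.restrict hU)).map U.subtype = M.map (N ^ k) := ?_
      · rw [hEq]
      ext v
      constructor
      · rintro ⟨x, hx, rfl⟩
        exact ker_on_range hS (hUd ▸ x.2) (congrArg Subtype.val (LinearMap.mem_ker.1 hx))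
      · rintro ⟨m, hm, rfl⟩
        have hmU : (N ^ k) m ∈ U := by
          rw [hUd]
          exact pow_mem_range (M := M) hS.nil k hm
        refine ⟨⟨(N ^ k) m, hmU⟩, ?_, rfl⟩
        apply LinearMap.mem_ker.2
        apply Subtype.ext
        show N ((N ^ k) m) = 0
        have : (N ^ (k + 1)) m = 0 := by rw [hS.nil]; rfl
        rw [pow_succ'] at this
        exact this
    have h3 : (k + 1) * finrank F M = k * finrank F M + finrank F M := by ring
    omega

/-- additivity of the rank -/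
theorem rank_add [FiniteDimensional F V] {U W : Submodule F V} (h : IsCompl U W) (hU : ∀ x ∈ U, N x ∈ U)
    (hW : ∀ x ∈ W, N x ∈ W) :
    finrank F (LinearMap.range N) = finrank F (LinearMap.range (N.restrict hU)) + finrank F (LinearMap.range (N.restrict hW)) := by
  have e1 := (Submodule.equivMapOfInjective U.subtype U.injective_subtype (LinearMap.range (N.restrict hU))).finrank_eq
  have e2 := (Submodule.equivMapOfInjective W.subtype W.injective_subtype (LinearMap.range (N.restrict hW))).finrank_eq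
  rw [e1, e2, ← Submodule.finrank_sup_add_finrank_inf_eq]
  have h1 : (LinearMap.range (N.restrict hU)).map U.subtype ≤ U := Submodule.map_subtype_le _ _
  have h2 : (LinearMap.range (N.restrict hW)).map W.subtype ≤ W := Submodule.map_subtype_le _ _
  have h3 : (LinearMap.range (N.restrict hU)).map U.subtype ⊓ (LinearMap.range (N.restrict hW)).map W.subtype = ⊥ :=
    le_bot_iff.1 ((inf_le_inf h1 h2).trans h.inf_eq_bot.le)
  have hEq : LinearMap.range N = (LinearMap.range (N.restrict hU)).map U.subtype ⊔ (LinearMap.range (N.restrict hW)).map W.subtype := ?_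
  · rw [h3, finrank_bot, add_zero, hEq]
  apply le_antisymm
  · rintro _ ⟨v, rfl⟩
    have : v ∈ U ⊔ W := by rw [h.sup_eq_top]; exact Submodule.mem_top
    obtain ⟨x, hx, y, hy, rfl⟩ := Submodule.mem_sup.1 this
    rw [map_add]
    have m1 : N x ∈ (LinearMap.range (N.restrict hU)).map U.subtype := ⟨N.restrict hU ⟨x, hx⟩, ⟨⟨x, hx⟩, rfl⟩, rfl⟩
    have m2 : N y ∈ (LinearMap.range (N.restrict hW)).map W.subtype := ⟨N.restrict hW ⟨y, hy⟩, ⟨⟨y, hy⟩, rfl⟩, rfl⟩
    exact Submodule.add_mem_sup m1 m2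
  · refine sup_le ?_ ?_
    · rintro _ ⟨_, ⟨x, rfl⟩, rfl⟩
      exact ⟨x, rfl⟩
    · rintro _ ⟨_, ⟨x, rfl⟩, rfl⟩
      exact ⟨x, rfl⟩

end

/-- **the induction** -/
theorem conj_gen {F : Type u} [Field F] (h2 : (2 : F) ≠ 0) {ε : F} (hε : ε * ε = 1) {n μ : F} (hn : n ≠ 0)
    (km : ℕ) (Q : ℕ → Prop)
    (hblk : ∀ (M : Type u) [AddCommGroup M] [Module F M] [FiniteDimensional F M] (β : M →ₗ[F] M →ₗ[F] F) (k r : ℕ),
      k ≤ km → (k ≤ 1 → r = 0) → (∀ x y, β x y = ε * (-1) ^ k * β y x) → (∀ x, (∀ y, β x y = 0) → x = 0) →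
      Q (r + k * finrank F M) →
      (∃ A : M ≃ₗ[F] M, ∀ x y, β (A x) (A y) = μ * (n⁻¹) ^ k * β x y) ∧ Q r) :
    ∀ (d : ℕ) (V : Type u) [AddCommGroup V] [Module F V] [FiniteDimensional F V] (B : V →ₗ[F] V →ₗ[F] F)
      (N N' : V →ₗ[F] V), finrank F V = d → (∀ x y, B x y = ε * B y x) → (∀ x, (∀ y, B x y = 0) → x = 0) →
      (∀ x y, B (N x) y = - B x (N y)) → (∀ x y, B (N' x) y = - B x (N' y)) → N ^ (km + 1) = 0 → Rel n N N' →
      Q (finrank F (LinearMap.range N)) →
      ∃ h : V ≃ₗ[F] V, (∀ x y, B (h x) (h y) = μ * B x y) ∧ ∀ x, h (N x) = N' (h x) := by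
  intro d
  induction d using Nat.strong_induction_on with
  | _ d IH =>
  intro V _ _ _ B N N' hd hB hnd hs hs' hN hR hQ
  have hB0 : ∀ x y, B x y = 0 → B y x = 0 := fun x y h => by rw [hB, h, mul_zero]
  rcases subsingleton_or_nontrivial V with hV | hV
  · exact ⟨LinearEquiv.refl F V, fun x y => by rw [Subsingleton.elim x 0]; simp, fun x => Subsingleton.elim _ _⟩
  -- the top block
  obtain ⟨k, hk, hkm, hk0⟩ : ∃ k, N ^ (k + 1) = 0 ∧ k ≤ km ∧ N ^ k ≠ 0 := by
    classical
    have hex : ∃ k, N ^ (k + 1) = 0 := ⟨km, hN⟩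
    refine ⟨Nat.find hex, Nat.find_spec hex, Nat.find_min' hex hN, ?_⟩
    rcases Nat.eq_zero_or_pos (Nat.find hex) with h | h
    · rw [h, pow_zero]
      exact one_ne_zero
    · obtain ⟨j, hj⟩ : ∃ j, Nat.find hex = j + 1 := ⟨Nat.find hex - 1, by omega⟩
      rw [hj]
      exact Nat.find_min hex (by omega)
  obtain ⟨M, hc, hS⟩ := exists_std' h2 hε hB hnd hs hk
  set U := LinearMap.range (Phi N k M) with hUd
  have hU : ∀ x ∈ U, N x ∈ U := fun x hx => range_inv hk hx
  have hnU : NdOn B U := hS.ndOn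
  have hcU := isCompl_perp hε hB hnU
  have hW := perp_inv hs hU
  have hM0 : 0 < finrank F M := by
    rw [Nat.pos_iff_ne_zero]
    intro h
    have h1 : M = ⊥ := Submodule.finrank_eq_zero.1 h
    rw [h1] at hc
    have h3 := hc.sup_eq_top
    rw [sup_bot_eq, LinearMap.ker_eq_top] at h3
    exact hk0 h3
  have hdU : finrank F U = (k + 1) * finrank F M := finrank_range_Phi hS
  have hdW : finrank F (perp B U) < d := by
    have h1 := Submodule.finrank_add_eq_of_isCompl hcU
    have h3 : 0 < (k + 1) * finrank F M := Nat.mul_pos (Nat.succ_pos k) hM0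
    omega
  obtain ⟨hr1, hr2⟩ := rank_block hS hc hUd hU
  have hra := rank_add hcU hU hW
  rw [hr2] at hra
  have hrW : k ≤ 1 → finrank F (LinearMap.range (N.restrict hW)) = 0 := by
    intro hk1
    have h1 : ∀ w ∈ perp B U, (N ^ k) w = 0 := by
      intro w hw
      apply hnd
      intro v
      have : v ∈ LinearMap.ker (N ^ k) ⊔ M := by rw [hc.sup_eq_top]; exact Submodule.mem_top
      obtain ⟨x, hx, y, hy, rfl⟩ := Submodule.mem_sup.1 this
      rw [skew_pow hs, map_add, LinearMap.mem_ker.1 hx, zero_add, hB0 _ _ (hw _ (pow_mem_range hk k hy)), mul_zero]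
    have h3 : N.restrict hW = 0 := by
      ext x
      show N x = 0
      rcases Nat.le_one_iff_eq_zero_or_eq_one.1 hk1 with h | h
      · have h5 := hk
        rw [h, zero_add, pow_one] at h5
        rw [h5]; rfl
      · have h5 := h1 x x.2
        rwa [h, pow_one] at h5
    rw [h3, LinearMap.range_zero, finrank_bot]
  have hQ' : Q (finrank F (LinearMap.range (N.restrict hW)) + k * finrank F M) := by
    rwa [hra, add_comm] at hQ
  -- the block
  have hpow : ∀ (j : ℕ) (x : U), (((N.restrict hU) ^ j) x : V) = (N ^ j) (x : V) := by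
    intro j
    induction j with
    | zero => exact fun x => rfl
    | succ j ih =>
      intro x
      rw [pow_succ, pow_succ, Module.End.mul_apply, Module.End.mul_apply, ih]
      rfl
  have hNU : (N.restrict hU) ^ (k + 1) = 0 := by
    ext x
    rw [hpow, hk]
    rfl
  have hRU := hR.restrict hU
  have hRW := hR.restrict hW
  have hndU : ∀ x : U, (∀ y, res B U x y = 0) → x = 0 := fun x hx => Subtype.ext (hnU x x.2 fun y hy => hx ⟨y, hy⟩)
  have hQr : Q (finrank F (LinearMap.range (N.restrict hW))) := by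
    refine (hblk M (bet B N k M) k _ hkm hrW (fun x y => hS.bet_symm hB x y) (fun x hx => hS.bet_nondeg x hx) hQ').2
  obtain ⟨f, hf, hfN⟩ := blk (B := res B U) (N := N.restrict hU) (N' := N'.restrict (hR.inv hU)) (k := k) (μ := μ) h2 hε
    (fun x y => hB x y) hndU (fun x y => hs x y) (fun x y => hs' x y) hNU (hRU.pow_succ_eq hNU) hn (hRU.pow_eq hNU)
    (by rw [hr1, hdU]) (by
      intro M' hS' hc'
      have hM' : finrank F M' = finrank F M := by rw [finrank_M hc', hr1]
      refine (hblk M' (bet (res B U) (N.restrict hU) k M') k _ hkm hrW (fun x y => hS'.bet_symm (fun x y => hB x y) x y)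
        (fun x hx => hS'.bet_nondeg x hx) ?_).1
      rw [hM']
      exact hQ')
  -- the rest
  have hndW : ∀ x : perp B U, (∀ y, res B (perp B U) x y = 0) → x = 0 := by
    intro x hx
    apply Subtype.ext
    apply hnd
    intro v
    have : v ∈ U ⊔ perp B U := by rw [hcU.sup_eq_top]; exact Submodule.mem_top
    obtain ⟨y, hy, w, hw, rfl⟩ := Submodule.mem_sup.1 this
    rw [map_add, hB0 _ _ (x.2 y hy), zero_add]
    exact hx ⟨w, hw⟩
  have hNW : (N.restrict hW) ^ (km + 1) = 0 := by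
    have hp : ∀ (j : ℕ) (x : perp B U), (((N.restrict hW) ^ j) x : V) = (N ^ j) (x : V) := by
      intro j
      induction j with
      | zero => exact fun x => rfl
      | succ j ih =>
        intro x
        rw [pow_succ, pow_succ, Module.End.mul_apply, Module.End.mul_apply, ih]
        rfl
    ext x
    rw [hp, hN]
    rfl
  obtain ⟨g, hg, hgN⟩ := IH _ hdW (perp B U) (res B (perp B U)) (N.restrict hW) (N'.restrict (hR.inv hW)) rfl
    (fun x y => hB x y) hndW (fun x y => hs x y) (fun x y => hs' x y) hNW hRW hQr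
  refine glue hε hB hcU f g hf hg ?_ ?_ hU hW
  · intro x y hy
    have : y = (N.restrict hU) x := Subtype.ext hy
    rw [this, hfN]
    rfl
  · intro x y hy
    have : y = (N.restrict hW) x := Subtype.ext hy
    rw [this, hgN]
    rfl

end Cfsg.Agent.H18.Carter.Uni
end

-- part: H18/Carter/UniCay
section
/-!
# Conjugacy of unipotent isometries: Cayley transforms (S3852)
-/

set_option autoImplicit false
set_option linter.unusedSectionVars false
set_option linter.unusedVariables false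

universe u

namespace Cfsg.Agent.H18.Carter.Uni

open Cfsg.Agent.H904.FR Cfsg.Agent.H721.FR Cfsg.Agent.H721.SR Cfsg.Agent.H955.FS Module

variable {F V : Type u} [Field F] [AddCommGroup V] [Module F V]

variable {B : V →ₗ[F] V →ₗ[F] F} {N N' : V →ₗ[F] V} {k : ℕ} {ε : F} {c : V ≃ₗ[F] V}

theorem cay_mem [FiniteDimensional F V] (h : Cay c N) {U : Submodule F V} (hU : ∀ x ∈ U, N x ∈ U) :
    ∀ x ∈ U, c x ∈ U := by
  intro x hx
  have h1 : c x ∈ U.map (c : V →ₗ[F] V) := ⟨x, hx, rfl⟩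
  rwa [h.map_eq hU] at h1

theorem pow_mem' [FiniteDimensional F V] (h : Cay c N) {U : Submodule F V} (hU : ∀ x ∈ U, N x ∈ U) (n : ℕ) :
    ∀ x ∈ U, (c ^ n) x ∈ U := by
  induction n with
  | zero => exact fun x hx => hx
  | succ n ih => exact fun x hx => by rw [pow_succ]; exact ih _ (cay_mem h hU x hx)

/-- `c ^ n = 1 + 2 n N + N ^ 2 ( )` -/
theorem pow_expand [FiniteDimensional F V] (h : Cay c N) {U : Submodule F V} (hU : ∀ x ∈ U, N x ∈ U) (n : ℕ) :
    ∀ x ∈ U, ∃ y ∈ U, (c ^ n) x = x + (2 * (n : F)) • N x + N (N y) := by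
  have h1 : ∀ x, c x = x + (2 : F) • N x + N (N (x + c x)) := by
    intro x
    have e : c x = x + N x + N (c x) := sub_eq_iff_eq_add.1 (h.eq' x)
    calc c x = x + N x + N (c x) := e
      _ = x + N x + N (x + N x + N (c x)) := congrArg (fun z => x + N x + N z) e
      _ = _ := by
        simp only [map_add, two_smul]
        abel
  induction n with
  | zero => exact fun x hx => ⟨0, U.zero_mem, by simp only [_root_.pow_zero, _root_.LinearEquiv.coe_one, _root_.id_eq, _root_.Nat.cast_zero, _root_.MulZeroClass.mul_zero, _root_.zero_smul, _root_.add_zero, _root_.map_zero]⟩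
  | succ n ih =>
    intro x hx
    obtain ⟨y, hy, e⟩ := ih x hx
    refine ⟨y + (2 * (2 * (n : F))) • x + (2 : F) • N y + ((c ^ n) x + c ((c ^ n) x)), ?_, ?_⟩
    · have h3 := pow_mem' h hU n x hx
      exact U.add_mem (U.add_mem (U.add_mem hy (U.smul_mem _ hx)) (U.smul_mem _ (hU y hy))) (U.add_mem h3 (cay_mem h hU _ h3))
    · have e1 : (c ^ (n + 1)) x = c ((c ^ n) x) := by rw [pow_succ']; rfl
      rw [e1]
      refine (h1 ((c ^ n) x)).trans ?_
      have e2 : N ((c ^ n) x) = N x + (2 * (n : F)) • N (N x) + N (N (N y)) := by rw [e]; simp only [map_add, map_smul]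
      have e3 : ∀ z : V, x + (2 * (n : F)) • N x + N (N y) + (2 : F) • (N x + (2 * (n : F)) • N (N x) + N (N (N y))) + N (N z) =
          x + (2 * ((n + 1 : ℕ) : F)) • N x + N (N (y + (2 * (2 * (n : F))) • x + (2 : F) • N y + z)) := by
        intro z
        simp only [map_add, map_smul, smul_add, smul_smul, Nat.cast_add, Nat.cast_one, mul_add, add_smul, mul_one]
        abel
      have e4 := e3 ((c ^ n) x + c ((c ^ n) x))
      rw [← e2, ← e] at e4
      exact e4

/-- the Cayley transforms of `c` and `c ^ n` -/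
theorem rel_cay [FiniteDimensional F V] (h2 : (2 : F) ≠ 0) (h : Cay c N) {n : ℕ} (h' : Cay (c ^ n) N') :
    Rel (n : F) N N' := by
  have hc : ∀ x, N' (c x) = c (N' x) := fun x => h'.of_comm h2 (by group) x
  refine ⟨fun x => ?_, fun U hU x hx => ?_⟩
  · obtain ⟨u, rfl⟩ := h.exists_eq h2 x
    rw [h.eq, map_add, map_sub, hc, h.eq]
  · -- `x = c ^ n u + u` with `u ∈ U`
    let f : U →ₗ[F] U := ((c ^ n : V ≃ₗ[F] V) : V →ₗ[F] V).restrict (pow_mem' h hU n) + LinearMap.id
    have hf : Function.Injective f := by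
      rw [← LinearMap.ker_eq_bot, LinearMap.ker_eq_bot']
      intro u hu
      have h1 : (c ^ n) (u : V) + u = 0 := congrArg Subtype.val hu
      have h3 := h'.eq (u : V)
      rw [h1, map_zero] at h3
      have h4 : (c ^ n) (u : V) = u := (sub_eq_zero.1 h3.symm)
      rw [h4, ← two_smul F] at h1
      exact Subtype.ext ((smul_eq_zero_iff_right h2).1 h1)
    obtain ⟨u, hu⟩ := LinearMap.surjective_of_injective hf ⟨x, hx⟩
    have h1 : (c ^ n) (u : V) + u = x := congrArg Subtype.val hu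
    obtain ⟨y, hy, e⟩ := pow_expand h hU n u u.2
    have h3 : N' x = (2 * (n : F)) • N (u : V) + N (N y) := by
      rw [← h1, h'.eq, e]
      abel
    have h4 : x = (2 : F) • (u : V) + (2 * (n : F)) • N (u : V) + N (N y) := by
      rw [← h1, e, two_smul]
      abel
    refine ⟨y - (n : F) • ((2 * (n : F)) • (u : V) + N y), ?_, ?_⟩
    · exact U.sub_mem hy (U.smul_mem _ (U.add_mem (U.smul_mem _ u.2) (hU y hy)))
    · rw [h3, h4]
      simp only [map_add, map_sub, map_smul, smul_add, smul_smul]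
      rw [mul_comm (n : F) 2]
      abel

/-- from `h N = N' h` to `h c h⁻¹ = c'` -/
theorem conj_of_cay {c' : V ≃ₗ[F] V} (h : Cay c N) (h' : Cay c' N') {g : V ≃ₗ[F] V} (hg : ∀ x, g (N x) = N' (g x)) :
    g * c * g⁻¹ = c' := by
  rw [mul_inv_eq_iff_eq_mul]
  refine LinearEquiv.ext fun x => h'.inj ?_
  show g (c x) - N' (g (c x)) = c' (g x) - N' (c' (g x))
  rw [← hg, ← map_sub, h.eq', map_add, hg, h'.eq']

/-- the ranks of `N` and `c - 1` agree -/
theorem range_cay (h2 : (2 : F) ≠ 0) (h : Cay c N) :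
    LinearMap.range N = LinearMap.range ((c : V →ₗ[F] V) - LinearMap.id) := by
  ext x
  constructor
  · rintro ⟨y, rfl⟩
    obtain ⟨u, rfl⟩ := h.exists_eq h2 y
    exact ⟨u, (h.eq u).symm⟩
  · rintro ⟨u, rfl⟩
    exact ⟨c u + u, h.eq u⟩

end Cfsg.Agent.H18.Carter.Uni
end

-- part: H18/Carter/UniT
section
/-!
# Conjugacy of unipotent isometries: the theorems (S3852)

`B` nondegenerate, `ε`-symmetric, `F` finite of odd characteristic, `c` a unipotent isometry:

* `conj_four` : `c` and `c ^ 4` are conjugate in `Isom B`;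
* `real_of_even` : characteristic three, `B` alternating, `c ^ 3 = 1`, `rank (c - 1)` even or `-1` a square: `c` is
  conjugate to `c⁻¹` in `Isom B`;
* `exists_anti_inv` : characteristic three, `B` alternating, `c ^ 3 = 1`: `c` is inverted by an anti-isometry.
-/

set_option autoImplicit false
set_option linter.unusedSectionVars false
set_option linter.unusedVariables false

universe u

namespace Cfsg.Agent.H18.Carter.Uni

open Cfsg.Agent.H904.FR Cfsg.Agent.H721.FR Cfsg.Agent.H721.SR Cfsg.Agent.H955.FS Module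

variable {F V : Type u} [Field F] [AddCommGroup V] [Module F V]

variable {B : V →ₗ[F] V →ₗ[F] F} {k : ℕ} {ε : F} {c : V ≃ₗ[F] V}

/-- the general statement -/
theorem exists_sim [Finite F] [FiniteDimensional F V] (h2 : (2 : F) ≠ 0) (hε : ε * ε = 1)
    (hB : ∀ x y, B x y = ε * B y x) (hnd : ∀ x, (∀ y, B x y = 0) → x = 0) (hc : c ∈ Isom B)
    (hu : ∃ a : ℕ, c ^ (ringChar F) ^ a = 1) {n : ℕ} (hn : (n : F) ≠ 0) {μ : F} (km : ℕ)
    (hkm : ∀ N : V →ₗ[F] V, Cay c N → N ^ (km + 1) = 0) (Q : ℕ → Prop)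
    (hblk : ∀ (M : Type u) [AddCommGroup M] [Module F M] [FiniteDimensional F M] (β : M →ₗ[F] M →ₗ[F] F) (k r : ℕ),
      k ≤ km → (k ≤ 1 → r = 0) → (∀ x y, β x y = ε * (-1) ^ k * β y x) → (∀ x, (∀ y, β x y = 0) → x = 0) →
      Q (r + k * finrank F M) →
      (∃ A : M ≃ₗ[F] M, ∀ x y, β (A x) (A y) = μ * ((n : F)⁻¹) ^ k * β x y) ∧ Q r)
    (hQ : Q (finrank F (LinearMap.range ((c : V →ₗ[F] V) - LinearMap.id)))) :
    ∃ h : V ≃ₗ[F] V, (∀ x y, B (h x) (h y) = μ * B x y) ∧ h * c * h⁻¹ = c ^ n := by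
  obtain ⟨N, hN⟩ := exists_cay h2 hu
  obtain ⟨N', hN'⟩ := exists_cay (c := c ^ n) h2 (by
    obtain ⟨a, ha⟩ := hu
    exact ⟨a, by rw [← pow_mul, mul_comm, pow_mul, ha, one_pow]⟩)
  have hcn : c ^ n ∈ Isom B := pow_mem hc n
  obtain ⟨h, h3, h4⟩ := conj_gen h2 hε hn km Q hblk _ V B N N' rfl hB hnd (hN.skew h2 hc) (hN'.skew h2 hcn) (hkm N hN)
    (rel_cay h2 hN hN') (by rw [range_cay h2 hN]; exact hQ)
  exact ⟨h, h3, conj_of_cay hN hN' h4⟩

/-- **`c ~ c ^ 4`** -/
theorem conj_four [Finite F] [FiniteDimensional F V] (h2 : (2 : F) ≠ 0) (hε : ε * ε = 1)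
    (hB : ∀ x y, B x y = ε * B y x) (hnd : ∀ x, (∀ y, B x y = 0) → x = 0) (hc : c ∈ Isom B)
    (hu : ∃ a : ℕ, c ^ (ringChar F) ^ a = 1) : ∃ h ∈ Isom B, h * c * h⁻¹ = c ^ 4 := by
  obtain ⟨N, hN⟩ := exists_cay h2 hu
  obtain ⟨k, hk⟩ := hN.nil
  have huniq : ∀ N' : V →ₗ[F] V, Cay c N' → N' = N := by
    intro N' hN'
    ext x
    obtain ⟨u, rfl⟩ := hN.exists_eq h2 x
    rw [hN.eq, hN'.eq]
  have h4 : ((4 : ℕ) : F) = 2 * 2 := by norm_num
  obtain ⟨h, h5, h6⟩ := exists_sim (μ := 1) (n := 4) h2 hε hB hnd hc hu (by rw [h4]; exact mul_ne_zero h2 h2) k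
    (by
      intro N' hN'
      rw [huniq N' hN', pow_succ, hk, zero_mul]) (fun _ => True) (by
      intro M _ _ _ β k r hk hr hs hn _
      refine ⟨⟨LinearEquiv.smulOfUnit (((Units.mk0 (2 : F) h2)⁻¹) ^ k), fun x y => ?_⟩, trivial⟩
      have e : ∀ x : M, LinearEquiv.smulOfUnit (((Units.mk0 (2 : F) h2)⁻¹) ^ k) x = ((2 : F)⁻¹) ^ k • x := by
        intro x
        show (((Units.mk0 (2 : F) h2)⁻¹) ^ k) • x = _
        rw [Units.smul_def, Units.val_pow_eq_pow_val, Units.val_inv_eq_inv_val, Units.val_mk0]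
      rw [e, e, map_smul, map_smul, LinearMap.smul_apply, smul_eq_mul, smul_eq_mul, one_mul, h4, mul_inv, mul_pow,
        mul_assoc]) trivial
  exact ⟨h, mem_isom.2 fun x y => by rw [h5, one_mul], h6⟩

theorem cube_cay (h2 : (2 : F) ≠ 0) (h3 : (3 : F) = 0) (hc : c ^ 3 = 1) {N : V →ₗ[F] V} (hN : Cay c N) :
    N ^ (2 + 1) = 0 := by
  ext x
  obtain ⟨y, rfl⟩ := hN.exists_eq h2 x
  obtain ⟨z, rfl⟩ := hN.exists_eq h2 y
  obtain ⟨w, rfl⟩ := hN.exists_eq h2 z
  have h5 : c (c (c w)) = w := LinearEquiv.congr_fun hc w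
  have e1 : ∀ v, (N ^ (2 + 1)) v = N (N (N v)) := fun v => rfl
  have hc1 : ∀ v, c (c v + v) - (c v + v) = c (c v - v) + (c v - v) := by
    intro v
    simp only [map_add, map_sub]
    abel
  rw [LinearMap.zero_apply, e1, hN.eq, hc1, hN.eq, hc1, hc1, hN.eq]
  simp only [map_sub, h5]
  have h6 : c (c w) + c (c w) + c (c w) = 0 := by
    have : (3 : F) • c (c w) = c (c w) + c (c w) + c (c w) := by
      rw [show (3 : F) = 1 + 1 + 1 by norm_num, add_smul, add_smul, one_smul]
    rw [← this, h3, zero_smul]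
  have h7 : c w + c w + c w = 0 := by
    have : (3 : F) • c w = c w + c w + c w := by
      rw [show (3 : F) = 1 + 1 + 1 by norm_num, add_smul, add_smul, one_smul]
    rw [← this, h3, zero_smul]
  calc w - c (c w) - (c (c w) - c w) - (c (c w) - c w - (c w - w)) =
      (c w + c w + c w) - (c (c w) + c (c w) + c (c w)) := by abel
    _ = 0 := by rw [h6, h7, sub_zero]

theorem unip_three [Finite F] (h3 : (3 : F) = 0) (hc : c ^ 3 = 1) : ∃ a : ℕ, c ^ (ringChar F) ^ a = 1 := by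
  have h1 : ringChar F ∣ 3 := (ringChar.spec F 3).1 (by exact_mod_cast h3)
  have hne : ringChar F ≠ 1 := by
    intro h
    have := (ringChar.spec F 1).2 (by rw [h])
    exact one_ne_zero (by exact_mod_cast this)
  rcases (Nat.dvd_prime Nat.prime_three).1 h1 with h | h
  · exact absurd h hne
  · exact ⟨1, by rw [h, pow_one]; exact hc⟩

theorem two_ne (h3 : (3 : F) = 0) : (2 : F) ≠ 0 := by
  intro h2
  have : (1 : F) = 3 - 2 := by norm_num
  rw [h3, h2, sub_zero] at this
  exact one_ne_zero this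

theorem two_eq (h3 : (3 : F) = 0) : (2 : F) = -1 := by
  have : (2 : F) = 3 - 1 := by norm_num
  rw [this, h3, zero_sub]

theorem inv_of_cube (hc : c ^ 3 = 1) : c ^ 2 = c⁻¹ := by
  apply eq_inv_of_mul_eq_one_left
  rw [← pow_succ]
  exact hc

/-- a symmetric nondegenerate form of even dimension is isometric to its negative -/
theorem exists_neg_iso [Finite F] {M : Type u} [AddCommGroup M] [Module F M] [FiniteDimensional F M] (h2 : (2 : F) ≠ 0)
    (β : M →ₗ[F] M →ₗ[F] F) (hs : ∀ x y, β x y = β y x) (hn : ∀ x, (∀ y, β x y = 0) → x = 0)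
    (he : Even (finrank F M)) : ∃ A : M ≃ₗ[F] M, ∀ x y, β (A x) (A y) = - β x y := by
  classical
  have := Fintype.ofFinite F
  let Q : QuadraticForm F M := LinearMap.BilinMap.toQuadraticMap β
  have hQ : ∀ x, Q x = β x x := fun x => rfl
  have hpol : ∀ x y, QuadraticMap.polar Q x y = 2 * β x y := by
    intro x y
    rw [QuadraticMap.polar, hQ, hQ, hQ]
    simp only [map_add, LinearMap.add_apply]
    rw [hs y x]
    ring
  have hnd : Cfsg.Agent.LieClassical.OrthCore.Nondeg Q := by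
    intro x hx
    refine hn x fun y => ?_
    have := hx y
    rw [hpol] at this
    exact (mul_eq_zero.1 this).resolve_left h2
  have hpol' : ∀ x y, QuadraticMap.polar ((-1 : F) • Q) x y = - (2 * β x y) := by
    intro x y
    rw [← hpol]
    simp only [QuadraticMap.polar, QuadraticMap.smul_apply, smul_eq_mul]
    ring
  have hnd' : Cfsg.Agent.LieClassical.OrthCore.Nondeg ((-1 : F) • Q) := by
    intro x hx
    refine hn x fun y => ?_
    have := hx y
    rw [hpol', neg_eq_zero] at this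
    exact (mul_eq_zero.1 this).resolve_left h2
  obtain ⟨e, he⟩ := Cfsg.Agent.H160.QDisc.exists_iso (Q := Q) (Q' := (-1 : F) • Q) h2 hnd hnd' rfl (by
    rw [Cfsg.Agent.H160.QDisc.dc_smul]
    obtain ⟨r, hr⟩ := he
    rw [hr, ← two_mul, pow_mul, quadraticChar_sq_one (neg_ne_zero.2 one_ne_zero), one_pow, one_mul])
  refine ⟨e, fun x y => ?_⟩
  have e1 : ∀ x, - β (e x) (e x) = β x x := by
    intro x
    have := he x
    rw [QuadraticMap.smul_apply, hQ, hQ, smul_eq_mul, neg_mul, one_mul] at this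
    exact this
  have e2 := e1 (x + y)
  simp only [map_add, LinearMap.add_apply] at e2
  rw [hs (e y) (e x), hs y x] at e2
  have e3 := e1 x
  have e4 := e1 y
  apply mul_left_cancel₀ h2
  linear_combination -e2 + e3 + e4

/-- a nondegenerate alternating form is isometric to its negative -/
theorem exists_neg_alt [Finite F] {M : Type u} [AddCommGroup M] [Module F M] [FiniteDimensional F M]
    (β : M →ₗ[F] M →ₗ[F] F) (hs : ∀ x, β x x = 0) (hn : ∀ x, (∀ y, β x y = 0) → x = 0) :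
    ∃ A : M ≃ₗ[F] M, ∀ x y, β (A x) (A y) = - β x y := by
  have hskew : ∀ x y, β x y = - β y x := by
    intro x y
    have := hs (x + y)
    simp only [map_add, LinearMap.add_apply, hs, zero_add, add_zero] at this
    rw [add_comm] at this
    exact eq_neg_of_add_eq_zero_left this
  have hnd : LinearMap.BilinForm.Nondegenerate β := ⟨fun x hx => hn x hx, fun x hx => hn x fun y => by
    rw [hskew, hx y, neg_zero]⟩
  obtain ⟨m, -, e, he⟩ := Cfsg.Agent.H484.GenSp.exists_coord β hs hnd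
  let A : (Fin m ⊕ Fin m → F) ≃ₗ[F] (Fin m ⊕ Fin m → F) :=
    LinearEquiv.piCongrRight fun i => i.elim (fun _ => LinearEquiv.refl F F) (fun _ => LinearEquiv.neg F)
  refine ⟨e ≪≫ₗ A ≪≫ₗ e.symm, fun x y => ?_⟩
  rw [← he, ← he]
  have e1 : ∀ x, e ((e ≪≫ₗ A ≪≫ₗ e.symm) x) = A (e x) := fun x => e.apply_symm_apply _
  rw [e1, e1]
  have e2 : ∀ (v : Fin m ⊕ Fin m → F) i, A v (Sum.inl i) = v (Sum.inl i) := fun _ _ => rfl
  have e3 : ∀ (v : Fin m ⊕ Fin m → F) i, A v (Sum.inr i) = - v (Sum.inr i) := fun _ _ => rfl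
  rw [Cfsg.Agent.ClassicalGeometry.SympBasic.sympForm_eq_sum, Cfsg.Agent.ClassicalGeometry.SympBasic.sympForm_eq_sum,
    ← Finset.sum_neg_distrib]
  refine Finset.sum_congr rfl fun i _ => ?_
  rw [e2, e2, e3, e3]
  ring

/-- **elements of order three of `Sp(V)`: real if the rank is even** -/
theorem real_of_even [Finite F] [FiniteDimensional F V] (h3 : (3 : F) = 0) (hB : ∀ x, B x x = 0)
    (hnd : ∀ x, (∀ y, B x y = 0) → x = 0) (hc : c ∈ Isom B) (hc3 : c ^ 3 = 1)
    (hQ : Even (finrank F (LinearMap.range ((c : V →ₗ[F] V) - LinearMap.id))) ∨ IsSquare (-1 : F)) :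
    ∃ h ∈ Isom B, h * c * h⁻¹ = c⁻¹ := by
  have hskew : ∀ x y, B x y = (-1) * B y x := by
    intro x y
    have := hB (x + y)
    simp only [map_add, LinearMap.add_apply, hB, zero_add, add_zero] at this
    rw [add_comm] at this
    rw [neg_one_mul]
    exact eq_neg_of_add_eq_zero_left this
  have h2 := two_ne h3
  have hi2 : (((2 : ℕ) : F))⁻¹ = -1 := by
    rw [Nat.cast_ofNat, two_eq h3, inv_neg, inv_one]
  obtain ⟨h, h5, h6⟩ := exists_sim (μ := 1) (n := 2) h2 (by ring) hskew hnd hc (unip_three h3 hc3) (by exact_mod_cast h2) 2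
    (fun N hN => cube_cay h2 h3 hc3 hN) (fun r => Even r ∨ IsSquare (-1 : F)) (by
      intro M _ _ _ β k r hk hr hs hn hQ
      rw [hi2]
      obtain rfl | rfl | rfl : k = 0 ∨ k = 1 ∨ k = 2 := by omega
      · exact ⟨⟨LinearEquiv.refl F M, fun x y => by simp⟩, by simpa only [_root_.MulZeroClass.zero_mul, _root_.add_zero] using hQ⟩
      · refine ⟨?_, by rw [hr le_rfl]; exact Or.inl ⟨0, rfl⟩⟩
        rw [hr le_rfl, zero_add, one_mul] at hQ
        rcases hQ with hQ | ⟨d, hd⟩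
        · obtain ⟨A, hA⟩ := exists_neg_iso h2 β (fun x y => by rw [hs x y]; ring) hn hQ
          exact ⟨A, fun x y => by rw [hA]; ring⟩
        · have hd0 : d ≠ 0 := by
            rintro rfl
            rw [mul_zero] at hd
            exact (neg_ne_zero.2 one_ne_zero) hd
          refine ⟨LinearEquiv.smulOfUnit (Units.mk0 d hd0), fun x y => ?_⟩
          have e : ∀ x : M, LinearEquiv.smulOfUnit (Units.mk0 d hd0) x = d • x := fun x => rfl
          rw [e, e, map_smul, map_smul, LinearMap.smul_apply, smul_eq_mul, smul_eq_mul]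
          linear_combination (-β x y) * hd
      · refine ⟨⟨LinearEquiv.refl F M, fun x y => by simp only [_root_.LinearEquiv.refl_apply, _root_.even_two, _root_.Even.neg_pow, _root_.one_pow, _root_.mul_one, _root_.one_mul]⟩, ?_⟩
        rcases hQ with hQ | hQ
        · left
          rw [Nat.even_add] at hQ
          exact hQ.2 ⟨finrank F M, by ring⟩
        · exact Or.inr hQ) hQ
  refine ⟨h, mem_isom.2 fun x y => by rw [h5, one_mul], ?_⟩
  rw [h6, inv_of_cube hc3]

/-- **elements of order three of `Sp(V)` are inverted by anti-isometries** -/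
theorem exists_anti_inv [Finite F] [FiniteDimensional F V] (h3 : (3 : F) = 0) (hB : ∀ x, B x x = 0)
    (hnd : ∀ x, (∀ y, B x y = 0) → x = 0) (hc : c ∈ Isom B) (hc3 : c ^ 3 = 1) :
    ∃ h : V ≃ₗ[F] V, (∀ x y, B (h x) (h y) = - B x y) ∧ h * c * h⁻¹ = c⁻¹ := by
  have hskew : ∀ x y, B x y = (-1) * B y x := by
    intro x y
    have := hB (x + y)
    simp only [map_add, LinearMap.add_apply, hB, zero_add, add_zero] at this
    rw [add_comm] at this
    rw [neg_one_mul]
    exact eq_neg_of_add_eq_zero_left this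
  have h2 := two_ne h3
  have hi2 : (((2 : ℕ) : F))⁻¹ = -1 := by
    rw [Nat.cast_ofNat, two_eq h3, inv_neg, inv_one]
  have halt : ∀ (M : Type u) [AddCommGroup M] [Module F M] [FiniteDimensional F M] (β : M →ₗ[F] M →ₗ[F] F),
      (∀ x y, β x y = - β y x) → ∀ x, β x x = 0 := by
    intro M _ _ _ β hs x
    have := hs x x
    have h4 : (2 : F) * β x x = 0 := by linear_combination this
    exact (mul_eq_zero.1 h4).resolve_left h2
  obtain ⟨h, h5, h6⟩ := exists_sim (μ := -1) (n := 2) h2 (by ring) hskew hnd hc (unip_three h3 hc3) (by exact_mod_cast h2) 2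
    (fun N hN => cube_cay h2 h3 hc3 hN) (fun r => True) (by
      intro M _ _ _ β k r hk hr hs hn hQ
      rw [hi2]
      refine ⟨?_, trivial⟩
      obtain rfl | rfl | rfl : k = 0 ∨ k = 1 ∨ k = 2 := by omega
      · obtain ⟨A, hA⟩ := exists_neg_alt β (halt M β fun x y => by rw [hs x y]; ring) hn
        exact ⟨A, fun x y => by rw [hA]; ring⟩
      · exact ⟨LinearEquiv.refl F M, fun x y => by simp⟩
      · obtain ⟨A, hA⟩ := exists_neg_alt β (halt M β fun x y => by rw [hs x y]; ring) hn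
        exact ⟨A, fun x y => by rw [hA]; ring⟩) trivial
  refine ⟨h, fun x y => by rw [h5, neg_one_mul], ?_⟩
  rw [h6, inv_of_cube hc3]

end Cfsg.Agent.H18.Carter.Uni
end
end

-- part: H18/Carter/SpMain
section
prune_inst 0x444500000414012000000201080001e028200042000080800002009020488a46a00020820a88004020220000500310040000000000040000004000000011d01800000000030000000820018000100000000000000000000000000000000010000000000000
set_option linter.all false
open scoped Cfsg.Agent.FastGrp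

-- part: H18/Carter/SpDef
section
/-!
# S3852, rows `PSp₂ₙ(q)`, `q` odd: groups of semilinear isometries (interface)

`Md F B Γ` : `Γ` acts faithfully on the symplectic space `(V, B)` by semilinear isometries and contains `Sp(V)`.

* `T.L` : the linear elements, i.e. `Sp(V)`; `T.lin g hg : V ≃ₗ[F] V`;
* `T.eps` : the element `-1`;
* `Sm2 Γ` : the Carter subgroups of all groups `Y` with `2 |Y| < |Γ|` are conjugate;
* `Sm2.cc_sub` : those of proper subgroups of `Γ` containing `-1` are conjugate;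
* `Sm2.norm` : `K ≤ M ≠ ⊤`, `K` Carter: `N(M) = M`;
* `Sm2.eq_of_conj` : elements centralised by `K` which are conjugate in `Γ` are equal.
-/

set_option autoImplicit false
set_option linter.style.haveILetI false

namespace Cfsg.Agent.H18.Carter

open Subgroup Pointwise
open Cfsg.Agent.Solvable.Carter

universe u

/-! ### central quotients -/

section

variable {Y : Type*} [Group Y]

theorem IsCarter.center_le {K : Subgroup Y} (hK : IsCarter K) : center Y ≤ K := by
  intro x hx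
  rw [← hK.2, mem_normalizer_iff]
  intro y
  rw [← mem_center_iff.1 hx y, mul_inv_cancel_right]

theorem IsCarter.map_central {K Z : Subgroup Y} [Z.Normal] (hZ : Z ≤ center Y) (hK : IsCarter K) :
    IsCarter (K.map (QuotientGroup.mk' Z)) := by
  have := hK.1
  have hZK : Z ≤ K := hZ.trans (IsCarter.center_le hK)
  refine ⟨Group.nilpotent_of_surjective ((QuotientGroup.mk' Z).subgroupMap K) ((QuotientGroup.mk' Z).subgroupMap_surjective K), ?_⟩
  refine le_antisymm ?_ le_normalizer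
  intro y hy
  obtain ⟨y, rfl⟩ := QuotientGroup.mk'_surjective Z y
  refine ⟨y, ?_, rfl⟩
  change y ∈ K
  rw [← hK.2]
  have key : ∀ x : Y, x ∈ K ↔ QuotientGroup.mk' Z x ∈ K.map (QuotientGroup.mk' Z) := by
    intro x
    refine ⟨fun h => ⟨x, h, rfl⟩, ?_⟩
    rintro ⟨k, hk, e⟩
    have h1 : k⁻¹ * x ∈ Z := QuotientGroup.eq.1 e
    have := mul_mem hk (hZK h1)
    rwa [mul_inv_cancel_left] at this
  rw [mem_normalizer_iff] at hy ⊢
  intro x
  rw [key, key, map_mul, map_mul, map_inv]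
  exact hy _

/-- conjugacy lifts through central quotients -/
theorem CC.of_central {Z : Subgroup Y} [Z.Normal] (hZ : Z ≤ center Y) (h : CC (Y ⧸ Z)) : CC Y := by
  intro K H hK hH
  obtain ⟨g, hg⟩ := h _ _ (IsCarter.map_central hZ hK) (IsCarter.map_central hZ hH)
  obtain ⟨g, rfl⟩ := QuotientGroup.mk'_surjective Z g
  refine ⟨g, ?_⟩
  have hZK : Z ≤ K := hZ.trans (IsCarter.center_le hK)
  have hZH : Z ≤ H := hZ.trans (IsCarter.center_le hH)
  have e1 : (MulAut.conj g • K).map (QuotientGroup.mk' Z) = H.map (QuotientGroup.mk' Z) := by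
    rw [← hg]
    ext y
    constructor
    · rintro ⟨x, hx, rfl⟩
      rw [mem_cj]
      exact ⟨_, mem_cj.1 hx, by rw [map_mul, map_mul, map_inv]⟩
    · intro hy
      obtain ⟨x, hx, e⟩ := mem_cj.1 hy
      refine ⟨g * x * g⁻¹, cj_mem hx, ?_⟩
      rw [map_mul, map_mul, map_inv, e]
      group
  have e2 : (MulAut.conj g • K) ⊔ Z = H ⊔ Z := by
    have := congrArg (Subgroup.comap (QuotientGroup.mk' Z)) e1
    rwa [comap_map_eq, comap_map_eq, QuotientGroup.ker_mk'] at this
  have hZK' : Z ≤ MulAut.conj g • K := by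
    intro z hz
    rw [mem_cj]
    exact hZK (by
      have := ‹Z.Normal›.conj_mem z hz g⁻¹
      rwa [inv_inv] at this)
  rwa [sup_eq_left.2 hZK', sup_eq_left.2 hZH] at e2

end

/-! ### the hypothesis -/

/-- the Carter subgroups of all groups `Y` with `2 |Y| < |Γ|` are conjugate -/
def Sm2 (Γ : Type u) [Group Γ] : Prop :=
  ∀ (Y : Type u) [Group Y] [Finite Y], 2 * Nat.card Y < Nat.card Γ → CC Y

section

variable {Γ : Type u} [Group Γ] [Finite Γ]

/-- groups with a central element of order two -/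
theorem Sm2.cc_central (sm : Sm2 Γ) {Y : Type u} [Group Y] [Finite Y] (hY : Nat.card Y < Nat.card Γ) {e : Y}
    (he : e ∈ center Y) (he2 : orderOf e = 2) : CC Y := by
  have hZ : zpowers e ≤ center Y := by rw [zpowers_le]; exact he
  haveI : (zpowers e).Normal := ⟨fun n hn g => by
    rw [(mem_center_iff.1 (hZ hn)) g, mul_inv_cancel_right]
    exact hn⟩
  refine CC.of_central hZ (sm _ ?_)
  have h1 := Subgroup.card_eq_card_quotient_mul_card_subgroup (zpowers e)
  rw [Nat.card_zpowers, he2] at h1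
  omega

/-- proper subgroups containing the central element `e` of order two -/
theorem Sm2.cc_sub (sm : Sm2 Γ) {e : Γ} (he : ∀ g, g * e = e * g) (he2 : orderOf e = 2) {M : Subgroup Γ} (hM : M ≠ ⊤)
    (heM : e ∈ M) : CC M := by
  refine sm.cc_central (Cfsg.Agent.Lib.SolvableNormalP.card_lt_of_ne_top hM) (e := ⟨e, heM⟩) ?_ ?_
  · rw [mem_center_iff]
    exact fun g => Subtype.ext (he g)
  · rw [Subgroup.orderOf_mk, he2]

/-- proper subgroups of proper subgroups -/
theorem Sm2.cc_sub_sub (sm : Sm2 Γ) {M : Subgroup Γ} (hM : M ≠ ⊤) {H : Subgroup M} (hH : H ≠ ⊤) : CC H := by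
  refine sm _ ?_
  have h1 := Cfsg.Agent.Lib.SolvableNormalP.card_lt_of_ne_top hH
  have h2 := Subgroup.card_mul_index M
  have h3 : M.index ≠ 1 := fun h => hM (index_eq_one.1 h)
  have h4 : M.index ≠ 0 := index_ne_zero_of_finite
  have h5 : 2 ≤ M.index := by omega
  have h6 : Nat.card M * 2 ≤ Nat.card Γ := by rw [← h2]; exact Nat.mul_le_mul_left _ h5
  omega

/-- overgroups of Carter subgroups are self-normalising -/
theorem Sm2.norm (sm : Sm2 Γ) {e : Γ} (he : ∀ g, g * e = e * g) (he2 : orderOf e = 2) {K M : Subgroup Γ}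
    (hK : IsCarter K) (hKM : K ≤ M) (hM : M ≠ ⊤) : normalizer (M : Set Γ) ≤ M := by
  have heM : e ∈ M := hKM (IsCarter.center_le hK (mem_center_iff.2 he))
  intro g hg
  have h1 : MulAut.conj g • K ≤ M := by
    rw [← cj_eq_self_iff.2 hg]
    exact Subgroup.pointwise_smul_le_pointwise_smul_iff.2 hKM
  obtain ⟨y, hy, hh⟩ := exists_conj_of_le (sm.cc_sub he he2 hM heM) (hK.conj g) hK h1 hKM
  rw [cj_cj, cj_eq_self_iff, hK.2] at hh
  have h2 := mul_mem (inv_mem hy) (hKM hh)
  rwa [inv_mul_cancel_left] at h2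

/-- elements centralised by `K` and conjugate in `Γ` are equal -/
theorem Sm2.eq_of_conj (sm : Sm2 Γ) {e : Γ} (he : ∀ g, g * e = e * g) (he2 : orderOf e = 2) {K : Subgroup Γ}
    (hK : IsCarter K) {z : Γ} (hz : ∀ k ∈ K, k * z = z * k) {g : Γ}
    (hg : ∀ k ∈ K, k * (g * z * g⁻¹) = (g * z * g⁻¹) * k) : g * z * g⁻¹ = z := by
  by_cases hc : centralizer ({z} : Set Γ) = ⊤
  · have : g ∈ centralizer ({z} : Set Γ) := by rw [hc]; trivial
    rw [mem_centralizer_singleton_iff.1 this, mul_inv_cancel_right]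
  have h1 : K ≤ centralizer ({z} : Set Γ) := fun k hk => mem_centralizer_singleton_iff.2 (hz k hk)
  have h2 : MulAut.conj g⁻¹ • K ≤ centralizer ({z} : Set Γ) := by
    intro x hx
    rw [mem_cj, inv_inv] at hx
    have h3 := hg _ hx
    rw [mem_centralizer_singleton_iff]
    have e1 : g * x * g⁻¹ * (g * z * g⁻¹) = g * (x * z) * g⁻¹ := by group
    have e2 : g * z * g⁻¹ * (g * x * g⁻¹) = g * (z * x) * g⁻¹ := by group
    rw [e1, e2] at h3
    exact mul_left_cancel (mul_right_cancel h3)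
  have heM : e ∈ centralizer ({z} : Set Γ) := mem_centralizer_singleton_iff.2 (he z).symm
  obtain ⟨y, hy, hh⟩ := exists_conj_of_le (sm.cc_sub he he2 hc heM) (hK.conj g⁻¹) hK h2 h1
  rw [cj_cj, cj_eq_self_iff, hK.2] at hh
  have h4 : y * g⁻¹ ∈ centralizer ({z} : Set Γ) := h1 hh
  have h5 : g⁻¹ ∈ centralizer ({z} : Set Γ) := by
    have := mul_mem (inv_mem hy) h4
    rwa [inv_mul_cancel_left] at this
  have h6 : g ∈ centralizer ({z} : Set Γ) := by
    have := inv_mem h5
    rwa [inv_inv] at this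
  rw [mem_centralizer_singleton_iff.1 h6, mul_inv_cancel_right]

end

/-! ### groups of semilinear isometries -/

section

variable (F : Type) [Field F] {V : Type} [AddCommGroup V] [Module F V]

/-- alternating nondegenerate form -/
structure Alt (B : V →ₗ[F] V →ₗ[F] F) : Prop where
  alt : ∀ v, B v v = 0
  nd : ∀ v, (∀ w, B v w = 0) → v = 0

/-- `Γ` acts faithfully on `(V, B)` by semilinear isometries and contains `Sp(V)` -/
structure Md (B : V →ₗ[F] V →ₗ[F] F) (Γ : Type u) [Group Γ] where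
  /-- the action -/
  ρ : Γ →* Equiv.Perm V
  /-- the field automorphisms -/
  σ : Γ →* (F ≃+* F)
  inj : Function.Injective ρ
  add : ∀ g v w, ρ g (v + w) = ρ g v + ρ g w
  smul : ∀ g (a : F) v, ρ g (a • v) = σ g a • ρ g v
  form : ∀ g v w, B (ρ g v) (ρ g w) = σ g (B v w)
  sp : ∀ x : V ≃ₗ[F] V, (∀ v w, B (x v) (x w) = B v w) → ∃ g, σ g = 1 ∧ ∀ v, ρ g v = x v

variable {F}

theorem Alt.skew {B : V →ₗ[F] V →ₗ[F] F} (h : Alt F B) (v w : V) : B v w = - B w v := by
  have := h.alt (v + w)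
  simp only [map_add, LinearMap.add_apply, h.alt, zero_add, add_zero] at this
  rw [add_comm] at this
  exact eq_neg_of_add_eq_zero_left this

namespace Md

variable {B : V →ₗ[F] V →ₗ[F] F} {Γ : Type u} [Group Γ] (T : Md F B Γ)

/-- the linear elements -/
def L : Subgroup Γ := T.σ.ker

instance : T.L.Normal := by unfold L; infer_instance

theorem mem_L {g : Γ} : g ∈ T.L ↔ T.σ g = 1 := MonoidHom.mem_ker

theorem smul_L {g : Γ} (hg : g ∈ T.L) (a : F) (v : V) : T.ρ g (a • v) = a • T.ρ g v := by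
  rw [T.smul, T.mem_L.1 hg]; rfl

theorem form_L {g : Γ} (hg : g ∈ T.L) (v w : V) : B (T.ρ g v) (T.ρ g w) = B v w := by
  rw [T.form, T.mem_L.1 hg]; rfl

/-- the linear automorphism defined by an element of `L` -/
def lin {g : Γ} (hg : g ∈ T.L) : V ≃ₗ[F] V :=
  { T.ρ g with
    map_add' := T.add g
    map_smul' := T.smul_L hg }

@[simp] theorem lin_apply {g : Γ} (hg : g ∈ T.L) (v : V) : T.lin hg v = T.ρ g v := rfl

theorem ρ_one (v : V) : T.ρ 1 v = v := by rw [map_one]; rfl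

theorem ρ_mul (g h : Γ) (v : V) : T.ρ (g * h) v = T.ρ g (T.ρ h v) := by rw [map_mul]; rfl

theorem ρ_inv_self (g : Γ) (v : V) : T.ρ g⁻¹ (T.ρ g v) = v := by
  rw [← T.ρ_mul, inv_mul_cancel, T.ρ_one]

theorem ρ_self_inv (g : Γ) (v : V) : T.ρ g (T.ρ g⁻¹ v) = v := by
  rw [← T.ρ_mul, mul_inv_cancel, T.ρ_one]

theorem ρ_zero (g : Γ) : T.ρ g 0 = 0 := by
  have := T.add g 0 0
  rw [add_zero] at this
  exact left_eq_add.1 this

theorem ρ_neg (g : Γ) (v : V) : T.ρ g (-v) = - T.ρ g v := by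
  have := T.add g v (-v)
  rw [add_neg_cancel, T.ρ_zero] at this
  exact (neg_eq_of_add_eq_zero_right this.symm).symm

theorem ext {g h : Γ} (hgh : ∀ v, T.ρ g v = T.ρ h v) : g = h := T.inj (Equiv.ext hgh)

/-- every isometry comes from `L` -/
theorem exists_L (x : V ≃ₗ[F] V) (hx : ∀ v w, B (x v) (x w) = B v w) : ∃ g ∈ T.L, ∀ v, T.ρ g v = x v := by
  obtain ⟨g, h1, h2⟩ := T.sp x hx
  exact ⟨g, T.mem_L.2 h1, h2⟩

theorem exists_eps : ∃ e ∈ T.L, ∀ v, T.ρ e v = -v := by
  obtain ⟨g, h1, h2⟩ := T.exists_L (LinearEquiv.neg F) (fun v w => by simp only [_root_.LinearEquiv.coe_neg, _root_.Pi.neg_apply, _root_.id_eq, _root_.map_neg, _root_.LinearMap.neg_apply, _root_.neg_neg])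
  exact ⟨g, h1, fun v => by rw [h2]; rfl⟩

/-- the element `-1` -/
noncomputable def eps : Γ := T.exists_eps.choose

theorem eps_mem : T.eps ∈ T.L := T.exists_eps.choose_spec.1

@[simp] theorem eps_apply (v : V) : T.ρ T.eps v = -v := T.exists_eps.choose_spec.2 v

theorem eps_comm (g : Γ) : g * T.eps = T.eps * g := by
  apply T.ext
  intro v
  rw [T.ρ_mul, T.ρ_mul, T.eps_apply, T.eps_apply, T.ρ_neg]

theorem eps_sq : T.eps * T.eps = 1 := by
  apply T.ext
  intro v
  rw [T.ρ_mul, T.eps_apply, T.eps_apply, neg_neg, T.ρ_one]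

theorem orderOf_eps (h2 : (2 : F) ≠ 0) [Nontrivial V] : orderOf T.eps = 2 := by
  apply orderOf_eq_prime (by rw [sq, T.eps_sq])
  intro h
  obtain ⟨v, hv⟩ := exists_ne (0 : V)
  have h1 := T.eps_apply v
  rw [h, T.ρ_one] at h1
  have h3 : (2 : F) • v = 0 := by
    rw [two_smul]
    nth_rw 1 [h1]
    exact neg_add_cancel v
  rcases smul_eq_zero.1 h3 with h | h
  · exact h2 h
  · exact hv h

end Md

end

end Cfsg.Agent.H18.Carter
end

-- part: H18/Carter/SpRes
section
/-!
# S3852, rows `PSp₂ₙ(q)`: restriction to a nondegenerate subspace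

`T.stab W` : the stabiliser of the nondegenerate subspace `W`; `T.Q W` : the group it induces on `W`;
`T.resMd` : it is again a group of semilinear isometries; `carter_res` : the image of a Carter subgroup `K` of `Γ`
stabilising `W` is a Carter subgroup.
-/

set_option autoImplicit false
set_option linter.unusedSectionVars false
set_option linter.unusedVariables false

namespace Cfsg.Agent.H18.Carter

open Subgroup Pointwise Module
open Cfsg.Agent.Solvable.Carter
open Cfsg.Agent.H721.FR Cfsg.Agent.H721.SR Cfsg.Agent.H18.Carter.Uni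

universe u

variable {F : Type} [Field F] {V : Type} [AddCommGroup V] [Module F V] {B : V →ₗ[F] V →ₗ[F] F}

theorem Alt.eps (hB : Alt F B) : ∀ x y, B x y = (-1) * B y x := fun x y => by rw [neg_one_mul]; exact hB.skew x y

theorem Alt.compl [FiniteDimensional F V] (hB : Alt F B) {W : Submodule F V} (hW : NdOn B W) : IsCompl W (perp B W) :=
  isCompl_perp (by ring) hB.eps hW

theorem Alt.res {W : Submodule F V} (hB : Alt F B) (hW : NdOn B W) : Alt F (res B W) :=
  ⟨fun v => hB.alt v, fun v hv => Subtype.ext (hW v v.2 fun y hy => hv ⟨y, hy⟩)⟩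

/-- extension of isometries by the identity -/
theorem exists_ext [FiniteDimensional F V] (hB : Alt F B) {W : Submodule F V} (hW : NdOn B W) (x : W ≃ₗ[F] W)
    (hx : ∀ v w : W, B (x v : V) (x w) = B v w) :
    ∃ r : V ≃ₗ[F] V, (∀ v w, B (r v) (r w) = B v w) ∧ (∀ w : W, r w = x w) ∧ ∀ v ∈ perp B W, r v = v := by
  obtain ⟨r, h1, h2⟩ := exists_glue (hB.compl hW) x (LinearEquiv.refl F (perp B W))
  have hdec : ∀ v : V, ∃ (x : W) (y : perp B W), v = x + y := by
    intro v
    have : v ∈ W ⊔ perp B W := by rw [(hB.compl hW).sup_eq_top]; exact Submodule.mem_top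
    obtain ⟨x, hx, y, hy, rfl⟩ := Submodule.mem_sup.1 this
    exact ⟨⟨x, hx⟩, ⟨y, hy⟩, rfl⟩
  refine ⟨r, ?_, h1, fun v hv => h2 ⟨v, hv⟩⟩
  intro v w
  obtain ⟨a, b, rfl⟩ := hdec v
  obtain ⟨a', b', rfl⟩ := hdec w
  have o1 : B (a : V) (b' : V) = 0 := b'.2 a a.2
  have o2 : B (b : V) (a' : V) = 0 := by rw [hB.skew, b.2 a' a'.2, neg_zero]
  have o3 : B (x a : V) (b' : V) = 0 := b'.2 _ (x a).2
  have o4 : B (b : V) (x a' : V) = 0 := by rw [hB.skew, b.2 _ (x a').2, neg_zero]
  have e1 : ∀ y : perp B W, r y = y := h2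
  simp only [map_add, LinearMap.add_apply, h1, e1, o1, o2, o3, o4, hx]

variable {Γ : Type u} [Group Γ] (T : Md F B Γ)

namespace Md

/-- the stabiliser of `W` -/
def stab (W : Submodule F V) : Subgroup Γ where
  carrier := {g | ∀ v, T.ρ g v ∈ W ↔ v ∈ W}
  mul_mem' := fun {g h} hg hh v => by rw [T.ρ_mul, hg, hh]
  one_mem' := fun v => by rw [T.ρ_one]
  inv_mem' := fun {g} hg v => by
    have := hg (T.ρ g⁻¹ v)
    rw [T.ρ_self_inv] at this
    exact this.symm

theorem mem_stab_of_le [Finite V] {W : Submodule F V} {g : Γ} (h : ∀ v ∈ W, T.ρ g v ∈ W) : g ∈ T.stab W := by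
  intro v
  refine ⟨fun hv => ?_, h v⟩
  have hinj : Function.Injective (fun w : W => (⟨T.ρ g w, h w w.2⟩ : W)) := by
    intro a b hab
    exact Subtype.ext ((T.ρ g).injective (congrArg Subtype.val hab))
  obtain ⟨w, hw⟩ := (Finite.injective_iff_surjective.1 hinj) ⟨T.ρ g v, hv⟩
  have h1 : T.ρ g w = T.ρ g v := congrArg Subtype.val hw
  rw [← (T.ρ g).injective h1]
  exact w.2

theorem stab_perp (hB : Alt F B) {W : Submodule F V} {g : Γ} (hg : g ∈ T.stab W) : g ∈ T.stab (perp B W) := by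
  have key : ∀ g ∈ T.stab W, ∀ v ∈ perp B W, T.ρ g v ∈ perp B W := by
    intro g hg v hv y hy
    have h1 : T.ρ g⁻¹ y ∈ W := ((inv_mem hg : g⁻¹ ∈ T.stab W) y).2 hy
    have h2 := T.form g (T.ρ g⁻¹ y) v
    rw [T.ρ_self_inv, hv _ h1, map_zero] at h2
    exact h2
  intro v
  refine ⟨fun h => ?_, key g hg v⟩
  have := key g⁻¹ (inv_mem hg) _ h
  rwa [T.ρ_inv_self] at this

/-- the action on `W` -/
def resHom (W : Submodule F V) : ↥(T.stab W) →* Equiv.Perm W where
  toFun h :=
    { toFun := fun w => ⟨T.ρ h w, (h.2 w).2 w.2⟩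
      invFun := fun w => ⟨T.ρ (h : Γ)⁻¹ w, ((inv_mem h.2 : (h : Γ)⁻¹ ∈ T.stab W) w).2 w.2⟩
      left_inv := fun w => Subtype.ext (T.ρ_inv_self _ _)
      right_inv := fun w => Subtype.ext (T.ρ_self_inv _ _) }
  map_one' := by
    ext w
    exact T.ρ_one _
  map_mul' g h := by
    ext w
    exact T.ρ_mul _ _ _

@[simp] theorem resHom_apply (W : Submodule F V) (h : T.stab W) (w : W) : (T.resHom W h w : V) = T.ρ h w := rfl

/-- the group induced on `W` -/
abbrev Q (W : Submodule F V) : Type u := ↥(T.stab W) ⧸ (T.resHom W).ker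

/-- the projection -/
abbrev pr (W : Submodule F V) : ↥(T.stab W) →* T.Q W := QuotientGroup.mk' (T.resHom W).ker

theorem σ_of_ker {W : Submodule F V} (hW : W ≠ ⊥) {h : T.stab W} (hh : h ∈ (T.resHom W).ker) : T.σ h = 1 := by
  obtain ⟨w, hw, hw0⟩ := W.ne_bot_iff.1 hW
  have h0 : ∀ w : W, T.ρ h w = w := by
    intro w
    have := congrArg (fun f : Equiv.Perm W => ((f w : W) : V)) (MonoidHom.mem_ker.1 hh)
    exact this
  ext a
  have h1 := T.smul h a w
  have h2 := h0 ⟨a • w, W.smul_mem a hw⟩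
  have h3 := h0 ⟨w, hw⟩
  simp only at h2 h3
  rw [h2, h3] at h1
  exact (smul_left_injective F hw0 h1).symm

/-- the group induced on `W` is a group of semilinear isometries -/
noncomputable def resMd [FiniteDimensional F V] (hB : Alt F B) (W : Submodule F V) (hW : W ≠ ⊥) (hnd : NdOn B W) :
    Md F (Uni.res B W) (T.Q W) where
  ρ := QuotientGroup.kerLift (T.resHom W)
  σ := QuotientGroup.lift _ (T.σ.comp (T.stab W).subtype) fun h hh => T.σ_of_ker hW hh
  inj := QuotientGroup.kerLift_injective _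
  add := by
    intro g v w
    obtain ⟨g, rfl⟩ := QuotientGroup.mk'_surjective _ g
    exact Subtype.ext (T.add _ _ _)
  smul := by
    intro g a v
    obtain ⟨g, rfl⟩ := QuotientGroup.mk'_surjective _ g
    exact Subtype.ext (T.smul _ _ _)
  form := by
    intro g v w
    obtain ⟨g, rfl⟩ := QuotientGroup.mk'_surjective _ g
    exact T.form _ _ _
  sp := by
    intro x hx
    obtain ⟨r, h1, h2, h3⟩ := exists_ext hB hnd x hx
    obtain ⟨g, hg, hgr⟩ := T.exists_L r h1
    have hgs : g ∈ T.stab W := by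
      intro v
      have hdec : v ∈ W ⊔ perp B W := by rw [(hB.compl hnd).sup_eq_top]; exact Submodule.mem_top
      obtain ⟨a, ha, b, hb, rfl⟩ := Submodule.mem_sup.1 hdec
      rw [hgr, map_add, h3 b hb, h2 ⟨a, ha⟩]
      constructor
      · intro h
        have hb' : b ∈ W := by
          have := W.sub_mem h (x ⟨a, ha⟩).2
          rwa [add_sub_cancel_left] at this
        exact W.add_mem ha hb'
      · intro h
        have hb' : b ∈ W := by
          have := W.sub_mem h ha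
          rwa [add_sub_cancel_left] at this
        exact W.add_mem (x ⟨a, ha⟩).2 hb'
    refine ⟨QuotientGroup.mk' _ ⟨g, hgs⟩, ?_, ?_⟩
    · exact T.mem_L.1 hg
    · intro w
      apply Subtype.ext
      show T.ρ g w = x w
      rw [hgr, h2]

variable [FiniteDimensional F V] (hB : Alt F B) {W : Submodule F V} (hW : W ≠ ⊥) (hnd : NdOn B W)

@[simp] theorem resMd_ρ (h : T.stab W) (w : W) : (((T.resMd hB W hW hnd).ρ (T.pr W h) w : W) : V) = T.ρ h w := rfl

theorem resMd_σ (h : T.stab W) : (T.resMd hB W hW hnd).σ (T.pr W h) = T.σ h := rfl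

theorem pr_mem_L (h : T.stab W) : T.pr W h ∈ (T.resMd hB W hW hnd).L ↔ (h : Γ) ∈ T.L := by
  rw [Md.mem_L, Md.mem_L, resMd_σ]

end Md

/-! ### Carter subgroups -/

section

variable [FiniteDimensional F V] [Finite Γ] (hB : Alt F B) {W : Submodule F V} (hW : W ≠ ⊥) (hnd : NdOn B W)
  {K : Subgroup Γ}

theorem exists_trv (hB : Alt F B) (w : V) : ∃ g ∈ T.L, ∀ v, T.ρ g v = v + B v w • w := by
  let x : V ≃ₗ[F] V := LinearEquiv.ofLinearMap (LinearMap.id + (B.flip w).smulRight w)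
    (LinearMap.id - (B.flip w).smulRight w) (by
      ext v
      simp [hB.alt, sub_eq_add_neg]) (by
      ext v
      simp [hB.alt, sub_eq_add_neg])
  have hx : ∀ v, x v = v + B v w • w := fun v => rfl
  obtain ⟨g, hg, hgx⟩ := T.exists_L x (by
    intro v v'
    rw [hx, hx]
    simp only [map_add, map_smul, LinearMap.add_apply, LinearMap.smul_apply, smul_eq_mul]
    linear_combination (B v w) * (hB.skew w v') + (B v w) * (B v' w) * (hB.alt w))
  exact ⟨g, hg, fun v => by rw [hgx, hx]⟩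

theorem stab_ne_top (hB : Alt F B) {W : Submodule F V} (hW : W ≠ ⊥) (hnd : NdOn B W) (hW1 : W ≠ ⊤) :
    T.stab W ≠ ⊤ := by
  intro htop
  obtain ⟨a, ha, ha0⟩ := W.ne_bot_iff.1 hW
  have hperp : perp B W ≠ ⊥ := by
    intro h
    have := (hB.compl hnd).sup_eq_top
    rw [h, sup_bot_eq] at this
    exact hW1 this
  obtain ⟨b, hb, hb0⟩ := (Submodule.ne_bot_iff _).1 hperp
  -- the transvection with centre `a + b`
  obtain ⟨c, hcW, hc⟩ : ∃ c ∈ W, B c a ≠ 0 := by
    by_contra hcon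
    push Not at hcon
    exact ha0 (hnd a ha fun y hy => by rw [hB.skew, hcon y hy, neg_zero])
  obtain ⟨g, -, hgx⟩ := exists_trv T hB (a + b)
  have hg : g ∈ T.stab W := by rw [htop]; trivial
  have h1 := (hg c).2 hcW
  rw [hgx, map_add, hb c hcW, add_zero] at h1
  have h2 : B c a • (a + b) ∈ W := by
    have := W.sub_mem h1 hcW
    rwa [add_sub_cancel_left] at this
  have h3 : a + b ∈ W := by
    have := W.smul_mem (B c a)⁻¹ h2
    rwa [smul_smul, inv_mul_cancel₀ hc, one_smul] at this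
  have h4 : b ∈ W := by
    have := W.sub_mem h3 ha
    rwa [add_sub_cancel_left] at this
  exact hb0 (Submodule.disjoint_def.1 (hB.compl hnd).disjoint b h4 hb)

theorem sm_res (sm : Sm2 Γ) (W : Submodule F V) : Sm2 (T.Q W) := by
  intro Y _ _ hY
  refine sm Y (lt_of_lt_of_le hY ?_)
  have h1 : Nat.card (T.Q W) ≤ Nat.card (T.stab W) := Nat.card_le_card_of_surjective _ (QuotientGroup.mk'_surjective _)
  exact h1.trans (Subgroup.card_le_card_group _)

/-- the image of `K` is a Carter subgroup -/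
theorem carter_res (sm : Sm2 Γ) (hB : Alt F B) {W : Submodule F V} (hW : W ≠ ⊥) (hnd : NdOn B W) (hW1 : W ≠ ⊤)
    (hK : IsCarter K) (hKW : K ≤ T.stab W) : IsCarter ((K.subgroupOf (T.stab W)).map (T.pr W)) :=
  IsCarter.map (QuotientGroup.mk'_surjective _) (fun H hH => sm.cc_sub_sub (stab_ne_top T hB hW hnd hW1) hH)
    (hK.subgroupOf hKW)

theorem sup_res (hKL : K ⊔ T.L = ⊤) (hKW : K ≤ T.stab W) :
    (K.subgroupOf (T.stab W)).map (T.pr W) ⊔ (T.resMd hB W hW hnd).L = ⊤ := by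
  rw [eq_top_iff]
  intro y _
  obtain ⟨h, rfl⟩ := QuotientGroup.mk'_surjective _ y
  have h1 : (h : Γ) ∈ T.L ⊔ K := by rw [sup_comm, hKL]; trivial
  have hn : K ≤ normalizer (T.L : Set Γ) := fun k _ => by rw [normalizer_eq_top]; trivial
  obtain ⟨l, hl, k, hk, e⟩ := mul_mem_of_norm hn h1
  have hls : l ∈ T.stab W := by
    have := mul_mem h.2 (inv_mem (hKW hk))
    rwa [e, mul_inv_cancel_right] at this
  have e1 : h = ⟨l, hls⟩ * ⟨k, hKW hk⟩ := Subtype.ext e
  rw [e1, map_mul]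
  refine mul_mem (mem_sup_right ((T.pr_mem_L hB hW hnd _).2 hl)) (mem_sup_left ⟨⟨k, hKW hk⟩, hk, rfl⟩)

end

end Cfsg.Agent.H18.Carter
end

-- part: H567/Ct/Core
section
/-!
# S3852 [SP-A]: the group theoretic core (helper567)

`σ : Γ →* Q` with cyclic `Q`, `L = ker σ`, `T` a Sylow `2`-subgroup of `L` normalized by `K` with `K L = Γ`, `K ∩ L` a
`2`-group, such that all proper overgroups of `K` are self-normalizing. Then there is no element `b` of `N_L(T)` outside `T`
for which each coset of `L` contains an element which centralizes `T` and `b`.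
-/

set_option autoImplicit false

namespace Cfsg.Agent.H567.Ct

open Subgroup

universe u

theorem core {Γ : Type u} [Group Γ] [Finite Γ] {Q : Type*} [Group Q] [IsCyclic Q] (σ : Γ →* Q) (T K : Subgroup Γ)
    (hTL : T ≤ σ.ker) (hT2 : IsPGroup 2 T) (hodd : ¬ 2 ∣ T.relIndex σ.ker) (hKn : K ≤ normalizer (T : Set Γ))
    (hKL : K ⊔ σ.ker = ⊤) (h2 : IsPGroup 2 (K ⊓ σ.ker : Subgroup Γ))
    (hnorm : ∀ M : Subgroup Γ, K ≤ M → M ≠ ⊤ → normalizer (M : Set Γ) ≤ M) (b : Γ) (hbL : b ∈ σ.ker) (hbT : b ∉ T)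
    (hbn : b ∈ normalizer (T : Set Γ))
    (hφ : ∀ c : Γ, ∃ φ : Γ, σ φ = σ c ∧ (∀ t ∈ T, φ * t = t * φ) ∧ φ * b = b * φ) : False := by
  classical
  -- `K ∩ L ≤ T`
  have hKLT : K ⊓ σ.ker ≤ T := by
    have h3 : IsPGroup 2 ((K ⊓ σ.ker) ⊔ T : Subgroup Γ) :=
      h2.to_sup_of_normal_right' hT2 (inf_le_left.trans hKn)
    have h4 : (K ⊓ σ.ker) ⊔ T ≤ σ.ker := sup_le inf_le_right hTL
    have h5 : T.relIndex ((K ⊓ σ.ker) ⊔ T) ∣ T.relIndex σ.ker := by
      rw [← relIndex_mul_relIndex T _ _ le_sup_right h4]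
      exact dvd_mul_right _ _
    have h6 : T.relIndex ((K ⊓ σ.ker) ⊔ T) = 1 := by
      obtain ⟨k, hk⟩ := IsPGroup.iff_card.1 h3
      have h7 : T.relIndex ((K ⊓ σ.ker) ⊔ T) ∣ Nat.card ((K ⊓ σ.ker) ⊔ T : Subgroup Γ) := relIndex_dvd_card _ _
      rw [hk] at h7
      obtain ⟨j, -, hj⟩ := (Nat.dvd_prime_pow Nat.prime_two).1 h7
      rcases Nat.eq_zero_or_pos j with rfl | hj0
      · rw [hj, pow_zero]
      · exfalso
        apply hodd
        rw [hj] at h5
        exact (dvd_pow_self 2 hj0.ne').trans h5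
    rw [relIndex_eq_one] at h6
    exact le_sup_left.trans h6
  -- the generator
  have hcyc : IsCyclic (K.map σ) := inferInstance
  obtain ⟨⟨_, c, hcK, rfl⟩, hc⟩ := hcyc.exists_generator
  have hKc : ∀ k ∈ K, ∃ j : ℤ, (c ^ j)⁻¹ * k ∈ T := by
    intro k hk
    obtain ⟨j, hj⟩ := hc ⟨σ k, k, hk, rfl⟩
    refine ⟨j, hKLT ⟨K.mul_mem (K.inv_mem (K.zpow_mem hcK j)) hk, ?_⟩⟩
    have h3 : (σ c) ^ j = σ k := congrArg Subtype.val hj
    show σ ((c ^ j)⁻¹ * k) = 1
    rw [map_mul, map_inv, map_zpow, h3, inv_mul_cancel]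
  let M : Subgroup Γ := K ⊔ T
  have hKM : K ≤ M := le_sup_left
  have hTM : T ≤ M := le_sup_right
  have hcT : c ∈ normalizer (T : Set Γ) := hKn hcK
  have hMn : M ≤ normalizer (T : Set Γ) := sup_le hKn le_normalizer
  -- the elements of `M`
  have hMel : ∀ x ∈ M, ∃ j : ℤ, ∃ t ∈ T, x = c ^ j * t := by
    intro x hx
    obtain ⟨k, hk, t, ht, rfl⟩ := Cfsg.Agent.H18.Carter.mul_mem_of_norm' hKn hx
    obtain ⟨j, hj⟩ := hKc k hk
    exact ⟨j, (c ^ j)⁻¹ * k * t, mul_mem hj ht, by group⟩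
  have hML : ∀ x ∈ M, x ∈ σ.ker → x ∈ T := by
    intro x hx hxL
    obtain ⟨k, hk, t, ht, rfl⟩ := Cfsg.Agent.H18.Carter.mul_mem_of_norm' hKn hx
    have h4 : k ∈ σ.ker := by
      have := mul_mem hxL (inv_mem (hTL ht))
      rwa [mul_inv_cancel_right] at this
    exact mul_mem (hKLT ⟨hk, h4⟩) ht
  have hMtop : M ≠ ⊤ := by
    intro h
    exact hbT (hML b (by rw [h]; trivial) hbL)
  have hMM := hnorm M hKM hMtop
  -- `C_A(c) = 1`
  have hfix : ∀ a : Γ, a ∈ σ.ker → a ∈ normalizer (T : Set Γ) → a * c * a⁻¹ * c⁻¹ ∈ T → a ∈ T := by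
    intro a haL haT hac
    apply hML a _ haL
    apply hMM
    -- `a` normalizes `M`
    have h3 : ∀ a : Γ, a ∈ normalizer (T : Set Γ) → a * c * a⁻¹ * c⁻¹ ∈ T → ∀ x ∈ M, a * x * a⁻¹ ∈ M := by
      intro a haT hac x hx
      obtain ⟨j, t, ht, rfl⟩ := hMel x hx
      have h4 : a * c * a⁻¹ ∈ M := by
        have := mul_mem (hTM hac) (hKM hcK)
        rwa [inv_mul_cancel_right] at this
      have h5 : a * t * a⁻¹ ∈ T := (mem_normalizer_iff.1 haT t).1 ht
      have h6 : a * (c ^ j * t) * a⁻¹ = (a * c * a⁻¹) ^ j * (a * t * a⁻¹) := by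
        rw [conj_zpow]
        group
      rw [h6]
      exact mul_mem (zpow_mem h4 j) (hTM h5)
    have h7 : M.map (MulAut.conj a).toMonoidHom = M := by
      refine Subgroup.eq_of_le_of_card_ge ?_ ?_
      · rintro _ ⟨x, hx, rfl⟩
        exact h3 a haT hac x hx
      · rw [Subgroup.card_map_of_injective (MulAut.conj a).injective]
    rw [mem_normalizer_iff]
    intro x
    constructor
    · intro hx
      rw [← h7]
      exact ⟨x, hx, rfl⟩
    · intro hx
      rw [← h7] at hx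
      obtain ⟨y, hy, hxy⟩ := hx
      have h8 : y = x := (MulAut.conj a).injective hxy
      rwa [← h8]
  -- the counting argument in `Y = N(T) / T`
  let Nn : Subgroup Γ := normalizer (T : Set Γ)
  have hn : (T.subgroupOf Nn).Normal := normal_in_normalizer
  let Y := Nn ⧸ T.subgroupOf Nn
  have hYfin : Finite Y := inferInstance
  let τ : Y →* Q := QuotientGroup.lift (T.subgroupOf Nn) (σ.comp Nn.subtype) (by
    intro x hx
    exact hTL (mem_subgroupOf.1 hx))
  let mk : Nn →* Y := QuotientGroup.mk' _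
  have hmk : ∀ x : Nn, mk x = 1 ↔ (x : Γ) ∈ T := by
    intro x
    show (QuotientGroup.mk x : Y) = 1 ↔ _
    rw [QuotientGroup.eq_one_iff, mem_subgroupOf]
  have hτ : ∀ x : Nn, τ (mk x) = σ x := fun x => rfl
  let c' : Nn := ⟨c, hcT⟩
  let f : τ.ker → {y : Y // τ y = σ c} := fun a => ⟨a.1 * mk c' * a.1⁻¹, by
    have h3 : τ (a.1) = 1 := a.2
    rw [map_mul, map_mul, map_inv, h3, one_mul, inv_one, mul_one, hτ]⟩
  have hfinj : Function.Injective f := by
    rintro ⟨a, ha⟩ ⟨a', ha'⟩ h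
    have h3 : a * mk c' * a⁻¹ = a' * mk c' * a'⁻¹ := congrArg Subtype.val h
    have h4 : (a'⁻¹ * a) * mk c' * (a'⁻¹ * a)⁻¹ * (mk c')⁻¹ = 1 := by
      have : (a'⁻¹ * a) * mk c' * (a'⁻¹ * a)⁻¹ * (mk c')⁻¹ = a'⁻¹ * (a * mk c' * a⁻¹) * a' * (mk c')⁻¹ := by group
      rw [this, h3]
      group
    obtain ⟨z, hz⟩ := QuotientGroup.mk'_surjective (T.subgroupOf Nn) (a'⁻¹ * a)
    have hz' : mk z = a'⁻¹ * a := hz
    rw [← hz'] at h4
    have h5 : mk (z * c' * z⁻¹ * c'⁻¹) = 1 := by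
      rw [map_mul, map_mul, map_mul, map_inv, map_inv]
      exact h4
    have h6 : (z : Γ) ∈ T := by
      refine hfix z ?_ z.2 ((hmk _).1 h5)
      show σ z = 1
      rw [← hτ, hz', map_mul, map_inv, show τ a = 1 from ha, show τ a' = 1 from ha', inv_one, one_mul]
    have h7 : a'⁻¹ * a = 1 := by rw [← hz', (hmk z).2 h6]
    apply Subtype.ext
    exact (inv_mul_eq_one.1 h7).symm
  have hcard : Nat.card {y : Y // τ y = σ c} ≤ Nat.card τ.ker := by
    refine Nat.card_le_card_of_injective (fun y => (⟨y.1 * (mk c')⁻¹, ?_⟩ : τ.ker)) ?_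
    · show τ (y.1 * (mk c')⁻¹) = 1
      rw [map_mul, map_inv, y.2, hτ]
      exact mul_inv_cancel _
    · intro y y' h
      have h3 : y.1 * (mk c')⁻¹ = y'.1 * (mk c')⁻¹ := congrArg Subtype.val h
      exact Subtype.ext (mul_right_cancel h3)
  have hfsurj : Function.Surjective f := by
    have h3 := Function.Injective.bijective_of_nat_card_le hfinj hcard
    exact h3.2
  obtain ⟨φ, hφ1, hφ2, hφ3⟩ := hφ c
  have hφn : φ ∈ Nn := by
    show φ ∈ normalizer (T : Set Γ)
    rw [mem_normalizer_iff]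
    intro x
    constructor
    · intro hx
      have h3 : φ * x * φ⁻¹ = x := by rw [hφ2 x hx, mul_inv_cancel_right]
      rwa [h3]
    · intro hx
      have h3 := hφ2 _ hx
      have h4 : x = φ⁻¹ * (φ * x * φ⁻¹) * φ := by group
      have h5 : φ⁻¹ * (φ * x * φ⁻¹) * φ = φ * x * φ⁻¹ := by
        rw [mul_assoc, ← h3]
        group
      rw [h4, h5]
      exact hx
  obtain ⟨⟨a, ha⟩, hfa⟩ := hfsurj ⟨mk ⟨φ, hφn⟩, by rw [hτ]; exact hφ1⟩
  have h3 : a * mk c' * a⁻¹ = mk ⟨φ, hφn⟩ := congrArg Subtype.val hfa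
  obtain ⟨a, rfl⟩ := QuotientGroup.mk'_surjective (T.subgroupOf Nn) a
  have haL : (a : Γ) ∈ σ.ker := ha
  let b' : Nn := ⟨b, hbn⟩
  -- `a⁻¹ b a` commutes with `c` modulo `T`
  have h4 : mk ⟨φ, hφn⟩ * mk b' = mk b' * mk ⟨φ, hφn⟩ := by
    rw [← map_mul, ← map_mul]
    congr 1
    exact Subtype.ext hφ3
  have h5 : mk ((a⁻¹ * b' * a) * c' * (a⁻¹ * b' * a)⁻¹ * c'⁻¹) = 1 := by
    rw [← h3] at h4
    have h6 : mk c' = (mk a)⁻¹ * ((mk a) * mk c' * (mk a)⁻¹) * mk a := by group
    rw [map_mul, map_mul, map_mul, map_inv, map_inv, map_mul, map_mul, map_inv]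
    have h4' : mk a * mk c' * (mk a)⁻¹ * mk b' = mk b' * (mk a * mk c' * (mk a)⁻¹) := h4
    calc (mk a)⁻¹ * mk b' * mk a * mk c' * ((mk a)⁻¹ * mk b' * mk a)⁻¹ * (mk c')⁻¹
        = (mk a)⁻¹ * (mk b' * (mk a * mk c' * (mk a)⁻¹)) * (mk b')⁻¹ * mk a * (mk c')⁻¹ := by group
      _ = 1 := by rw [← h4']; group
  have h6 : ((a⁻¹ * b' * a : Nn) : Γ) ∈ T := by
    refine hfix _ ?_ (a⁻¹ * b' * a).2 ((hmk _).1 h5)
    show ((a : Γ)⁻¹ * b * a) ∈ σ.ker
    exact mul_mem (mul_mem (inv_mem haL) hbL) haL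
  apply hbT
  have h7 : (a : Γ)⁻¹ * b * a ∈ T := h6
  have h8 := (mem_normalizer_iff.1 a.2 _).1 h7
  have h9 : (a : Γ) * ((a : Γ)⁻¹ * b * a) * (a : Γ)⁻¹ = b := by group
  rwa [h9] at h8

end Cfsg.Agent.H567.Ct
end

-- part: H567/Ct/Syl
section
/-!
# S3852 [SP-A]: a Sylow `2`-subgroup of `Sp₂ₘ(q)`, `q = 3 ^ odd`, with entries in the prime field (helper567)
-/

set_option autoImplicit false

namespace Cfsg.Agent.H567.Ct

open Matrix Subgroup Cfsg.Agent.H636.SympWreath

private theorem dec_mul : ∀ a b c d a' b' c' d' : ZMod 3, a * d - b * c = 1 → a' * d' - b' * c' = 1 →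
    (a + d = 0 ∨ (b = 0 ∧ c = 0)) → (a' + d' = 0 ∨ (b' = 0 ∧ c' = 0)) →
    ((a * a' + b * c') + (c * b' + d * d') = 0 ∨ (a * b' + b * d' = 0 ∧ c * a' + d * c' = 0)) := by
  decide +kernel

/-- the quaternion subgroup of `SL₂(3)` -/
def Q3 : Subgroup (_root_.Matrix.SpecialLinearGroup (Fin 2) (ZMod 3)) where
  carrier := {A | A 0 0 + A 1 1 = 0 ∨ (A 0 1 = 0 ∧ A 1 0 = 0)}
  one_mem' := by
    right
    constructor <;> rfl
  mul_mem' := by
    intro A B hA hB
    have hA1 := A.det_coe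
    have hB1 := B.det_coe
    rw [Matrix.det_fin_two] at hA1 hB1
    have h : ∀ (i k : Fin 2), ((A * B : _root_.Matrix.SpecialLinearGroup (Fin 2) (ZMod 3)) : Matrix (Fin 2) (Fin 2) (ZMod 3)) i k =
        (A : Matrix (Fin 2) (Fin 2) (ZMod 3)) i 0 * (B : Matrix (Fin 2) (Fin 2) (ZMod 3)) 0 k +
        (A : Matrix (Fin 2) (Fin 2) (ZMod 3)) i 1 * (B : Matrix (Fin 2) (Fin 2) (ZMod 3)) 1 k := by
      intro i k
      change ((A : Matrix (Fin 2) (Fin 2) (ZMod 3)) * (B : Matrix (Fin 2) (Fin 2) (ZMod 3))) i k = _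
      rw [Matrix.mul_apply, Fin.sum_univ_two]
    show (A * B) 0 0 + (A * B) 1 1 = 0 ∨ ((A * B) 0 1 = 0 ∧ (A * B) 1 0 = 0)
    rw [h, h, h, h]
    exact dec_mul _ _ _ _ _ _ _ _ hA1 hB1 hA hB
  inv_mem' := by
    intro A hA
    have h1 : ∀ (i k : Fin 2), ((A⁻¹ : _root_.Matrix.SpecialLinearGroup (Fin 2) (ZMod 3)) : Matrix (Fin 2) (Fin 2) (ZMod 3)) i k =
        !![(A : Matrix (Fin 2) (Fin 2) (ZMod 3)) 1 1, -(A : Matrix (Fin 2) (Fin 2) (ZMod 3)) 0 1;
          -(A : Matrix (Fin 2) (Fin 2) (ZMod 3)) 1 0, (A : Matrix (Fin 2) (Fin 2) (ZMod 3)) 0 0] i k := by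
      intro i k
      rw [Matrix.SpecialLinearGroup.SL2_inv_expl]
      rfl
    show (A⁻¹) 0 0 + (A⁻¹) 1 1 = 0 ∨ ((A⁻¹) 0 1 = 0 ∧ (A⁻¹) 1 0 = 0)
    rw [h1, h1, h1, h1]
    rcases hA with hA | ⟨hA, hB⟩
    · left
      simpa only [add_comm, _root_.Fin.isValue, _root_.Matrix.of_apply, _root_.Matrix.cons_val', _root_.Matrix.cons_val_zero, _root_.Matrix.cons_val_fin_one, _root_.Matrix.cons_val_one] using hA
    · right
      simpa using ⟨hA, hB⟩

instance decMemQ3 : DecidablePred (· ∈ Q3) := fun A =>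
  inferInstanceAs (Decidable (A 0 0 + A 1 1 = 0 ∨ (A 0 1 = 0 ∧ A 1 0 = 0)))

theorem card_Q3 : Nat.card Q3 = 8 := by
  rw [Nat.card_eq_fintype_card]
  decide +kernel

/-- the transvection -/
def u3 : _root_.Matrix.SpecialLinearGroup (Fin 2) (ZMod 3) := ⟨!![1, 1; 0, 1], by rw [Matrix.det_fin_two]; decide⟩

theorem u3_not_mem : u3 ∉ Q3 := by decide +kernel

theorem u3_conj : ∀ A ∈ Q3, u3 * A * u3⁻¹ ∈ Q3 := by
  decide +kernel

section

variable {F : Type} [Field F] [Fintype F]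

theorem charP_three {f : ℕ} (hF : Fintype.card F = 3 ^ (2 * f + 1)) : CharP F 3 :=
  haveI : Fact (Nat.Prime 3) := ⟨Nat.prime_three⟩
  charP_of_card_eq_prime_pow hF

theorem val_sq {f : ℕ} (hF : Fintype.card F = 3 ^ (2 * f + 1)) : padicValNat 2 (Fintype.card F ^ 2 - 1) = 3 := by
  have h1 := padicValNat.pow_two_sub_one (x := 3) (n := 2 * (2 * f + 1)) (by norm_num) (by norm_num) (by omega) (by simp only [_root_.even_two, _root_.Even.mul_right])
  rw [hF, ← pow_mul, mul_comm (2 * f + 1) 2]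
  have h2 : padicValNat 2 (3 + 1) = 2 := by
    rw [show (3 + 1 : ℕ) = 2 ^ 2 by norm_num, padicValNat.prime_pow]
  have h3 : padicValNat 2 (3 - 1) = 1 := by
    rw [show (3 - 1 : ℕ) = 2 by norm_num, padicValNat_self]
  have h4 : padicValNat 2 (2 * (2 * f + 1)) = 1 := by
    rw [padicValNat.mul (by norm_num) (by omega), padicValNat_self, padicValNat.eq_zero_of_not_dvd (by omega)]
  omega

theorem val_pow (q m : ℕ) (hq : Odd q) (hq1 : 1 < q) (hm : m ≠ 0) :
    padicValNat 2 (q ^ (2 * m) - 1) = padicValNat 2 (q ^ 2 - 1) + padicValNat 2 m := by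
  have hq2 : ¬ 2 ∣ q := by
    intro h
    exact (Nat.not_even_iff_odd.2 hq) (even_iff_two_dvd.2 h)
  have h1 := padicValNat.pow_two_sub_one hq1 hq2 (n := 2 * m) (by omega) (by simp only [_root_.even_two, _root_.Even.mul_right])
  have h2 := padicValNat.pow_two_sub_one hq1 hq2 (n := 2) (by omega) (by simp only [_root_.even_two])
  rw [padicValNat.mul (by norm_num) hm] at h1
  have h3 : padicValNat 2 2 = 1 := padicValNat_self
  omega

theorem card_wr_sylow (hF : Odd (Fintype.card F)) (n : ℕ) (Q : Subgroup (_root_.Matrix.SpecialLinearGroup (Fin 2) F))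
    (hQc : Nat.card Q = 2 ^ (padicValNat 2 (Fintype.card F ^ 2 - 1))) (H : Sylow 2 (Equiv.Perm (Fin n))) :
    Nat.card (wr Q (H : Subgroup (Equiv.Perm (Fin n)))) =
      2 ^ (Nat.card (Matrix.symplecticGroup (Fin n) F)).factorization 2 := by
  have hq1 : 1 < Fintype.card F := Fintype.one_lt_card
  have hq0 : Fintype.card F ≠ 0 := by omega
  have hq2 : ¬ 2 ∣ Fintype.card F := by
    intro h
    exact (Nat.not_even_iff_odd.2 hF) (even_iff_two_dvd.2 h)
  have hpw : ∀ m : ℕ, m ≠ 0 → Fintype.card F ^ m - 1 ≠ 0 := by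
    intro m hm
    have := Nat.one_lt_pow hm hq1
    omega
  have hval0 : ∀ m : ℕ, padicValNat 2 (Fintype.card F ^ m) = 0 := by
    intro m
    rw [padicValNat.eq_zero_iff]
    right; right
    intro h
    exact hq2 (Nat.Prime.dvd_of_dvd_pow Nat.prime_two h)
  have hHc : Nat.card H = 2 ^ (padicValNat 2 n.factorial) := by
    rw [H.card_eq_multiplicity, Nat.card_eq_fintype_card, Fintype.card_perm, Fintype.card_fin,
      Nat.factorization_def _ Nat.prime_two]
  rw [Cfsg.Agent.H636.SympWreath.card_wr, hQc, hHc, ← pow_mul, ← pow_add,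
    Cfsg.Agent.LieClassical.SympCount.card_symplecticGroup, Nat.factorization_def _ Nat.prime_two]
  congr 1
  rw [padicValNat.mul (pow_ne_zero _ hq0) (Finset.prod_ne_zero_iff.2 fun i _ => hpw _ (by omega)),
    hval0, zero_add]
  clear hHc H
  induction n with
  | zero => simp only [_root_.MulZeroClass.mul_zero, _root_.Nat.factorial_zero, _root_.padicValNat_one_right, _root_.add_zero, _root_.Finset.range_zero, _root_.Finset.prod_empty]
  | succ n ih =>
    rw [Finset.prod_range_succ, padicValNat.mul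
      (Finset.prod_ne_zero_iff.2 fun i _ => hpw _ (by omega)) (hpw _ (by omega)), ← ih,
      val_pow _ _ hF hq1 (by omega), Nat.factorial_succ, padicValNat.mul (by omega)
      (Nat.factorial_ne_zero n)]
    ring

/-- a Sylow `2`-subgroup with entries in the prime field, and an element of its normalizer with entries in the prime field -/
theorem exists_data {f : ℕ} (hF : Fintype.card F = 3 ^ (2 * f + 1)) (m : ℕ) (hm : 1 ≤ m) :
    ∃ (W : Subgroup (Matrix.symplecticGroup (Fin m) F)) (b : Matrix.symplecticGroup (Fin m) F),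
      Nat.card W = 2 ^ (Nat.card (Matrix.symplecticGroup (Fin m) F)).factorization 2 ∧ b ∉ W ∧
      b ∈ normalizer (W : Set (Matrix.symplecticGroup (Fin m) F)) ∧
      ∀ τ : F ≃+* F, (∀ x ∈ W, ∀ i j, τ ((x : Matrix (Fin m ⊕ Fin m) (Fin m ⊕ Fin m) F) i j) =
        (x : Matrix (Fin m ⊕ Fin m) (Fin m ⊕ Fin m) F) i j) ∧
        (∀ i j, τ ((b : Matrix (Fin m ⊕ Fin m) (Fin m ⊕ Fin m) F) i j) =
        (b : Matrix (Fin m ⊕ Fin m) (Fin m ⊕ Fin m) F) i j) := by
  classical
  haveI := charP_three hF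
  have hodd : Odd (Fintype.card F) := by
    rw [hF]
    exact Odd.pow (by decide)
  let c : ZMod 3 →+* F := ZMod.castHom (dvd_refl 3) F
  have hc : Function.Injective c := by
    haveI : Fact (Nat.Prime 3) := ⟨Nat.prime_three⟩
    exact c.injective
  let κ : _root_.Matrix.SpecialLinearGroup (Fin 2) (ZMod 3) →* _root_.Matrix.SpecialLinearGroup (Fin 2) F := SpecialLinearGroup.map c
  have hκv : ∀ (A : _root_.Matrix.SpecialLinearGroup (Fin 2) (ZMod 3)) (i j : Fin 2),
      (κ A : Matrix (Fin 2) (Fin 2) F) i j = c ((A : Matrix (Fin 2) (Fin 2) (ZMod 3)) i j) := fun A i j => rfl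
  have hκ : Function.Injective κ := by
    intro A B h
    ext i j
    apply hc
    rw [← hκv, ← hκv, h]
  obtain ⟨H⟩ : Nonempty (Sylow 2 (Equiv.Perm (Fin m))) := inferInstance
  have hQc : Nat.card (Q3.map κ) = 2 ^ (padicValNat 2 (Fintype.card F ^ 2 - 1)) := by
    rw [val_sq hF, Subgroup.card_map_of_injective hκ, card_Q3]
    norm_num
  have hfix : ∀ (τ : F ≃+* F) (z : ZMod 3), τ (c z) = c z := by
    intro τ z
    obtain ⟨n, rfl⟩ := ZMod.intCast_surjective z
    simp
  have hmono : ∀ (τ : F ≃+* F) (s : Equiv.Perm (Fin m)) (a : Fin m → F), (∀ j, τ (a j) = a j) →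
      ∀ i j, τ (mono s a i j) = mono s a i j := by
    intro τ s a ha i j
    rw [mono_apply]
    split_ifs
    · exact ha j
    · exact map_zero τ
  have hblk : ∀ (τ : F ≃+* F) (s : Equiv.Perm (Fin m)) (A : Fin m → _root_.Matrix.SpecialLinearGroup (Fin 2) F),
      (∀ j i k, τ ((A j : Matrix (Fin 2) (Fin 2) F) i k) = (A j : Matrix (Fin 2) (Fin 2) F) i k) →
      ∀ i j, τ ((blk s A : Matrix (Fin m ⊕ Fin m) (Fin m ⊕ Fin m) F) i j) =
        (blk s A : Matrix (Fin m ⊕ Fin m) (Fin m ⊕ Fin m) F) i j := by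
    intro τ s A hA i j
    rcases i with i | i <;> rcases j with j | j
    · exact hmono τ s _ (fun j => hA j _ _) i j
    · exact hmono τ s _ (fun j => hA j _ _) i j
    · exact hmono τ s _ (fun j => hA j _ _) i j
    · exact hmono τ s _ (fun j => hA j _ _) i j
  refine ⟨wr (Q3.map κ) H, blk 1 (fun _ => κ u3), card_wr_sylow hodd m _ hQc H, ?_, ?_, ?_⟩
  · rintro ⟨s, hs, A, hA, e⟩
    obtain ⟨-, h2⟩ := blk_injective e
    have h3 := hA ⟨0, hm⟩
    rw [← h2] at h3
    obtain ⟨x, hx, h4⟩ := h3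
    rw [hκ h4] at hx
    exact u3_not_mem hx
  · apply Subgroup.mem_normalizer_fintype
    rintro _ ⟨s, hs, A, hA, rfl⟩
    have hinv : (blk 1 (fun _ : Fin m => κ u3))⁻¹ = blk 1 (fun _ : Fin m => (κ u3)⁻¹) := by
      rw [inv_eq_iff_mul_eq_one, blk_mul, ← blk_one]
      congr 1
      funext j
      simp
    rw [hinv, blk_mul, blk_mul, one_mul, mul_one]
    refine ⟨s, hs, _, fun j => ?_, rfl⟩
    obtain ⟨x, hx, h4⟩ := hA j
    refine ⟨u3 * x * u3⁻¹, u3_conj x hx, ?_⟩
    simp only [← h4, _root_.map_mul, _root_.map_inv, _root_.Equiv.Perm.coe_one, _root_.id_eq]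
  · intro τ
    constructor
    · rintro _ ⟨s, hs, A, hA, rfl⟩
      apply hblk
      intro j i k
      obtain ⟨x, hx, h4⟩ := hA j
      rw [← h4, hκv]
      exact hfix τ _
    · apply hblk
      intro j i k
      rw [hκv]
      exact hfix τ _

end

end Cfsg.Agent.H567.Ct
end

-- part: H567/Ct/Geo
section
/-!
# S3852 [SP-A]: coordinates (helper567)
-/

set_option autoImplicit false

namespace Cfsg.Agent.H567.Ct

open Matrix Subgroup Cfsg.Agent.H18.Carter Cfsg

universe u

variable {F : Type} [Field F] {V : Type} [AddCommGroup V] [Module F V] [FiniteDimensional F V]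
  {B : V →ₗ[F] V →ₗ[F] F}

theorem exists_coords (hB : Alt F B) : ∃ (m : ℕ) (e : (Fin m ⊕ Fin m → F) ≃ₗ[F] V),
    ∀ x y, B (e x) (e y) = sympForm m F x y := by
  obtain ⟨m, hm⟩ := Cfsg.Agent.GpSp.Symp.even_of_nondeg B (fun v => hB.alt v) hB.nd
  obtain ⟨e, he⟩ := Cfsg.Agent.ClassicalGeometry.SympIso.exists_linearEquiv_sympForm B (fun v => hB.alt v) hB.nd hm
  exact ⟨m, e, he⟩

variable {Γ : Type u} [Group Γ] (T : Md F B Γ) {m : ℕ} (e : (Fin m ⊕ Fin m → F) ≃ₗ[F] V)

omit [FiniteDimensional F V] in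
theorem exists_Lam (he : ∀ x y, B (e x) (e y) = sympForm m F x y) :
    ∃ Λ : Matrix.symplecticGroup (Fin m) F →* Γ, Function.Injective Λ ∧ Λ.range = T.L ∧
      ∀ A v, T.ρ (Λ A) (e v) = e ((A : Matrix (Fin m ⊕ Fin m) (Fin m ⊕ Fin m) F) *ᵥ v) := by
  have h1 : ∀ A : Matrix.symplecticGroup (Fin m) F, ∃ g ∈ T.L,
      ∀ v, T.ρ g (e v) = e ((A : Matrix (Fin m ⊕ Fin m) (Fin m ⊕ Fin m) F) *ᵥ v) := by
    intro A
    have e1 : (A : Matrix (Fin m ⊕ Fin m) (Fin m ⊕ Fin m) F) * ((A⁻¹ : Matrix.symplecticGroup (Fin m) F) :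
        Matrix (Fin m ⊕ Fin m) (Fin m ⊕ Fin m) F) = 1 := congrArg Subtype.val (mul_inv_cancel A)
    have e2 : ((A⁻¹ : Matrix.symplecticGroup (Fin m) F) : Matrix (Fin m ⊕ Fin m) (Fin m ⊕ Fin m) F) *
        (A : Matrix (Fin m ⊕ Fin m) (Fin m ⊕ Fin m) F) = 1 := congrArg Subtype.val (inv_mul_cancel A)
    let x : V ≃ₗ[F] V := (e.symm ≪≫ₗ Matrix.toLin'OfInv e2 e1) ≪≫ₗ e
    have hx : ∀ v, x (e v) = e ((A : Matrix (Fin m ⊕ Fin m) (Fin m ⊕ Fin m) F) *ᵥ v) := by
      intro v
      show e (Matrix.toLin' (A : Matrix (Fin m ⊕ Fin m) (Fin m ⊕ Fin m) F) (e.symm (e v))) = _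
      rw [e.symm_apply_apply, Matrix.toLin'_apply]
    obtain ⟨g, hg, hgv⟩ := T.exists_L x (by
      intro v w
      obtain ⟨v, rfl⟩ := e.surjective v
      obtain ⟨w, rfl⟩ := e.surjective w
      rw [hx, hx, he, he]
      exact Cfsg.Agent.ClassicalGeometry.SympBasic.sympForm_mulVec A.2 v w)
    exact ⟨g, hg, fun v => by rw [hgv, hx]⟩
  choose g hg hgv using h1
  let Λ : Matrix.symplecticGroup (Fin m) F →* Γ := MonoidHom.mk' g (by
    intro A C
    apply T.ext
    intro v
    obtain ⟨v, rfl⟩ := e.surjective v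
    rw [T.ρ_mul, hgv, hgv, hgv, Matrix.mulVec_mulVec]
    rfl)
  refine ⟨Λ, ?_, ?_, hgv⟩
  · intro A C h
    apply Subtype.ext
    apply Matrix.toLin'.injective
    apply LinearMap.ext
    intro v
    rw [Matrix.toLin'_apply, Matrix.toLin'_apply]
    apply e.injective
    rw [← hgv, ← hgv]
    exact congrArg (fun z => T.ρ z (e v)) h
  · apply le_antisymm
    · rintro _ ⟨A, rfl⟩
      exact hg A
    · intro y hy
      let t : (Fin m ⊕ Fin m → F) →ₗ[F] (Fin m ⊕ Fin m → F) := (e ≪≫ₗ T.lin hy ≪≫ₗ e.symm).toLinearMap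
      have ht : ∀ v, e (t v) = T.ρ y (e v) := by
        intro v
        show e (e.symm (T.ρ y (e v))) = _
        rw [e.apply_symm_apply]
      have hA : LinearMap.toMatrix' t ∈ Matrix.symplecticGroup (Fin m) F := by
        rw [Cfsg.Agent.ClassicalGeometry.SympBasic.mem_symplecticGroup_iff]
        intro u v
        rw [LinearMap.toMatrix'_mulVec, LinearMap.toMatrix'_mulVec, ← he, ← he, ht, ht, T.form_L hy]
      refine ⟨⟨_, hA⟩, ?_⟩
      apply T.ext
      intro v
      obtain ⟨v, rfl⟩ := e.surjective v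
      have h2 := hgv ⟨_, hA⟩ v
      rw [LinearMap.toMatrix'_mulVec, ht] at h2
      exact h2

omit [FiniteDimensional F V] in
/-- the coordinatewise field automorphisms are in `Γ` -/
theorem exists_phi (he : ∀ x y, B (e x) (e y) = sympForm m F x y) (g : Γ) :
    ∃ φ : Γ, T.σ φ = T.σ g ∧ ∀ x : Fin m ⊕ Fin m → F, T.ρ φ (e x) = e (fun i => T.σ g (x i)) := by
  set τ : F ≃+* F := T.σ g with hτ
  -- the linear isometry
  let t : (Fin m ⊕ Fin m → F) → V := fun x => T.ρ g (e (fun i => τ.symm (x i)))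
  have ht1 : ∀ x y, t (x + y) = t x + t y := by
    intro x y
    have h1 : (fun i => τ.symm ((x + y) i)) = (fun i => τ.symm (x i)) + (fun i => τ.symm (y i)) := by
      funext i
      simp
    show T.ρ g (e _) = T.ρ g (e _) + T.ρ g (e _)
    rw [h1, map_add, T.add]
  have ht2 : ∀ (a : F) x, t (a • x) = a • t x := by
    intro a x
    have h1 : (fun i => τ.symm ((a • x) i)) = τ.symm a • (fun i => τ.symm (x i)) := by
      funext i
      simp
    show T.ρ g (e _) = a • T.ρ g (e _)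
    rw [h1, map_smul, T.smul, ← hτ, τ.apply_symm_apply]
  have ht3 : ∀ x y, B (t x) (t y) = sympForm m F x y := by
    intro x y
    show B (T.ρ g (e _)) (T.ρ g (e _)) = _
    rw [T.form, he, ← hτ, Cfsg.Agent.ClassicalGeometry.SympBasic.sympForm_eq_sum,
      Cfsg.Agent.ClassicalGeometry.SympBasic.sympForm_eq_sum]
    simp only [_root_.Finset.sum_sub_distrib, _root_.map_sub, _root_.map_sum, _root_.map_mul, _root_.RingEquiv.apply_symm_apply]
  let t' : (Fin m ⊕ Fin m → F) →ₗ[F] V := { toFun := t, map_add' := ht1, map_smul' := ht2 }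
  have ht' : Function.Bijective t' := by
    constructor
    · intro x y hxy
      have h2 : T.ρ g (e (fun i => τ.symm (x i))) = T.ρ g (e (fun i => τ.symm (y i))) := hxy
      have h3 := e.injective ((T.ρ g).injective h2)
      funext i
      exact τ.symm.injective (congrFun h3 i)
    · intro v
      refine ⟨fun i => τ (e.symm (T.ρ g⁻¹ v) i), ?_⟩
      show T.ρ g (e _) = v
      have h1 : (fun i => τ.symm (τ (e.symm (T.ρ g⁻¹ v) i))) = e.symm (T.ρ g⁻¹ v) := by
        funext i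
        rw [τ.symm_apply_apply]
      rw [h1, e.apply_symm_apply, T.ρ_self_inv]
  let x : V ≃ₗ[F] V := e.symm ≪≫ₗ LinearEquiv.ofBijective t' ht'
  have hx : ∀ v, x (e v) = t v := by
    intro v
    show t (e.symm (e v)) = _
    rw [e.symm_apply_apply]
  obtain ⟨h, hh, hhv⟩ := T.exists_L x (by
    intro v w
    obtain ⟨v, rfl⟩ := e.surjective v
    obtain ⟨w, rfl⟩ := e.surjective w
    rw [hx, hx, he, ht3])
  refine ⟨h⁻¹ * g, ?_, ?_⟩
  · rw [map_mul, map_inv, T.mem_L.1 hh, inv_one, one_mul]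
  · intro v
    have h1 : T.ρ g (e v) = T.ρ h (e (fun i => τ (v i))) := by
      rw [hhv, hx]
      show _ = T.ρ g (e _)
      congr 2
      funext i
      simp
    rw [T.ρ_mul, h1, T.ρ_inv_self]

omit [FiniteDimensional F V] in
/-- `φ` commutes with matrices whose entries are fixed -/
theorem phi_comm {φ : Γ} {τ : F ≃+* F} (hφ : ∀ x : Fin m ⊕ Fin m → F, T.ρ φ (e x) = e (fun i => τ (x i)))
    {Λ : Matrix.symplecticGroup (Fin m) F →* Γ}
    (hΛ : ∀ A v, T.ρ (Λ A) (e v) = e ((A : Matrix (Fin m ⊕ Fin m) (Fin m ⊕ Fin m) F) *ᵥ v))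
    {A : Matrix.symplecticGroup (Fin m) F}
    (hA : ∀ i j, τ ((A : Matrix (Fin m ⊕ Fin m) (Fin m ⊕ Fin m) F) i j) =
      (A : Matrix (Fin m ⊕ Fin m) (Fin m ⊕ Fin m) F) i j) : φ * Λ A = Λ A * φ := by
  apply T.ext
  intro v
  obtain ⟨v, rfl⟩ := e.surjective v
  rw [T.ρ_mul, T.ρ_mul, hΛ, hφ, hφ, hΛ]
  congr 1
  funext i
  simp only [Matrix.mulVec, dotProduct, map_sum, map_mul, hA]

end Cfsg.Agent.H567.Ct
end

-- part: H567/Ct/StepA
section
/-!
# S3852 [SP-A]: `stepA` (helper567)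

`Γ ≥ Sp(V)`, `q = 3 ^ odd`: no Carter subgroup `K` with `K L = Γ` meets `L = Sp(V)` in a `2`-group.
-/

set_option autoImplicit false
set_option linter.style.haveILetI false

namespace Cfsg.Agent.H567.Ct

open Subgroup Pointwise Cfsg.Agent.H18.Carter Cfsg Cfsg.Agent.Solvable.Carter

universe u

/-- two subgroups of order the `p`-part are conjugate -/
theorem exists_conj {G : Type*} [Group G] [Finite G] {p : ℕ} [Fact p.Prime] {L P Q : Subgroup G} (hPL : P ≤ L)
    (hQL : Q ≤ L) (hP : IsPGroup p P) (hQ : IsPGroup p Q) (hP' : ¬ p ∣ P.relIndex L) (hQ' : ¬ p ∣ Q.relIndex L) :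
    ∃ x ∈ L, MulAut.conj x • P = Q := by
  have h1 : IsPGroup p (P.subgroupOf L) := hP.comap_of_injective L.subtype L.subtype_injective
  have h2 : IsPGroup p (Q.subgroupOf L) := hQ.comap_of_injective L.subtype L.subtype_injective
  let S : Sylow p L := h1.toSylow hP'
  let R : Sylow p L := h2.toSylow hQ'
  obtain ⟨x, hx⟩ := MulAction.exists_smul_eq L S R
  refine ⟨x, x.2, ?_⟩
  have hx' : MulAut.conj x • (P.subgroupOf L) = Q.subgroupOf L := by
    have h3 := congrArg (fun Z : Sylow p L => (Z : Subgroup L)) hx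
    exact h3
  ext y
  constructor
  · intro hy
    rw [mem_cj] at hy
    have hyL : y ∈ L := by
      have h4 := L.mul_mem (L.mul_mem x.2 (hPL hy)) (L.inv_mem x.2)
      have h5 : (x : G) * ((x : G)⁻¹ * y * x) * (x : G)⁻¹ = y := by group
      rwa [h5] at h4
    have h3 : (⟨y, hyL⟩ : L) ∈ MulAut.conj x • (P.subgroupOf L) := by
      rw [mem_cj]
      exact hy
    rw [hx'] at h3
    exact h3
  · intro hy
    have h3 : (⟨y, hQL hy⟩ : L) ∈ MulAut.conj x • (P.subgroupOf L) := by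
      rw [hx']
      exact hy
    rw [mem_cj] at h3 ⊢
    exact h3

theorem stepA {F : Type} [Field F] [Fintype F] {V : Type} [AddCommGroup V] [Module F V] [FiniteDimensional F V]
    [Nontrivial V] {B : V →ₗ[F] V →ₗ[F] F} (hB : Alt F B) {Γ : Type u} [Group Γ] [Finite Γ] (T : Md F B Γ)
    (hFp : Cfsg.Agent.H381.Car.Fpf.{u}) (sm : Sm2 Γ) {f : ℕ} (hF : Fintype.card F = 3 ^ (2 * f + 1))
    {K : Subgroup Γ} (hK : IsCarter K) (hKL : K ⊔ T.L = ⊤) (h2 : IsPGroup 2 ↥(K ⊓ T.L)) : False := by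
  classical
  haveI : Fact (Nat.Prime 2) := ⟨Nat.prime_two⟩
  haveI := charP_three hF
  have h2F : (2 : F) ≠ 0 := by
    intro h
    have h3 : ((2 : ℕ) : F) = 0 := by exact_mod_cast h
    rw [CharP.cast_eq_zero_iff F 3] at h3
    omega
  have he := T.eps_comm
  have he2 := T.orderOf_eps h2F
  -- coordinates
  obtain ⟨m, e, hem⟩ := exists_coords hB
  have hm : 1 ≤ m := by
    by_contra hm
    have hm0 : m = 0 := by omega
    subst hm0
    have h3 : Subsingleton V := e.symm.injective.subsingleton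
    exact not_subsingleton V h3
  obtain ⟨Λ, hΛi, hΛr, hΛ⟩ := exists_Lam T e hem
  obtain ⟨W, b, hW, hbW, hbn, hfix⟩ := exists_data hF m hm
  haveI : Finite F := inferInstance
  haveI : Finite (Matrix.symplecticGroup (Fin m) F) := inferInstance
  -- the subgroup `T₀`
  let S : Sylow 2 (Matrix.symplecticGroup (Fin m) F) := Sylow.ofCard W hW
  have hSW : (S : Subgroup (Matrix.symplecticGroup (Fin m) F)) = W := rfl
  have hT0L : W.map Λ ≤ T.L := by
    rw [← hΛr]
    exact map_le_range Λ W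
  have hT02 : IsPGroup 2 (W.map Λ) := by
    have h3 : IsPGroup 2 W := S.2
    exact h3.map Λ
  have hT0i : ¬ 2 ∣ (W.map Λ).relIndex T.L := by
    rw [← hΛr, MonoidHom.range_eq_map, relIndex_map_map_of_injective _ _ hΛi, relIndex_top_right]
    exact S.not_dvd_index
  -- Lemma X in the quotient
  let Z : Subgroup Γ := zpowers T.eps
  have hZc : Z ≤ center Γ := by
    rw [zpowers_le]
    exact mem_center_iff.2 he
  haveI hZn : Z.Normal := ⟨fun n hn g => by
    rw [(mem_center_iff.1 (hZc hn)) g, mul_inv_cancel_right]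
    exact hn⟩
  have hZ2 : Nat.card Z = 2 := by rw [Nat.card_zpowers, he2]
  have hcardZ : Nat.card Γ = Nat.card (Γ ⧸ Z) * 2 := by
    rw [Subgroup.card_eq_card_quotient_mul_card_subgroup Z, hZ2]
  have hZK : Z ≤ K := hZc.trans (IsCarter.center_le hK)
  have hZL : Z ≤ T.L := by
    rw [zpowers_le]
    exact T.eps_mem
  let π : Γ →* Γ ⧸ Z := QuotientGroup.mk' Z
  have hπs : Function.Surjective π := QuotientGroup.mk'_surjective Z
  have hπk : π.ker = Z := QuotientGroup.ker_mk' Z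
  haveI hLn : (T.L.map π).Normal := Subgroup.Normal.map inferInstance π hπs
  have hKN : IsPGroup 2 (K.map π ⊓ T.L.map π : Subgroup (Γ ⧸ Z)) := by
    have h3 : K.map π ⊓ T.L.map π ≤ (K ⊓ T.L).map π := by
      rintro x ⟨⟨k, hk, rfl⟩, ⟨l, hl, hkl⟩⟩
      have h4 : k⁻¹ * l ∈ Z := by
        rw [← hπk]
        show π (k⁻¹ * l) = 1
        rw [map_mul, map_inv, hkl, inv_mul_cancel]
      refine ⟨k, ⟨hk, ?_⟩, rfl⟩
      have h5 := T.L.mul_mem hl (T.L.inv_mem (hZL h4))
      have h6 : l * (k⁻¹ * l)⁻¹ = k := by group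
      rwa [h6] at h5
    exact (h2.map π).to_le h3
  obtain ⟨P, hPN, hP2, hPi, hPK⟩ := Cfsg.Agent.H381.Car.lemma_x hFp (G := Γ ⧸ Z) (by
    intro Y _ _ hY
    exact sm Y (by omega)) (T.L.map π) (IsCarter.map_central hZc hK) (l := 2) hKN
  -- the pull back
  have hT2L : P.comap π ≤ T.L := by
    intro x hx
    obtain ⟨l, hl, hlx⟩ := hPN hx
    have h4 : l⁻¹ * x ∈ Z := by
      rw [← hπk]
      show π (l⁻¹ * x) = 1
      rw [map_mul, map_inv, hlx, inv_mul_cancel]
    have h5 := T.L.mul_mem hl (hZL h4)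
    rwa [mul_inv_cancel_left] at h5
  have hT22 : IsPGroup 2 (P.comap π) := by
    apply hP2.comap_of_ker_isPGroup
    rw [hπk]
    exact IsPGroup.of_card (n := 1) (by rw [hZ2, pow_one])
  have hT2i : ¬ 2 ∣ (P.comap π).relIndex T.L := by
    rw [relIndex_comap]
    exact hPi
  have hT2K : K ≤ normalizer ((P.comap π : Subgroup Γ) : Set Γ) := by
    intro k hk
    exact le_normalizer_comap π (hPK ⟨k, hk, rfl⟩)
  -- conjugation
  obtain ⟨x, hxL, hx⟩ := exists_conj hT2L hT0L hT22 hT02 hT2i hT0i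
  have hK' : IsCarter (MulAut.conj x • K) := hK.conj x
  have hK'n : MulAut.conj x • K ≤ normalizer ((W.map Λ : Subgroup Γ) : Set Γ) := by
    rw [← hx]
    intro y hy
    rw [mem_cj] at hy
    have h3 := mem_normalizer_iff.1 (hT2K hy)
    rw [mem_normalizer_iff]
    intro z
    rw [mem_cj, mem_cj, h3]
    have h4 : x⁻¹ * y * x * (x⁻¹ * z * x) * (x⁻¹ * y * x)⁻¹ = x⁻¹ * (y * z * y⁻¹) * x := by group
    rw [h4]
  have hLx : ∀ y, y ∈ T.L ↔ x⁻¹ * y * x ∈ T.L := by
    intro y
    have h3 : T.L.Normal := inferInstance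
    constructor
    · intro hy
      have h4 := h3.conj_mem y hy x⁻¹
      rwa [inv_inv] at h4
    · intro hy
      have h4 := h3.conj_mem _ hy x
      have h5 : x * (x⁻¹ * y * x) * x⁻¹ = y := by group
      rwa [h5] at h4
  have hK'L : (MulAut.conj x • K) ⊔ T.L = ⊤ := by
    rw [eq_top_iff]
    intro y _
    have h3 : x⁻¹ * y * x ∈ K ⊔ T.L := by rw [hKL]; trivial
    obtain ⟨k, hk, l, hl, hkl⟩ := Subgroup.mem_sup_of_normal_right.1 h3
    have h4 : y = (x * k * x⁻¹) * (x * l * x⁻¹) := by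
      have h5 : (x * k * x⁻¹) * (x * l * x⁻¹) = x * (k * l) * x⁻¹ := by group
      rw [h5, hkl]
      group
    rw [h4]
    refine mul_mem (mem_sup_left (cj_mem hk)) (mem_sup_right ?_)
    rw [hLx]
    have h5 : x⁻¹ * (x * l * x⁻¹) * x = l := by group
    rwa [h5]
  have hK'2 : IsPGroup 2 ((MulAut.conj x • K) ⊓ T.L : Subgroup Γ) := by
    have h3 : (MulAut.conj x • K) ⊓ T.L = (K ⊓ T.L).map (MulAut.conj x).toMonoidHom := by
      ext y
      constructor
      · rintro ⟨hy1, hy2⟩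
        refine ⟨x⁻¹ * y * x, ⟨mem_cj.1 hy1, (hLx y).1 hy2⟩, ?_⟩
        show x * (x⁻¹ * y * x) * x⁻¹ = y
        group
      · rintro ⟨z, ⟨hz1, hz2⟩, rfl⟩
        refine ⟨cj_mem hz1, ?_⟩
        show x * z * x⁻¹ ∈ T.L
        rw [hLx]
        have h5 : x⁻¹ * (x * z * x⁻¹) * x = z := by group
        rwa [h5]
    rw [h3]
    exact h2.map _
  haveI : IsCyclic (F ≃+* F) := Cfsg.Agent.H206.FieldKill.isCyclic_aut F
  refine core T.σ (W.map Λ) (MulAut.conj x • K) hT0L hT02 hT0i hK'n hK'L hK'2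
    (fun M hM hMt => sm.norm he he2 hK' hM hMt) (Λ b) ?_ ?_ ?_ ?_
  · have h3 : Λ b ∈ Λ.range := ⟨b, rfl⟩
    rw [hΛr] at h3
    exact h3
  · rintro ⟨w, hw, hwb⟩
    rw [hΛi hwb] at hw
    exact hbW hw
  · exact le_normalizer_map Λ ⟨b, hbn, rfl⟩
  · intro c
    obtain ⟨φ, hφσ, hφ⟩ := exists_phi T e hem c
    refine ⟨φ, hφσ, ?_, ?_⟩
    · rintro _ ⟨w, hw, rfl⟩
      exact phi_comm T e hφ hΛ ((hfix (T.σ c)).1 w hw)
    · exact phi_comm T e hφ hΛ (hfix (T.σ c)).2

end Cfsg.Agent.H567.Ct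
end

-- part: H274/Carter/SpB
section
/-!
# S3852, rows `PSp₂ₙ(q)`, `q = 3^odd`: the case where `(K ∩ L)/⟨-1⟩` is a 3-group (helper274)
-/

set_option autoImplicit false
set_option linter.style.haveILetI false

namespace Cfsg.Agent.H274.Carter

open Subgroup
open Cfsg.Agent.Solvable.Carter Cfsg.Agent.H18.Carter

universe u

/-! ### Lemma X modulo a central element of order two -/

section Lift

variable {Γ : Type u} [Group Γ] [Finite Γ]

theorem le_of_sylow {p : ℕ} [Fact p.Prime] {U W L : Subgroup Γ} (hUW : U ≤ W) (hWL : W ≤ L) (hW : IsPGroup p W)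
    (h : ¬ p ∣ U.relIndex L) : W ≤ U := by
  have h1 := relIndex_mul_relIndex U W L hUW hWL
  have h2 : ¬ p ∣ U.relIndex W := fun hd => h (h1 ▸ hd.mul_right _)
  have h3 : U.relIndex W ∣ Nat.card W := relIndex_dvd_card U W
  obtain ⟨n, hn⟩ := IsPGroup.iff_card.1 hW
  rw [hn] at h3
  obtain ⟨m, -, hm⟩ := (Nat.dvd_prime_pow (Fact.out : p.Prime)).1 h3
  rcases Nat.eq_zero_or_pos m with rfl | hm0
  · rw [pow_zero, relIndex_eq_one] at hm
    exact hm
  · exact absurd (hm ▸ dvd_pow_self p hm0.ne') h2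

/-- a group with a central subgroup of order two and quotient a 3-group -/
theorem exists_odd_part {P : Type u} [Group P] [Finite P] {a : ℕ} (hP : Nat.card P = 3 ^ a * 2) :
    ∃ S : Subgroup P, IsPGroup 3 S ∧ S.index ∣ 2 ∧ ∀ x : P, ∀ k : ℕ, x ^ 3 ^ k = 1 → x ∈ S := by
  haveI : Fact (Nat.Prime 3) := ⟨Nat.prime_three⟩
  obtain ⟨S⟩ : Nonempty (Sylow 3 P) := inferInstance
  have h1 : ¬ 3 ∣ (S : Subgroup P).index := S.not_dvd_index
  have h2 : (S : Subgroup P).index ∣ 3 ^ a * 2 := by rw [← hP]; exact index_dvd_card _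
  have h3 : (S : Subgroup P).index ∣ 2 := by
    refine Nat.Coprime.dvd_of_dvd_mul_left ?_ h2
    exact Nat.Coprime.pow_right _ ((Nat.Prime.coprime_iff_not_dvd Nat.prime_three).2 h1).symm
  have hn : (S : Subgroup P).Normal := by
    rcases (Nat.dvd_prime Nat.prime_two).1 h3 with h4 | h4
    · rw [index_eq_one] at h4
      rw [h4]
      infer_instance
    · exact normal_of_index_eq_two h4
  refine ⟨S, S.isPGroup', h3, fun x k hx => ?_⟩
  have h4 : x ^ 2 ∈ (S : Subgroup P) := by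
    obtain ⟨m, hm⟩ := h3
    rw [hm, pow_mul]
    exact pow_mem (Subgroup.pow_index_mem _ x) m
  have h5 : Odd (3 ^ k) := Odd.pow (by decide)
  obtain ⟨m, hm⟩ := h5
  have h6 : x ^ 3 ^ k ∈ (S : Subgroup P) := by rw [hx]; exact one_mem _
  rw [hm, pow_succ, pow_mul] at h6
  exact (mul_mem_cancel_left (pow_mem h4 m)).1 h6

/-- **Lemma X** in `Γ/⟨e⟩`, lifted to `Γ`. -/
theorem lift_x (hFp : Cfsg.Agent.H381.Car.Fpf.{u}) (sm : Sm2 Γ) {e : Γ} (he : ∀ g, g * e = e * g) (he2 : orderOf e = 2)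
    {L : Subgroup Γ} [hLn : L.Normal] (heL : e ∈ L) {K : Subgroup Γ} (hK : IsCarter K)
    (h3 : ∀ x ∈ K ⊓ L, ∃ k : ℕ, x ^ 3 ^ k = 1 ∨ x ^ 3 ^ k = e) :
    ∃ U : Subgroup Γ, U ≤ L ∧ IsPGroup 3 U ∧ ¬ 3 ∣ U.relIndex L ∧ K ≤ normalizer (U : Set Γ) := by
  haveI : Fact (Nat.Prime 3) := ⟨Nat.prime_three⟩
  have hec : e ∈ center Γ := mem_center_iff.2 he
  have hZ : zpowers e ≤ center Γ := by rw [zpowers_le]; exact hec
  haveI hZn : (zpowers e).Normal := ⟨fun n hn g => by
    rw [(mem_center_iff.1 (hZ hn)) g, mul_inv_cancel_right]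
    exact hn⟩
  have hZK : zpowers e ≤ K := by
    rw [zpowers_le]
    exact IsCarter.center_le hK hec
  have hcard : Nat.card Γ = Nat.card (Γ ⧸ zpowers e) * 2 := by
    have h1 := Subgroup.card_eq_card_quotient_mul_card_subgroup (zpowers e)
    rwa [Nat.card_zpowers, he2] at h1
  set f := QuotientGroup.mk' (zpowers e) with hf
  have hfs : Function.Surjective f := QuotientGroup.mk'_surjective _
  haveI : (L.map f).Normal := hLn.map f hfs
  obtain ⟨P', hP'N, hP'p, hP'i, hP'K⟩ := Cfsg.Agent.H381.Car.lemma_x hFp (G := Γ ⧸ zpowers e) (l := 3)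
    (fun Y _ _ hY => sm Y (by omega)) (L.map f) (IsCarter.map_central hZ hK) (by
      rintro ⟨y, ⟨k, hk, rfl⟩, l, hl, e1⟩
      have h1 : l ∈ K := by
        have h2 : k⁻¹ * l ∈ zpowers e := QuotientGroup.eq.1 e1.symm
        have := mul_mem hk (hZK h2)
        rwa [mul_inv_cancel_left] at this
      obtain ⟨m, hm⟩ := h3 l ⟨h1, hl⟩
      refine ⟨m, Subtype.ext ?_⟩
      change (f k) ^ 3 ^ m = 1
      rw [← e1, ← map_pow]
      rcases hm with hm | hm
      · rw [hm, map_one]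
      · rw [hm]
        exact (QuotientGroup.eq_one_iff e).2 (mem_zpowers e))
  set P := P'.comap f with hP
  have hPL : P ≤ L := by
    have h1 : P ≤ (L.map f).comap f := comap_mono hP'N
    rw [comap_map_eq, hf, QuotientGroup.ker_mk', sup_eq_left.2 (by rw [zpowers_le]; exact heL)] at h1
    exact h1
  have hPi : P.relIndex L = P'.relIndex (L.map f) := relIndex_comap P' f L
  obtain ⟨a, ha⟩ := IsPGroup.iff_card.1 hP'p
  have hPc : Nat.card P = 3 ^ a * 2 := by
    have h1 : P.index = P'.index := index_comap_of_surjective _ hfs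
    have h2 := card_mul_index P
    have h4 := card_mul_index P'
    rw [h1, hcard, ← h4, ha] at h2
    have h5 : 0 < P'.index := Nat.pos_of_ne_zero index_ne_zero_of_finite
    refine Nat.eq_of_mul_eq_mul_right h5 ?_
    rw [h2]
    ring
  obtain ⟨S, hS3, hSi, hS⟩ := exists_odd_part hPc
  have hmem : ∀ x ∈ P, ∀ k : ℕ, x ^ 3 ^ k = 1 → x ∈ S.map P.subtype := by
    intro x hx k hk
    exact ⟨⟨x, hx⟩, hS ⟨x, hx⟩ k (Subtype.ext hk), rfl⟩
  have hkey : ∀ k ∈ K, ∀ x ∈ S.map P.subtype, k * x * k⁻¹ ∈ S.map P.subtype := by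
    rintro k hk _ ⟨x, hx, rfl⟩
    obtain ⟨m, hm⟩ := hS3 ⟨x, hx⟩
    have hm' : (x : Γ) ^ 3 ^ m = 1 := congrArg (fun z : S => ((z : P) : Γ)) hm
    refine hmem _ ?_ m ?_
    · have h1 := (mem_normalizer_iff.1 (hP'K ⟨k, hk, rfl⟩) (f (x : Γ))).1 x.2
      change f (k * (x : Γ) * k⁻¹) ∈ P'
      rw [map_mul, map_mul, map_inv]
      exact h1
    · change (k * (x : Γ) * k⁻¹) ^ 3 ^ m = 1
      rw [conj_pow, hm', mul_one, mul_inv_cancel]
  refine ⟨S.map P.subtype, (map_subtype_le _).trans hPL, hS3.map _, ?_, ?_⟩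
  · have h1 := relIndex_mul_relIndex (S.map P.subtype) P L (map_subtype_le _) hPL
    have h2 : (S.map P.subtype).relIndex P = S.index := by
      rw [relIndex]
      congr 1
      exact comap_map_eq_self_of_injective P.subtype_injective S
    rw [← h1, h2, hPi]
    intro hd
    rcases (Nat.Prime.dvd_mul Nat.prime_three).1 hd with h4 | h4
    · exact absurd (h4.trans hSi) (by decide)
    · exact hP'i h4
  · intro k hk
    rw [mem_normalizer_iff]
    intro x
    refine ⟨hkey k hk x, fun hx => ?_⟩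
    have h1 := hkey k⁻¹ (inv_mem hk) _ hx
    have e1 : k⁻¹ * (k * x * k⁻¹) * k⁻¹⁻¹ = x := by group
    rwa [e1] at h1

end Lift

/-! ### the stabiliser of a line and its radical -/

section Geo

variable {F : Type} [Field F] {V : Type} [AddCommGroup V] [Module F V] {B : V →ₗ[F] V →ₗ[F] F} {Γ : Type u} [Group Γ]
  (T : Md F B Γ)

/-- the stabiliser of the line `⟨v⟩` -/
def St (v : V) : Subgroup Γ where
  carrier := {g | ∃ c : F, c ≠ 0 ∧ T.ρ g v = c • v}
  one_mem' := ⟨1, one_ne_zero, by rw [T.ρ_one, one_smul]⟩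
  mul_mem' := by
    rintro g h ⟨c, hc, hg⟩ ⟨d, hd, hh⟩
    refine ⟨T.σ g d * c, mul_ne_zero ((map_ne_zero_iff _ (T.σ g).injective).2 hd) hc, ?_⟩
    rw [T.ρ_mul, hh, T.smul, hg, mul_smul]
  inv_mem' := by
    rintro g ⟨c, hc, hg⟩
    refine ⟨(T.σ g⁻¹ c)⁻¹, inv_ne_zero ((map_ne_zero_iff _ (T.σ g⁻¹).injective).2 hc), ?_⟩
    have h1 := T.ρ_inv_self g v
    rw [hg, T.smul] at h1
    have hc' : T.σ g⁻¹ c ≠ 0 := (map_ne_zero_iff _ (T.σ g⁻¹).injective).2 hc
    rw [← h1, smul_smul, inv_mul_cancel₀ hc', one_smul, h1]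

variable {T}

theorem perp_of_St {v : V} {g : Γ} (hg : g ∈ St T v) {u : V} (hu : B u v = 0) : B (T.ρ g u) v = 0 := by
  obtain ⟨c, hc, h⟩ := hg
  have h1 := T.form g u v
  rw [h, hu, map_smul, map_zero, smul_eq_mul] at h1
  exact (mul_eq_zero.1 h1).resolve_left hc

variable (T)

/-- the radical of the stabiliser: trivial on `⟨v⟩`, `v^⊥/⟨v⟩` -/
def QQ (v : V) : Subgroup Γ where
  carrier := {x | x ∈ T.L ∧ T.ρ x v = v ∧ ∀ u, B u v = 0 → ∃ a : F, T.ρ x u = u + a • v}
  one_mem' := ⟨one_mem _, T.ρ_one v, fun u _ => ⟨0, by rw [T.ρ_one, zero_smul, add_zero]⟩⟩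
  mul_mem' := by
    rintro x y ⟨hx, hxv, hxu⟩ ⟨hy, hyv, hyu⟩
    refine ⟨mul_mem hx hy, by rw [T.ρ_mul, hyv, hxv], fun u hu => ?_⟩
    obtain ⟨a, ha⟩ := hyu u hu
    obtain ⟨b, hb⟩ := hxu u hu
    refine ⟨b + a, ?_⟩
    rw [T.ρ_mul, ha, T.add, hb, T.smul_L hx, hxv, add_smul, add_assoc]
  inv_mem' := by
    rintro x ⟨hx, hxv, hxu⟩
    have hv : T.ρ x⁻¹ v = v := by
      have := T.ρ_inv_self x v
      rwa [hxv] at this
    refine ⟨inv_mem hx, hv, fun u hu => ?_⟩
    have h1 : B (T.ρ x⁻¹ u) v = 0 := perp_of_St (T := T) ⟨1, one_ne_zero, by rw [hv, one_smul]⟩ hu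
    obtain ⟨a, ha⟩ := hxu _ h1
    rw [T.ρ_self_inv] at ha
    refine ⟨-a, ?_⟩
    rw [ha]
    rw [neg_smul, add_neg_cancel_right]
    rw [← ha]

variable {T}

theorem QQ_le_St (v : V) : QQ T v ≤ St T v := fun _ hx => ⟨1, one_ne_zero, by rw [hx.2.1, one_smul]⟩

theorem conj_QQ {v : V} {g x : Γ} (hg : g ∈ St T v) (hx : x ∈ QQ T v) : g * x * g⁻¹ ∈ QQ T v := by
  obtain ⟨c, hc, hgv⟩ := hg
  obtain ⟨c', hc', hgv'⟩ := inv_mem (show g ∈ St T v from ⟨c, hc, hgv⟩)
  refine ⟨(inferInstance : T.L.Normal).conj_mem _ hx.1 _, ?_, fun u hu => ?_⟩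
  · rw [T.ρ_mul, T.ρ_mul, hgv', T.smul_L hx.1, hx.2.1, ← hgv', T.ρ_self_inv]
  · have h1 : B (T.ρ g⁻¹ u) v = 0 := perp_of_St (T := T) ⟨c', hc', hgv'⟩ hu
    obtain ⟨a, ha⟩ := hx.2.2 _ h1
    refine ⟨T.σ g a * c, ?_⟩
    rw [T.ρ_mul, T.ρ_mul, ha, T.add, T.smul, T.ρ_self_inv, hgv, mul_smul]

theorem St_le_normalizer (v : V) : St T v ≤ normalizer (QQ T v : Set Γ) := by
  intro g hg
  rw [mem_normalizer_iff]
  intro x
  refine ⟨conj_QQ hg, fun hx => ?_⟩
  have h1 := conj_QQ (inv_mem hg) hx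
  have e1 : g⁻¹ * (g * x * g⁻¹) * g⁻¹⁻¹ = x := by group
  rwa [e1] at h1

/-- the elements of the radical have order dividing 3 -/
theorem QQ_cube (hc : (3 : F) = 0) {v : V} {x : Γ} (hx : x ∈ QQ T v) : x ^ 3 = 1 := by
  apply T.ext
  intro w
  obtain ⟨hxL, hxv, hxu⟩ := hx
  have h1 : B (T.ρ x w - w) v = 0 := by
    have h2 := T.form_L hxL w v
    rw [hxv] at h2
    rw [map_sub, LinearMap.sub_apply, h2, sub_self]
  obtain ⟨a, ha⟩ := hxu _ h1
  set u := T.ρ x w - w with hu
  have hw : T.ρ x w = w + u := by rw [hu]; abel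
  have e : x ^ 3 = x * (x * x) := by rw [pow_succ, pow_two, mul_assoc]
  rw [T.ρ_one, e, T.ρ_mul, T.ρ_mul, hw, T.add, hw, ha, T.add, T.add, T.add, hw, ha, T.smul_L hxL, hxv]
  have h3 : (3 : F) • u + (3 * a) • v = 0 := by rw [hc, zero_mul, zero_smul, zero_smul, add_zero]
  linear_combination (norm := module) h3

/-- the isometries `x ↦ x + B(x,v) u + B(x,u) v` -/
theorem exists_gu (hB : Alt F B) {u v : V} (hu : B u v = 0) :
    ∃ g ∈ QQ T v, ∀ x, T.ρ g x = x + B x v • u + B x u • v := by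
  have hv := hB.alt v
  have hu' := hB.alt u
  have huv : B v u = 0 := by rw [hB.skew, hu, neg_zero]
  let φ : V →ₗ[F] V := LinearMap.id + (B.flip v).smulRight u + (B.flip u).smulRight v
  let ψ : V →ₗ[F] V := LinearMap.id - (B.flip v).smulRight u - (B.flip u).smulRight v
  have hφ : ∀ x, φ x = x + B x v • u + B x u • v := fun x => rfl
  have hψ : ∀ x, ψ x = x - B x v • u - B x u • v := fun x => rfl
  let e : V ≃ₗ[F] V := LinearEquiv.ofLinearMap φ ψ (by
    ext x
    simp only [LinearMap.comp_apply, hφ, hψ, LinearMap.id_apply, map_sub, map_smul, LinearMap.sub_apply, LinearMap.smul_apply,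
      smul_eq_mul, hv, hu', hu, huv, mul_zero, sub_zero]
    abel) (by
    ext x
    simp only [LinearMap.comp_apply, hφ, hψ, LinearMap.id_apply, map_add, map_smul, LinearMap.add_apply, LinearMap.smul_apply,
      smul_eq_mul, hv, hu', hu, huv, mul_zero, add_zero]
    abel)
  obtain ⟨g, hg, hge⟩ := T.exists_L e (by
    intro x y
    change B (φ x) (φ y) = B x y
    rw [hφ, hφ]
    simp only [map_add, map_smul, LinearMap.add_apply, LinearMap.smul_apply, smul_eq_mul, hv, hu', hu, huv]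
    rw [hB.skew u y, hB.skew v y]
    ring)
  have hg' : ∀ x, T.ρ g x = x + B x v • u + B x u • v := fun x => hge x
  refine ⟨g, ⟨hg, ?_, fun w hw => ⟨B w u, ?_⟩⟩, hg'⟩
  · rw [hg', hv, huv, zero_smul, zero_smul, add_zero, add_zero]
  · rw [hg', hw, zero_smul, add_zero]

/-- the transvections `x ↦ x + B(x,w) w` -/
theorem exists_trans (hB : Alt F B) (w : V) : ∃ g ∈ T.L, ∀ x, T.ρ g x = x + B x w • w := by
  have hw := hB.alt w
  let φ : V →ₗ[F] V := LinearMap.id + (B.flip w).smulRight w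
  let ψ : V →ₗ[F] V := LinearMap.id - (B.flip w).smulRight w
  have hφ : ∀ x, φ x = x + B x w • w := fun x => rfl
  have hψ : ∀ x, ψ x = x - B x w • w := fun x => rfl
  let e : V ≃ₗ[F] V := LinearEquiv.ofLinearMap φ ψ (by
    ext x
    simp only [LinearMap.comp_apply, hφ, hψ, LinearMap.id_apply, map_sub, map_smul, LinearMap.sub_apply, LinearMap.smul_apply,
      smul_eq_mul, hw, mul_zero, sub_zero]
    abel) (by
    ext x
    simp only [LinearMap.comp_apply, hφ, hψ, LinearMap.id_apply, map_add, map_smul, LinearMap.add_apply, LinearMap.smul_apply,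
      smul_eq_mul, hw, mul_zero, add_zero]
    abel)
  obtain ⟨g, hg, hge⟩ := T.exists_L e (by
    intro x y
    change B (φ x) (φ y) = B x y
    rw [hφ, hφ]
    simp only [map_add, map_smul, LinearMap.add_apply, LinearMap.smul_apply, smul_eq_mul, hw]
    rw [hB.skew w y]
    ring)
  exact ⟨g, hg, fun x => hge x⟩

/-- the isometry `-1` on the hyperbolic plane `⟨v, v'⟩`, `1` on its orthogonal space -/
theorem exists_t (hB : Alt F B) {v v' : V} (h1 : B v' v = 1) :
    ∃ t ∈ T.L, ∀ x, T.ρ t x = x - (2 : F) • (B x v • v' - B x v' • v) := by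
  have hv := hB.alt v
  have hv' := hB.alt v'
  have h2 : B v v' = -1 := by rw [hB.skew, h1]
  let φ : V →ₗ[F] V := LinearMap.id - (2 : F) • ((B.flip v).smulRight v' - (B.flip v').smulRight v)
  have hφ : ∀ x, φ x = x - (2 : F) • (B x v • v' - B x v' • v) := fun x => rfl
  have hφφ : φ.comp φ = LinearMap.id := by
    ext x
    simp only [LinearMap.comp_apply, hφ, LinearMap.id_apply, map_sub, map_smul, LinearMap.sub_apply, LinearMap.smul_apply,
      smul_eq_mul, hv, hv', h1, h2]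
    module
  let e : V ≃ₗ[F] V := LinearEquiv.ofLinearMap φ φ hφφ hφφ
  obtain ⟨g, hg, hge⟩ := T.exists_L e (by
    intro x y
    change B (φ x) (φ y) = B x y
    rw [hφ, hφ]
    simp only [map_sub, map_smul, LinearMap.sub_apply, LinearMap.smul_apply, smul_eq_mul, hv, hv', h1, h2]
    rw [hB.skew v y, hB.skew v' y]
    ring)
  exact ⟨g, hg, fun x => hge x⟩

/-- `(v^⊥)^⊥ = ⟨v⟩` -/
theorem eq_smul_of_perp (hB : Alt F B) {v v' w : V} (h1 : B v' v = 1) (hw : ∀ u, B u v = 0 → B w u = 0) :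
    w = B v' w • v := by
  rw [← sub_eq_zero]
  apply hB.nd
  intro x
  have h2 : B (x - B x v • v') v = 0 := by
    rw [map_sub, map_smul, LinearMap.sub_apply, LinearMap.smul_apply, h1, smul_eq_mul, mul_one, sub_self]
  have h3 := hw _ h2
  rw [map_sub, map_smul, smul_eq_mul] at h3
  rw [map_sub, map_smul, LinearMap.sub_apply, LinearMap.smul_apply, smul_eq_mul, hB.skew v' w, hB.skew v x]
  linear_combination h3

/-- dimension at least 3: a vector of `v^⊥` outside `⟨v⟩` -/
theorem exists_perp [FiniteDimensional F V] (hd : 4 ≤ Module.finrank F V) (v : V) :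
    ∃ u, B u v = 0 ∧ ∀ c : F, u ≠ c • v := by
  by_contra hcon
  push Not at hcon
  have h1 : LinearMap.ker (B.flip v) ≤ Submodule.span F {v} := by
    intro u hu
    obtain ⟨c, hc⟩ := hcon u hu
    rw [Submodule.mem_span_singleton]
    exact ⟨c, hc.symm⟩
  have h2 := Submodule.finrank_mono h1
  have h3 : Module.finrank F (Submodule.span F {v}) ≤ 1 := by
    by_cases hv : v = 0
    · rw [hv, Submodule.span_zero_singleton, finrank_bot]
      omega
    · rw [finrank_span_singleton hv]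
  have h4 := (B.flip v).finrank_range_add_finrank_ker
  have h5 : Module.finrank F (LinearMap.range (B.flip v)) ≤ 1 := by
    have := Submodule.finrank_le (LinearMap.range (B.flip v))
    rwa [Module.finrank_self] at this
  omega

end Geo

/-! ### the theorem -/

/-- **(SP-B)** -/
theorem stepB {F : Type} [Field F] [Fintype F] {V : Type} [AddCommGroup V] [Module F V] [FiniteDimensional F V]
    {B : V →ₗ[F] V →ₗ[F] F} (hB : Alt F B) {Γ : Type u} [Group Γ] [Finite Γ] (T : Md F B Γ)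
    (hFp : Cfsg.Agent.H381.Car.Fpf.{u}) (sm : Sm2 Γ) {f : ℕ} (hF : Fintype.card F = 3 ^ (2 * f + 1))
    (hd : 4 ≤ Module.finrank F V) {K : Subgroup Γ} (hK : IsCarter K)
    (h3 : ∀ x ∈ K ⊓ T.L, ∃ k : ℕ, x ^ 3 ^ k = 1 ∨ x ^ 3 ^ k = T.eps) : False := by
  haveI : Fact (Nat.Prime 3) := ⟨Nat.prime_three⟩
  haveI : Nontrivial V := Module.nontrivial_of_finrank_pos (R := F) (by omega)
  haveI : Finite V := Module.finite_of_finite F
  -- the characteristic
  have hc3 : (3 : F) = 0 := by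
    have h1 : (Fintype.card F : F) = 0 := FiniteField.cast_card_eq_zero F
    rw [hF, Nat.cast_pow] at h1
    have h2 := pow_eq_zero_iff (n := 2 * f + 1) (by omega) |>.1 h1
    exact_mod_cast h2
  have hc2 : (2 : F) ≠ 0 := by
    intro h
    have : (1 : F) = 0 := by linear_combination hc3 - h
    exact one_ne_zero this
  have he := T.eps_comm
  have he2 := T.orderOf_eps hc2
  obtain ⟨U, hUL, hU3, hUi, hKU⟩ := lift_x hFp sm he he2 T.eps_mem hK h3
  -- a vector fixed by `U`
  obtain ⟨v, hv0, hUv⟩ : ∃ v : V, v ≠ 0 ∧ ∀ g ∈ U, T.ρ g v = v := by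
    letI : MulAction U V := MulAction.compHom V (T.ρ.comp U.subtype)
    have hs : ∀ (g : U) (w : V), g • w = T.ρ (g : Γ) w := fun g w => rfl
    have hV : 3 ∣ Nat.card V := by
      haveI := Fintype.ofFinite V
      rw [Nat.card_eq_fintype_card, Module.card_eq_pow_finrank (K := F) (V := V), hF]
      exact (dvd_pow_self 3 (by omega)).trans (dvd_pow_self _ (by omega))
    obtain ⟨v, hv, hv0⟩ := hU3.exists_fixed_point_of_prime_dvd_card_of_fixed_point V hV (a := (0 : V))
      (by intro g; rw [hs, T.ρ_zero])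
    refine ⟨v, hv0.symm, fun g hg => ?_⟩
    exact hv ⟨g, hg⟩
  -- `Q ≤ U`
  have hUSt : U ≤ St T v := fun g hg => ⟨1, one_ne_zero, by rw [hUv g hg, one_smul]⟩
  have hQU : QQ T v ≤ U := by
    have hQ3 : IsPGroup 3 (QQ T v) := by
      intro x
      refine ⟨1, Subtype.ext ?_⟩
      rw [pow_one]
      exact QQ_cube hc3 x.2
    have h1 : IsPGroup 3 (U ⊔ QQ T v : Subgroup Γ) :=
      hU3.to_sup_of_normal_right' hQ3 (hUSt.trans (St_le_normalizer v))
    exact le_sup_right.trans (le_of_sylow le_sup_left (sup_le hUL fun x hx => hx.1) h1 hUi)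
  -- a hyperbolic pair
  obtain ⟨v', hv'⟩ : ∃ v', B v' v = 1 := by
    by_contra hcon
    push Not at hcon
    apply hv0
    apply hB.nd
    intro w
    by_contra hw
    have h1 : B w v ≠ 0 := by rwa [hB.skew, neg_ne_zero]
    apply hcon ((B w v)⁻¹ • w)
    rw [map_smul, LinearMap.smul_apply, smul_eq_mul, inv_mul_cancel₀ h1]
  obtain ⟨u₀, hu₀, hu₀v⟩ := exists_perp (B := B) hd v
  -- the fixed vectors of `Q`
  have hfix : ∀ w : V, (∀ g ∈ QQ T v, T.ρ g w = w) → ∃ c : F, w = c • v := by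
    intro w hw
    have h1 : ∀ u, B u v = 0 → B w v • u + B w u • v = 0 := by
      intro u hu
      obtain ⟨g, hg, hgu⟩ := exists_gu (T := T) hB hu
      have h2 := hw g hg
      rw [hgu, add_assoc] at h2
      exact left_eq_add.1 h2.symm
    have h2 : B w v = 0 := by
      by_contra h
      have h4 := h1 u₀ hu₀
      apply hu₀v (-(B w v)⁻¹ * B w u₀)
      have h5 : (B w v)⁻¹ • (B w v • u₀ + B w u₀ • v) = 0 := by rw [h4, smul_zero]
      rw [smul_add, smul_smul, smul_smul, inv_mul_cancel₀ h, one_smul] at h5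
      rw [neg_mul, neg_smul]
      exact eq_neg_of_add_eq_zero_left h5
    refine ⟨_, eq_smul_of_perp hB hv' fun u hu => ?_⟩
    have h4 := h1 u hu
    rw [h2, zero_smul, zero_add] at h4
    exact (smul_eq_zero.1 h4).resolve_right hv0
  -- `K` stabilises `⟨v⟩`
  have hKSt : K ≤ St T v := by
    intro k hk
    obtain ⟨c, hc⟩ := hfix (T.ρ k v) fun g hg => by
      have h1 : k⁻¹ * g * k ∈ U := by
        have h2 := (mem_normalizer_iff.1 (hKU (inv_mem hk)) g).1 (hQU hg)
        rwa [inv_inv] at h2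
      have h2 := hUv _ h1
      have h4 := congrArg (T.ρ k) h2
      rw [← T.ρ_mul] at h4
      have e1 : k * (k⁻¹ * g * k) = g * k := by group
      rw [e1, T.ρ_mul] at h4
      exact h4
    refine ⟨c, ?_, hc⟩
    rintro rfl
    rw [zero_smul] at hc
    apply hv0
    have h1 := T.ρ_inv_self k v
    rw [hc, T.ρ_zero] at h1
    exact h1.symm
  -- the involution `t`
  obtain ⟨t, htL, ht⟩ := exists_t (T := T) hB hv'
  have hvv' : B v v' = -1 := by rw [hB.skew, hv']
  have htv : T.ρ t v = -v := by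
    rw [ht, hB.alt, hvv']
    module
  have htSt : t ∈ St T v := ⟨-1, neg_ne_zero.2 one_ne_zero, by rw [htv, neg_smul, one_smul]⟩
  have htu : ∀ u, B u v = 0 → ∃ a : F, T.ρ t u = u + a • v := by
    intro u hu
    refine ⟨2 * B u v', ?_⟩
    rw [ht, hu]
    module
  have htu' : ∀ u, B u v = 0 → ∃ a : F, T.ρ t⁻¹ u = u + a • v := by
    intro u hu
    have h1 : B (T.ρ t⁻¹ u) v = 0 := perp_of_St (inv_mem htSt) hu
    obtain ⟨a, ha⟩ := htu _ h1
    rw [T.ρ_self_inv] at ha
    refine ⟨-a, ?_⟩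
    nth_rw 2 [ha]
    rw [neg_smul, add_neg_cancel_right]
  have htv' : T.ρ t⁻¹ v = -v := by
    have h1 := T.ρ_inv_self t v
    rw [htv, T.ρ_neg] at h1
    rw [← h1, neg_neg, h1]
  -- commutators with `t`
  have hcomm : ∀ k ∈ St T v, k * t * k⁻¹ * t⁻¹ ∈ QQ T v := by
    intro k hk
    obtain ⟨c', hc', hkv'⟩ := inv_mem hk
    refine ⟨mul_mem ((inferInstance : T.L.Normal).conj_mem _ htL _) (inv_mem htL), ?_, fun u hu => ?_⟩
    · rw [T.ρ_mul, htv', T.ρ_mul, T.ρ_mul, T.ρ_neg, T.ρ_neg, hkv', T.smul_L htL, htv, smul_neg, neg_neg, ← hkv',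
        T.ρ_self_inv]
    · obtain ⟨a, ha⟩ := htu' u hu
      obtain ⟨b, hb⟩ := htu _ (perp_of_St (inv_mem hk) hu)
      obtain ⟨c, -, hkv⟩ := hk
      refine ⟨T.σ k (b - T.σ k⁻¹ a * c') * c, ?_⟩
      rw [T.ρ_mul, ha, T.ρ_mul, T.ρ_mul, T.add, T.smul, hkv', T.add, hb, smul_smul, T.smul_L htL, htv]
      have e1 : T.ρ k⁻¹ u + b • v + (T.σ k⁻¹ a * c') • -v = T.ρ k⁻¹ u + (b - T.σ k⁻¹ a * c') • v := by
        rw [smul_neg, sub_smul]
        abel
      rw [e1, T.add, T.smul, T.ρ_self_inv, hkv, smul_smul]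
  -- `M = K Q`
  set M := K ⊔ QQ T v with hM
  have hMSt : M ≤ St T v := sup_le hKSt (QQ_le_St v)
  have hMtop : M ≠ ⊤ := by
    intro htop
    obtain ⟨g, -, hg⟩ := exists_trans (T := T) hB v'
    obtain ⟨c, -, hc⟩ := hMSt (show g ∈ M from htop ▸ mem_top g)
    rw [hg, hvv'] at hc
    have h1 := congrArg (fun x => B x v) hc
    simp only [map_add, map_smul, LinearMap.add_apply, LinearMap.smul_apply, hB.alt, hv', smul_eq_mul, mul_zero, mul_one,
      zero_add] at h1
    exact (neg_ne_zero.2 one_ne_zero) h1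
  have key : ∀ s : Γ, (∀ k ∈ K, s * k * s⁻¹ ∈ M) → s ∈ St T v → ∀ x ∈ M, s * x * s⁻¹ ∈ M := by
    intro s hs hsSt x hx
    obtain ⟨k, hk, y, hy, rfl⟩ := mul_mem_of_norm' (hKSt.trans (St_le_normalizer v)) hx
    have e1 : s * (k * y) * s⁻¹ = (s * k * s⁻¹) * (s * y * s⁻¹) := by group
    rw [e1]
    exact mul_mem (hs k hk) (mem_sup_right (conj_QQ hsSt hy))
  have htM : t ∈ normalizer (M : Set Γ) := by
    have h1 := key t (fun k hk => by
      have e1 : t * k * t⁻¹ = (k * t * k⁻¹ * t⁻¹)⁻¹ * k := by group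
      rw [e1]
      exact mul_mem (mem_sup_right (inv_mem (hcomm k (hKSt hk)))) (mem_sup_left hk)) htSt
    have h2 := key t⁻¹ (fun k hk => by
      have e1 : t⁻¹ * k * t⁻¹⁻¹ = t⁻¹ * (k * t * k⁻¹ * t⁻¹) * t * k := by group
      rw [e1]
      refine mul_mem (mem_sup_right ?_) (mem_sup_left hk)
      have h4 := conj_QQ (inv_mem htSt) (hcomm k (hKSt hk))
      rwa [inv_inv] at h4) (inv_mem htSt)
    rw [mem_normalizer_iff]
    intro x
    refine ⟨h1 x, fun hx => ?_⟩
    have h4 := h2 _ hx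
    have e1 : t⁻¹ * (t * x * t⁻¹) * t⁻¹⁻¹ = x := by group
    rwa [e1] at h4
  have htM' : t ∈ M := sm.norm he he2 hK le_sup_left hMtop htM
  obtain ⟨k, hk, x, hx, htk⟩ := mul_mem_of_norm' (hKSt.trans (St_le_normalizer v)) htM'
  have hkt : k = t * x⁻¹ := by rw [htk, mul_inv_cancel_right]
  have hkL : k ∈ T.L := by
    rw [hkt]
    exact mul_mem htL (inv_mem hx.1)
  -- the action of `k`
  have hkv : T.ρ k v = -v := by
    rw [hkt, T.ρ_mul, (inv_mem hx : x⁻¹ ∈ QQ T v).2.1, htv]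
  have hku : ∀ u, B u v = 0 → ∃ a : F, T.ρ k u = u + a • v := by
    intro u hu
    obtain ⟨a, ha⟩ := (inv_mem hx : x⁻¹ ∈ QQ T v).2.2 u hu
    obtain ⟨b, hb⟩ := htu u hu
    refine ⟨b - a, ?_⟩
    rw [hkt, T.ρ_mul, ha, T.add, hb, T.smul_L htL, htv, smul_neg, sub_smul]
    abel
  obtain ⟨j, hj⟩ := h3 k ⟨hk, hkL⟩
  have hpv : ∀ n, T.ρ (k ^ (2 * n)) v = v := by
    intro n
    induction n with
    | zero => rw [mul_zero, pow_zero, T.ρ_one]
    | succ n ih => rw [mul_add, pow_add, T.ρ_mul, mul_one, pow_two, T.ρ_mul, hkv, T.ρ_neg, hkv, neg_neg, ih]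
  have hpu : ∀ n, ∀ u, B u v = 0 → ∃ a : F, T.ρ (k ^ n) u = u + a • v := by
    intro n
    induction n with
    | zero => exact fun u _ => ⟨0, by rw [pow_zero, T.ρ_one, zero_smul, add_zero]⟩
    | succ n ih =>
      intro u hu
      obtain ⟨a, ha⟩ := ih u hu
      obtain ⟨b, hb⟩ := hku u hu
      refine ⟨b - a, ?_⟩
      rw [pow_succ', T.ρ_mul, ha, T.add, hb, T.smul_L hkL, hkv, smul_neg, sub_smul]
      abel
  obtain ⟨m, hm⟩ : Odd (3 ^ j) := Odd.pow (by decide)
  rcases hj with hj | hj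
  · have h1 : T.ρ (k ^ 3 ^ j) v = -v := by
      rw [hm, pow_succ', T.ρ_mul, hpv, hkv]
    rw [hj, T.ρ_one] at h1
    have h2 : (2 : F) • v = 0 := by
      rw [two_smul]
      nth_rw 1 [h1]
      exact neg_add_cancel v
    exact (smul_ne_zero hc2 hv0) h2
  · obtain ⟨a, ha⟩ := hpu (3 ^ j) u₀ hu₀
    rw [hj, T.eps_apply] at ha
    apply hu₀v (-(2⁻¹ * a))
    have h2 : (2 : F) • u₀ = (2 : F) • (-(2⁻¹ * a) • v) := by
      rw [smul_smul, mul_neg, mul_inv_cancel_left₀ hc2, neg_smul, two_smul]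
      have h4 : u₀ + u₀ + a • v = 0 := by
        rw [add_assoc, ← ha, add_neg_cancel]
      exact eq_neg_of_add_eq_zero_left h4
    exact smul_right_injective V hc2 h2

end Cfsg.Agent.H274.Carter
end

-- part: H18/Carter/SpLem
section
/-!
# S3852, rows `PSp₂ₙ(q)`, `q` odd: elements of order three in the centre of `K`, and the element `t`
-/

set_option autoImplicit false
set_option linter.unusedSectionVars false
set_option linter.unusedVariables false
set_option linter.style.haveILetI false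

namespace Cfsg.Agent.H18.Carter

open Subgroup Pointwise Module
open Cfsg.Agent.Solvable.Carter
open Cfsg.Agent.H721.FR Cfsg.Agent.H721.SR Cfsg.Agent.H18.Carter.Uni Cfsg.Agent.H955.FS

universe u

variable {F : Type} [Field F] {V : Type} [AddCommGroup V] [Module F V] {B : V →ₗ[F] V →ₗ[F] F}
variable {Γ : Type u} [Group Γ] (T : Md F B Γ)

/-- elements of odd prime order different from the characteristic are real -/
theorem Md.real [Fintype F] [FiniteDimensional F V] (hB : Alt F B) (T : Md F B Γ) {r : ℕ} (hr : r.Prime)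
    (hr2 : r ≠ 2) (hrF : (r : F) ≠ 0) {z : Γ} (hz : z ∈ T.L) (hzr : z ^ r = 1) : ∃ g ∈ T.L, g * z * g⁻¹ = z⁻¹ := by
  obtain ⟨m, e, he⟩ := Cfsg.Agent.H567.Ct.exists_coords hB
  obtain ⟨Λ, hΛ, hrg, -⟩ := Cfsg.Agent.H567.Ct.exists_Lam T e he
  rw [← hrg] at hz
  obtain ⟨A, rfl⟩ := hz
  have hA : A ^ r = 1 := hΛ (by rw [map_pow, hzr, map_one])
  rcases Nat.eq_zero_or_pos m with rfl | hm
  · have : Subsingleton (Matrix.symplecticGroup (Fin 0) F) := ⟨fun a b => by
      apply Subtype.ext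
      ext i
      exact (i.elim (fun j => j.elim0) (fun j => j.elim0))⟩
    rw [Subsingleton.elim A 1]
    exact ⟨1, one_mem _, by simp⟩
  let π : Matrix.symplecticGroup (Fin m) F →* Cfsg.PSp m F := QuotientGroup.mk' _
  obtain ⟨g, hg⟩ := Cfsg.Agent.H507.GmnSp.conj_inv (F := F) (m := m) hr hr2 hrF (z := π A) (by rw [← map_pow, hA, map_one])
  obtain ⟨g, rfl⟩ := QuotientGroup.mk'_surjective _ g
  have h1 : g * A * g⁻¹ * A ∈ center (Matrix.symplecticGroup (Fin m) F) := by
    refine (QuotientGroup.eq_one_iff _).1 ?_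
    have h2 : π (g * A * g⁻¹ * A) = π g * π A * (π g)⁻¹ * π A := by simp only [map_mul, map_inv]
    have h3 : π g * π A * (π g)⁻¹ = (π A)⁻¹ := hg
    have h4 : π (g * A * g⁻¹ * A) = 1 := by rw [h2, h3, inv_mul_cancel]
    exact h4
  set x := g * A * g⁻¹ * A with hx
  obtain ⟨a, ha⟩ := (Cfsg.Agent.LieClassical.SympCenter.mem_center_iff m x).1 h1
  have ha2 : a * a = 1 := Cfsg.Agent.LieClassical.SympCenter.sq_eq_one_of_smul_mem hm (ha ▸ x.2)
  have hx2 : x ^ 2 = 1 := by
    apply Subtype.ext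
    change ((x ^ 2 : Matrix.symplecticGroup (Fin m) F) : Matrix (Fin m ⊕ Fin m) (Fin m ⊕ Fin m) F) = 1
    have ha' : (x : Matrix (Fin m ⊕ Fin m) (Fin m ⊕ Fin m) F) = a • 1 := ha
    rw [SubmonoidClass.coe_pow, ha', _root_.smul_pow, one_pow, pow_two, ha2, one_smul]
  have hcomm : Commute x A⁻¹ := (mem_center_iff.1 h1 A⁻¹).symm
  have h5 : g * A * g⁻¹ = x * A⁻¹ := by rw [hx]; group
  have h6 : (g * A * g⁻¹) ^ r = 1 := by rw [conj_pow, hA, mul_one, mul_inv_cancel]
  rw [h5, hcomm.mul_pow, inv_pow, hA, inv_one, mul_one] at h6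
  have h7 : x = 1 := by
    have hd := Nat.dvd_gcd (orderOf_dvd_of_pow_eq_one h6) (orderOf_dvd_of_pow_eq_one hx2)
    rw [(Nat.coprime_primes hr Nat.prime_two).2 hr2] at hd
    exact orderOf_eq_one_iff.1 (Nat.dvd_one.1 hd)
  refine ⟨Λ g, by rw [← hrg]; exact ⟨g, rfl⟩, ?_⟩
  rw [← map_inv, ← map_mul, ← map_mul, h5, h7, one_mul, map_inv]

/-- elements of the centre of `K` are not inverted in `Γ` -/
theorem Md.not_real [Finite Γ] [Nontrivial V] (T : Md F B Γ) (h2 : (2 : F) ≠ 0) (sm : Sm2 Γ) {K : Subgroup Γ} (hK : IsCarter K) {z : Γ}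
    (hz : K ≤ centralizer ({z} : Set Γ)) (hz2 : z ^ 2 ≠ 1) {g : Γ} (hg : g * z * g⁻¹ = z⁻¹) : False := by
  have hc : ∀ k ∈ K, k * z = z * k := fun k hk => mem_centralizer_singleton_iff.1 (hz hk)
  have h1 := sm.eq_of_conj (T.eps_comm) (T.orderOf_eps h2) hK hc (g := g) (by
    intro k hk
    rw [hg]
    exact (Commute.inv_right (hc k hk) : Commute k z⁻¹))
  apply hz2
  rw [pow_two]
  nth_rw 1 [← h1]
  rw [hg, inv_mul_cancel]

section

variable [Fintype F] [FiniteDimensional F V] [Finite Γ] [Nontrivial V]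

/-- the prime divisors of `|K ∩ L|` -/
theorem Md.primes (hB : Alt F B) (T : Md F B Γ) (h3 : (3 : F) = 0) (sm : Sm2 Γ) {K : Subgroup Γ} (hK : IsCarter K)
    {r : ℕ} (hr : r.Prime) (hd : r ∣ Nat.card ↥(K ⊓ T.L)) : r = 2 ∨ r = 3 := by
  by_contra hcon
  push Not at hcon
  haveI : Fact r.Prime := ⟨hr⟩
  obtain ⟨z, hzL, hzK, ho, hc⟩ := Cfsg.Agent.H381.Car.exists_central (S := T.L) hK.1 hd
  have hrF : (r : F) ≠ 0 := by
    intro h
    have hch : CharP F 3 := by
      have h1 : ringChar F ∣ 3 := (ringChar.spec F 3).1 (by exact_mod_cast h3)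
      have hne : ringChar F ≠ 1 := by
        intro h
        have := (ringChar.spec F 1).2 (by rw [h])
        exact one_ne_zero (by exact_mod_cast this)
      rcases (Nat.dvd_prime Nat.prime_three).1 h1 with h | h
      · exact absurd h hne
      · exact ringChar.of_eq h
    have := (CharP.cast_eq_zero_iff F 3 r).1 h
    exact hcon.2 ((Nat.prime_dvd_prime_iff_eq Nat.prime_three hr).1 this).symm
  obtain ⟨g, -, hg⟩ := T.real hB hr hcon.1 hrF hzL (by rw [← ho]; exact pow_orderOf_eq_one z)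
  refine T.not_real (two_ne h3) sm hK hc ?_ hg
  intro h
  have h4 := orderOf_dvd_of_pow_eq_one h
  rw [ho] at h4
  exact hcon.1 ((Nat.prime_dvd_prime_iff_eq hr Nat.prime_two).1 h4)

/-- **an element of order three in `Z(K) ∩ L`** -/
theorem Md.exists_three (hB : Alt F B) (T : Md F B Γ) (hFp : Cfsg.Agent.H381.Car.Fpf.{u}) (sm : Sm2 Γ) {f : ℕ}
    (hF : Fintype.card F = 3 ^ (2 * f + 1)) (h3 : (3 : F) = 0) {K : Subgroup Γ} (hK : IsCarter K) (hKL : K ⊔ T.L = ⊤) :
    ∃ z ∈ T.L, z ∈ K ∧ orderOf z = 3 ∧ K ≤ centralizer ({z} : Set Γ) := by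
  haveI : Fact (Nat.Prime 3) := ⟨Nat.prime_three⟩
  haveI : Fact (Nat.Prime 2) := ⟨Nat.prime_two⟩
  by_cases hd : 3 ∣ Nat.card ↥(K ⊓ T.L)
  · exact Cfsg.Agent.H381.Car.exists_central (S := T.L) hK.1 hd
  · exfalso
    refine Cfsg.Agent.H567.Ct.stepA hB T hFp sm hF hK hKL ?_
    rw [IsPGroup.iff_card]
    refine ⟨_, Nat.eq_prime_pow_of_unique_prime_dvd Nat.card_pos.ne' ?_⟩
    intro r hr hrd
    rcases T.primes hB h3 sm hK hr hrd with h | h
    · exact h
    · exact absurd (h ▸ hrd) hd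

/-- **the element `t`** -/
theorem Md.exists_t (hB : Alt F B) (T : Md F B Γ) (hFp : Cfsg.Agent.H381.Car.Fpf.{u}) (sm : Sm2 Γ) {f : ℕ}
    (hF : Fintype.card F = 3 ^ (2 * f + 1)) (h3 : (3 : F) = 0) (hd : 4 ≤ Module.finrank F V) {K : Subgroup Γ}
    (hK : IsCarter K) :
    ∃ t ∈ T.L, t ∈ K ∧ t ≠ 1 ∧ t ≠ T.eps ∧ (t * t = 1 ∨ t * t = T.eps) ∧
      ∀ k ∈ K, k * t = t * k ∨ k * t = T.eps * (t * k) := by
  haveI : Fact (Nat.Prime 3) := ⟨Nat.prime_three⟩
  haveI : Fact (Nat.Prime 2) := ⟨Nat.prime_two⟩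
  obtain ⟨x, hx, hxn⟩ : ∃ x ∈ K ⊓ T.L, ∀ k : ℕ, x ^ 3 ^ k ≠ 1 ∧ x ^ 3 ^ k ≠ T.eps := by
    by_contra hcon
    refine Cfsg.Agent.H274.Carter.stepB hB T hFp sm hF hd hK fun x hx => ?_
    by_contra h
    push Not at h
    exact hcon ⟨x, hx, h⟩
  -- `|K ∩ L| = 2 ^ a * 3 ^ b`
  obtain ⟨a, b, hab⟩ : ∃ a b : ℕ, Nat.card ↥(K ⊓ T.L) = 2 ^ a * 3 ^ b := by
    obtain ⟨a, m, hm, e⟩ := Nat.exists_eq_two_pow_mul_odd (n := Nat.card ↥(K ⊓ T.L)) Nat.card_pos.ne'
    have hm3 : m = 3 ^ m.primeFactorsList.length := by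
      refine Nat.eq_prime_pow_of_unique_prime_dvd (p := 3) (by rintro rfl; exact absurd hm (by decide)) ?_
      intro r hr hrd
      rcases T.primes hB h3 sm hK hr (e ▸ (hrd.mul_left _)) with h | h
      · exfalso
        rw [h] at hrd
        exact (Nat.not_even_iff_odd.2 hm) (even_iff_two_dvd.2 hrd)
      · exact h
    exact ⟨a, _, by rw [e]; congr 1⟩
  have hy : (x ^ 3 ^ b) ^ 2 ^ a = 1 := by
    have h1 : (⟨x, hx⟩ : ↥(K ⊓ T.L)) ^ Nat.card ↥(K ⊓ T.L) = 1 := pow_card_eq_one'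
    rw [hab] at h1
    have h2 := congrArg Subtype.val h1
    rw [← pow_mul, mul_comm]
    exact h2
  obtain ⟨hy1, hy2⟩ := hxn b
  set y := x ^ 3 ^ b with hyd
  have hyKL : y ∈ K ⊓ T.L := pow_mem hx _
  -- the quotient by `⟨-1⟩`
  have hZ : zpowers T.eps ≤ center Γ := by
    rw [zpowers_le, mem_center_iff]
    exact T.eps_comm
  haveI : (zpowers T.eps).Normal := ⟨fun n hn g => by
    rw [(mem_center_iff.1 (hZ hn)) g, mul_inv_cancel_right]
    exact hn⟩
  have hmem : ∀ g : Γ, g ∈ zpowers T.eps ↔ g = 1 ∨ g = T.eps := by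
    intro g
    constructor
    · rintro ⟨n, rfl⟩
      rcases Int.even_or_odd n with ⟨k, rfl⟩ | ⟨k, rfl⟩
      · left
        show T.eps ^ (k + k) = 1
        rw [zpow_add, ← (Commute.refl T.eps).mul_zpow, T.eps_sq, one_zpow]
      · right
        show T.eps ^ (2 * k + 1) = T.eps
        rw [zpow_add, zpow_one, two_mul, zpow_add, ← (Commute.refl T.eps).mul_zpow, T.eps_sq, one_zpow, one_mul]
    · rintro (rfl | rfl)
      · exact one_mem _
      · exact mem_zpowers _
  set q := QuotientGroup.mk' (zpowers T.eps) with hq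
  have hKe : zpowers T.eps ≤ K := hZ.trans (IsCarter.center_le hK)
  have hLe : zpowers T.eps ≤ T.L := by rw [zpowers_le]; exact T.eps_mem
  haveI : (T.L.map q).Normal := Normal.map inferInstance q (QuotientGroup.mk'_surjective _)
  have hnil : Group.IsNilpotent ↥(K.map q) := by
    have := hK.1
    exact Group.nilpotent_of_surjective (q.subgroupMap K) (q.subgroupMap_surjective K)
  have hdiv : 2 ∣ Nat.card ↥(K.map q ⊓ T.L.map q) := by
    have h1 : q y ∈ K.map q ⊓ T.L.map q := ⟨⟨y, hyKL.1, rfl⟩, ⟨y, hyKL.2, rfl⟩⟩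
    have h2 : orderOf (⟨q y, h1⟩ : ↥(K.map q ⊓ T.L.map q)) ∣ 2 ^ a := by
      apply orderOf_dvd_of_pow_eq_one
      apply Subtype.ext
      show (q y) ^ 2 ^ a = 1
      rw [← map_pow, hy, map_one]
    obtain ⟨j, -, hj⟩ := (Nat.dvd_prime_pow Nat.prime_two).1 h2
    have h4 : j ≠ 0 := by
      rintro rfl
      rw [pow_zero, orderOf_eq_one_iff] at hj
      have h5 : q y = 1 := congrArg Subtype.val hj
      rcases (hmem y).1 ((QuotientGroup.eq_one_iff y).1 h5) with h | h
      · exact hy1 h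
      · exact hy2 h
    have h5 : 2 ∣ orderOf (⟨q y, h1⟩ : ↥(K.map q ⊓ T.L.map q)) := by
      rw [hj]
      exact dvd_pow_self 2 h4
    exact h5.trans (_root_.orderOf_dvd_natCard _)
  obtain ⟨t', htL, htK, ho, hc⟩ := Cfsg.Agent.H381.Car.exists_central (S := T.L.map q) hnil hdiv
  obtain ⟨t, htK, rfl⟩ := htK
  have htL' : t ∈ T.L := by
    obtain ⟨l, hl, e⟩ := htL
    have h1 : l⁻¹ * t ∈ zpowers T.eps := QuotientGroup.eq.1 e
    have := mul_mem hl (hLe h1)
    rwa [mul_inv_cancel_left] at this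
  have hqt : q t ≠ 1 := by
    intro h
    rw [h, orderOf_one] at ho
    omega
  refine ⟨t, htL', htK, ?_, ?_, ?_, ?_⟩
  · rintro rfl
    exact hqt (map_one q)
  · rintro rfl
    exact hqt ((QuotientGroup.eq_one_iff _).2 (mem_zpowers _))
  · have h1 : q (t * t) = 1 := by
      rw [map_mul, ← pow_two, ← ho, pow_orderOf_eq_one]
    exact (hmem _).1 ((QuotientGroup.eq_one_iff _).1 h1)
  · intro k hk
    have h1 : q k ∈ centralizer ({q t} : Set (Γ ⧸ zpowers T.eps)) := hc ⟨k, hk, rfl⟩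
    rw [mem_centralizer_singleton_iff, ← map_mul, ← map_mul] at h1
    have h2 : (t * k)⁻¹ * (k * t) ∈ zpowers T.eps := QuotientGroup.eq.1 h1.symm
    rcases (hmem _).1 h2 with h | h
    · left
      exact (inv_mul_eq_one.1 h).symm
    · right
      rw [inv_mul_eq_iff_eq_mul] at h
      rw [h, T.eps_comm]

end

end Cfsg.Agent.H18.Carter
end

-- part: H18/Carter/SpMain
section
/-!
# S3852, rows `PSp₂ₙ(q)`, `q = 3^odd`, `|G : S|` odd: there are no Carter subgroups
-/

set_option autoImplicit false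
set_option linter.unusedSectionVars false
set_option linter.unusedVariables false
set_option linter.style.haveILetI false

namespace Cfsg.Agent.H18.Carter

open Subgroup Pointwise Module
open Cfsg.Agent.Solvable.Carter
open Cfsg.Agent.H721.FR Cfsg.Agent.H721.SR Cfsg.Agent.H18.Carter.Uni Cfsg.Agent.H955.FS

universe u

theorem even_of_sq_neg {F : Type} [Field F] {W : Type} [AddCommGroup W] [Module F W] [FiniteDimensional F W]
    (hns : ¬ IsSquare (-1 : F)) (J : W →ₗ[F] W) (hJ : ∀ w, J (J w) = -w) : Even (finrank F W) := by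
  by_contra hodd
  rw [Nat.not_even_iff_odd] at hodd
  apply hns
  refine ⟨LinearMap.det J, ?_⟩
  have h1 : J ∘ₗ J = (-1 : F) • LinearMap.id := by
    ext w
    simp [hJ]
  rw [← LinearMap.det_comp, h1, LinearMap.det_smul, LinearMap.det_id, mul_one, hodd.neg_one_pow]

theorem rank_one {F : Type} [Field F] {W : Type} [AddCommGroup W] [Module F W] [FiniteDimensional F W]
    (hd : finrank F W = 2) (N : W →ₗ[F] W) (hN : ∀ w, N (N (N w)) = 0) (h0 : N ≠ 0) :
    finrank F (LinearMap.range N) = 1 := by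
  have h1 : finrank F (LinearMap.range N) ≤ 2 := hd ▸ Submodule.finrank_le _
  have h2 : finrank F (LinearMap.range N) ≠ 0 := by
    intro h
    exact h0 (LinearMap.range_eq_bot.1 (Submodule.finrank_eq_zero.1 h))
  have h3 : finrank F (LinearMap.range N) ≠ 2 := by
    intro h
    have h4 : LinearMap.range N = ⊤ := Submodule.eq_top_of_finrank_eq (by rw [h, hd])
    have hs : Function.Surjective N := LinearMap.range_eq_top.1 h4
    apply h0
    ext w
    obtain ⟨x, hx⟩ := hs (N w)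
    obtain ⟨y, hy⟩ := hs w
    obtain ⟨a, ha⟩ := hs y
    rw [← hy, ← ha]
    exact hN a
  omega

variable {F : Type} [Field F] {V : Type} [AddCommGroup V] [Module F V] {B : V →ₗ[F] V →ₗ[F] F}
variable {Γ : Type u} [Group Γ] (T : Md F B Γ)

theorem Md.cube_apply {z : Γ} (hz : z ^ 3 = 1) (v : V) : T.ρ z (T.ρ z (T.ρ z v)) = v := by
  rw [← T.ρ_mul, ← T.ρ_mul, ← pow_three', hz, T.ρ_one]

theorem Md.cube_of {z : Γ} (h : ∀ v, T.ρ z (T.ρ z (T.ρ z v)) = v) : z ^ 3 = 1 := by
  apply T.ext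
  intro v
  rw [pow_three, T.ρ_mul, T.ρ_mul, h, T.ρ_one]

section

variable [Fintype F] [FiniteDimensional F V] [Finite Γ] [Nontrivial V]

theorem Md.false_of_even (hB : Alt F B) (T : Md F B Γ) (h3 : (3 : F) = 0) (sm : Sm2 Γ) {K : Subgroup Γ}
    (hK : IsCarter K) {z : Γ} (hzL : z ∈ T.L) (hz3 : z ^ 3 = 1) (hz1 : z ≠ 1) (hc : K ≤ centralizer ({z} : Set Γ))
    (he : Even (finrank F (LinearMap.range ((T.lin hzL : V →ₗ[F] V) - LinearMap.id)))) : False := by
  have hc' : T.lin hzL ∈ Isom B := mem_isom.2 (T.form_L hzL)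
  have hc3 : (T.lin hzL) ^ 3 = 1 := by
    refine LinearEquiv.ext fun v => ?_
    exact T.cube_apply hz3 v
  obtain ⟨h, hh, hhe⟩ := real_of_even h3 hB.alt hB.nd hc' hc3 (Or.inl he)
  obtain ⟨g, hg, hgh⟩ := T.exists_L h (mem_isom.1 hh)
  refine T.not_real (two_ne h3) sm hK hc ?_ (g := g) ?_
  · intro h2
    apply hz1
    have : z ^ 3 = z ^ 2 * z := pow_succ z 2
    rw [hz3, h2, one_mul] at this
    exact this.symm
  · have e1 : z * (g * z) = g := by
      apply T.ext
      intro v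
      rw [T.ρ_mul, T.ρ_mul, hgh, hgh]
      have e2 : T.lin hzL * (h * T.lin hzL) = h := by
        have e3 : h * T.lin hzL = (T.lin hzL)⁻¹ * h := mul_inv_eq_iff_eq_mul.1 hhe
        rw [e3, mul_inv_cancel_left]
      exact LinearEquiv.congr_fun e2 v
    rw [mul_inv_eq_iff_eq_mul, eq_inv_mul_iff_mul_eq, e1]

theorem Md.false_of_sq (hB : Alt F B) (T : Md F B Γ) (h3 : (3 : F) = 0) (hns : ¬ IsSquare (-1 : F)) (sm : Sm2 Γ)
    {K : Subgroup Γ} (hK : IsCarter K) {z : Γ} (hzL : z ∈ T.L) (hz3 : z ^ 3 = 1) (hz1 : z ≠ 1)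
    (hc : K ≤ centralizer ({z} : Set Γ)) {t : Γ} (htL : t ∈ T.L) (htK : t ∈ K) (ht : t * t = T.eps) : False := by
  refine T.false_of_even hB h3 sm hK hzL hz3 hz1 hc ?_
  have htz : t * z = z * t := mem_centralizer_singleton_iff.1 (hc htK)
  have hR : ∀ v ∈ LinearMap.range ((T.lin hzL : V →ₗ[F] V) - LinearMap.id),
      (T.lin htL : V →ₗ[F] V) v ∈ LinearMap.range ((T.lin hzL : V →ₗ[F] V) - LinearMap.id) := by
    rintro _ ⟨u, rfl⟩
    refine ⟨T.ρ t u, ?_⟩
    show T.ρ z (T.ρ t u) - T.ρ t u = T.lin htL (T.ρ z u - u)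
    rw [map_sub, Md.lin_apply, Md.lin_apply, ← T.ρ_mul, ← T.ρ_mul, htz]
  refine even_of_sq_neg hns ((T.lin htL : V →ₗ[F] V).restrict hR) fun w => ?_
  apply Subtype.ext
  show T.ρ t (T.ρ t w) = -(w : V)
  rw [← T.ρ_mul, ht, T.eps_apply]

/-- `z` preserves the eigenspaces -/
theorem Md.false_of_swap (hB : Alt F B) (T : Md F B Γ) (h3 : (3 : F) = 0) (sm : Sm2 Γ)
    {K : Subgroup Γ} (hK : IsCarter K) {z : Γ} (hzL : z ∈ T.L) (hz3 : z ^ 3 = 1) (hz1 : z ≠ 1)
    (hc : K ≤ centralizer ({z} : Set Γ)) {t : Γ} (htL : t ∈ T.L) (htK : t ∈ K) (ht : t * t = 1) {k : Γ} (hk : k ∈ K)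
    (hkt : k * t = T.eps * (t * k)) : False := by
  refine T.false_of_even hB h3 sm hK hzL hz3 hz1 hc ?_
  haveI : Finite V := Module.finite_of_finite F
  have h2 := two_ne h3
  have htz : t * z = z * t := mem_centralizer_singleton_iff.1 (hc htK)
  have hkz : k * z = z * k := mem_centralizer_singleton_iff.1 (hc hk)
  have htk : t * k = T.eps * (k * t) := by
    rw [hkt, ← mul_assoc, T.eps_sq, one_mul]
  set R := LinearMap.range ((T.lin hzL : V →ₗ[F] V) - LinearMap.id) with hRdef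
  have hRm : ∀ g : Γ, g * z = z * g → ∀ v ∈ R, T.ρ g v ∈ R := by
    rintro g hg _ ⟨u, rfl⟩
    refine ⟨T.ρ g u, ?_⟩
    show T.ρ z (T.ρ g u) - T.ρ g u = T.ρ g (T.ρ z u - u)
    rw [sub_eq_add_neg (T.ρ z u) u, T.add, T.ρ_neg, ← T.ρ_mul, ← T.ρ_mul, hg, sub_eq_add_neg]
  let P : Submodule F V := LinearMap.ker ((T.lin htL : V →ₗ[F] V) - LinearMap.id)
  let M : Submodule F V := LinearMap.ker ((T.lin htL : V →ₗ[F] V) + LinearMap.id)
  have hP : ∀ v, v ∈ P ↔ T.ρ t v = v := fun v => by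
    rw [LinearMap.mem_ker]
    exact sub_eq_zero
  have hM : ∀ v, v ∈ M ↔ T.ρ t v = -v := fun v => by
    rw [LinearMap.mem_ker]
    exact eq_neg_iff_add_eq_zero.symm
  have htt : ∀ v, T.ρ t (T.ρ t v) = v := fun v => by rw [← T.ρ_mul, ht, T.ρ_one]
  have hsup : (R ⊓ P) ⊔ (R ⊓ M) = R := by
    apply le_antisymm (sup_le inf_le_left inf_le_left)
    intro r hr
    have hr' := hRm t htz r hr
    have e : r = (2 : F)⁻¹ • (r + T.ρ t r) + (2 : F)⁻¹ • (r - T.ρ t r) := by
      rw [← smul_add]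
      have : r + T.ρ t r + (r - T.ρ t r) = (2 : F) • r := by rw [two_smul]; abel
      rw [this, smul_smul, inv_mul_cancel₀ h2, one_smul]
    rw [e]
    refine Submodule.add_mem_sup ⟨R.smul_mem _ (R.add_mem hr hr'), ?_⟩ ⟨R.smul_mem _ (R.sub_mem hr hr'), ?_⟩
    · refine P.smul_mem _ ((hP _).2 ?_)
      rw [T.add, htt, add_comm]
    · refine M.smul_mem _ ((hM _).2 ?_)
      rw [sub_eq_add_neg, T.add, T.ρ_neg, htt]
      abel
  have hinf : (R ⊓ P) ⊓ (R ⊓ M) = ⊥ := by
    rw [eq_bot_iff]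
    rintro v ⟨⟨_, h1⟩, _, h2'⟩
    have h5 := (hP v).1 h1
    have h6 := (hM v).1 h2'
    rw [h5] at h6
    have h7 : (2 : F) • v = 0 := by
      rw [two_smul]
      nth_rw 1 [h6]
      exact neg_add_cancel v
    exact (smul_eq_zero.1 h7).resolve_left h2
  have hdim := Submodule.finrank_sup_add_finrank_inf_eq (R ⊓ P) (R ⊓ M)
  rw [hsup, hinf, finrank_bot, add_zero] at hdim
  have hkP : ∀ v ∈ P, T.ρ k v ∈ M := by
    intro v hv
    rw [hM, ← T.ρ_mul, htk, T.ρ_mul, T.ρ_mul, (hP v).1 hv, T.eps_apply]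
  have hkM : ∀ v ∈ M, T.ρ k v ∈ P := by
    intro v hv
    rw [hP, ← T.ρ_mul, htk, T.ρ_mul, T.ρ_mul, (hM v).1 hv, T.eps_apply, T.ρ_neg, neg_neg]
  have hcard : Nat.card ↥(R ⊓ P) = Nat.card ↥(R ⊓ M) := by
    apply le_antisymm
    · refine Nat.card_le_card_of_injective (fun v => (⟨T.ρ k v, hRm k hkz v v.2.1, hkP v v.2.2⟩ : ↥(R ⊓ M))) ?_
      intro a b hab
      exact Subtype.ext ((T.ρ k).injective (congrArg Subtype.val hab))
    · refine Nat.card_le_card_of_injective (fun v => (⟨T.ρ k v, hRm k hkz v v.2.1, hkM v v.2.2⟩ : ↥(R ⊓ P))) ?_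
      intro a b hab
      exact Subtype.ext ((T.ρ k).injective (congrArg Subtype.val hab))
  rw [Module.natCard_eq_pow_finrank (K := F) (V := ↥(R ⊓ P)), Module.natCard_eq_pow_finrank (K := F) (V := ↥(R ⊓ M))] at hcard
  have h4 : finrank F ↥(R ⊓ P) = finrank F ↥(R ⊓ M) :=
    Nat.pow_right_injective (a := Nat.card F) Finite.one_lt_card hcard
  exact ⟨_, by rw [hdim, h4]⟩

end

/-- the elements `u` of order three in `Z(K)` acting trivially on `W^⊥` -/
theorem exists_u [Fintype F] [FiniteDimensional F V] [Finite Γ] (hB : Alt F B) (T : Md F B Γ)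
    (hFp : Cfsg.Agent.H381.Car.Fpf.{u}) (sm : Sm2 Γ) {f : ℕ}
    (hF : Fintype.card F = 3 ^ (2 * f + 1)) (h3 : (3 : F) = 0) {K : Subgroup Γ} (hK : IsCarter K) (hKL : K ⊔ T.L = ⊤)
    {W : Submodule F V} (hW : W ≠ ⊥) (hnd : NdOn B W) (hW1 : W ≠ ⊤) (hKW : K ≤ T.stab W) :
    ∃ u ∈ T.L, K ≤ centralizer ({u} : Set Γ) ∧ u ^ 3 = 1 ∧ (∀ v ∈ perp B W, T.ρ u v = v) ∧
      (∀ w ∈ W, T.ρ u w ∈ W) ∧ ∃ w ∈ W, T.ρ u w ≠ w := by
  haveI : Nontrivial W := Submodule.nontrivial_iff_ne_bot.2 hW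
  have hK' := carter_res T sm hB hW hnd hW1 hK hKW
  obtain ⟨z, hzL, hzK, ho, hc⟩ := (T.resMd hB W hW hnd).exists_three (hB.res hnd) hFp (sm_res T sm W) hF h3 hK'
    (sup_res T hB hW hnd hKL hKW)
  set T' := T.resMd hB W hW hnd with hT'
  obtain ⟨r, h1, h2, h4⟩ := exists_ext hB hnd (T'.lin hzL) (T'.form_L hzL)
  obtain ⟨u, huL, hu⟩ := T.exists_L r h1
  have hdec : ∀ v : V, ∃ (x : W) (y : perp B W), v = x + y := by
    intro v
    have : v ∈ W ⊔ perp B W := by rw [(hB.compl hnd).sup_eq_top]; exact Submodule.mem_top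
    obtain ⟨x, hx, y, hy, rfl⟩ := Submodule.mem_sup.1 this
    exact ⟨⟨x, hx⟩, ⟨y, hy⟩, rfl⟩
  have huW : ∀ w : W, T.ρ u w = ((T'.ρ z w : W) : V) := fun w => by rw [hu, h2]; rfl
  have huP : ∀ v ∈ perp B W, T.ρ u v = v := fun v hv => by rw [hu, h4 v hv]
  refine ⟨u, huL, ?_, ?_, huP, fun w hw => ?_, ?_⟩
  · intro k hk
    rw [mem_centralizer_singleton_iff]
    apply T.ext
    intro v
    obtain ⟨a, b, rfl⟩ := hdec v
    have hb : T.ρ k b ∈ perp B W := (T.stab_perp hB (hKW hk) b).2 b.2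
    have ha : T.ρ k a ∈ W := (hKW hk a).2 a.2
    have hkz : T.pr W ⟨k, hKW hk⟩ ∈ centralizer ({z} : Set (T.Q W)) := hc ⟨⟨k, hKW hk⟩, hk, rfl⟩
    rw [mem_centralizer_singleton_iff] at hkz
    have e1 := congrArg (fun g => ((T'.ρ g a : W) : V)) hkz
    simp only [T'.ρ_mul] at e1
    have hL : T.ρ (k * u) (a + b) = T.ρ k (T.ρ u a) + T.ρ k b := by
      rw [T.ρ_mul, T.add, T.add, huP b b.2]
    have hR : T.ρ (u * k) (a + b) = T.ρ u (T.ρ k a) + T.ρ k b := by
      rw [T.ρ_mul, T.add, T.add, huP _ hb]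
    rw [hL, hR]
    congr 1
    have e2 : T.ρ k (T.ρ u a) = ((T'.ρ (T.pr W ⟨k, hKW hk⟩) (T'.ρ z a) : W) : V) := by
      rw [huW]; rfl
    have e3 : T.ρ u (T.ρ k a) = ((T'.ρ z (T'.ρ (T.pr W ⟨k, hKW hk⟩) a) : W) : V) :=
      huW ⟨T.ρ k a, ha⟩
    rw [e2, e3]
    exact e1
  · apply T.cube_of
    intro v
    obtain ⟨a, b, rfl⟩ := hdec v
    have hz3 : z ^ 3 = 1 := by rw [← ho, pow_orderOf_eq_one]
    rw [T.add, T.add, T.add, huP b b.2, huP b b.2, huP b b.2, huW, huW, huW, T'.cube_apply hz3]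
  · rw [huW ⟨w, hw⟩]
    exact Subtype.mem _
  · by_contra hcon
    push Not at hcon
    have : z = 1 := by
      apply T'.ext
      intro w
      apply Subtype.ext
      rw [T'.ρ_one, ← huW, hcon w w.2]
    rw [this, orderOf_one] at ho
    omega

theorem even_dim [FiniteDimensional F V] (hB : Alt F B) : ∃ m, finrank F V = 2 * m := by
  obtain ⟨m, e, -⟩ := Cfsg.Agent.H567.Ct.exists_coords hB
  exact ⟨m, by rw [← e.finrank_eq, Module.finrank_fintype_fun_eq_card, Fintype.card_sum, Fintype.card_fin, two_mul]⟩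

/-- **no Carter subgroups** -/
theorem sp_main {F : Type} [Field F] [Fintype F] {f : ℕ} (hF : Fintype.card F = 3 ^ (2 * f + 1))
    (hFp : Cfsg.Agent.H381.Car.Fpf.{u}) :
    ∀ (d : ℕ) (V : Type) [AddCommGroup V] [Module F V] [FiniteDimensional F V] (B : V →ₗ[F] V →ₗ[F] F) (_ : Alt F B)
      (Γ : Type u) [Group Γ] [Finite Γ] (T : Md F B Γ) (_ : Sm2 Γ) (K : Subgroup Γ) (_ : IsCarter K)
      (_ : K ⊔ T.L = ⊤), finrank F V = d → 4 ≤ d → False := by
  haveI : Fact (Nat.Prime 3) := ⟨Nat.prime_three⟩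
  have h3 : (3 : F) = 0 := by
    have h1 : (Fintype.card F : F) = 0 := FiniteField.cast_card_eq_zero F
    rw [hF, Nat.cast_pow] at h1
    have h2 := (pow_eq_zero_iff (n := 2 * f + 1) (by omega)).1 h1
    exact_mod_cast h2
  have h2 := two_ne h3
  have hns : ¬ IsSquare (-1 : F) := by
    rw [FiniteField.isSquare_neg_one_iff, hF, not_not, pow_succ, pow_mul]
    have : (3 ^ 2) ^ f % 4 = 1 := by
      rw [Nat.pow_mod]
      norm_num
    omega
  intro d
  induction d using Nat.strong_induction_on with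
  | _ d IH =>
  intro V _ _ _ B hB Γ _ _ T sm K hK hKL hd hd4
  haveI : Nontrivial V := Module.nontrivial_of_finrank_pos (R := F) (by omega)
  obtain ⟨z, hzL, hzK, ho, hc⟩ := T.exists_three hB hFp sm hF h3 hK hKL
  have hz3 : z ^ 3 = 1 := by rw [← ho, pow_orderOf_eq_one]
  have hz1 : z ≠ 1 := by
    rintro rfl
    rw [orderOf_one] at ho
    omega
  obtain ⟨t, htL, htK, ht1, hte, htt, hkt⟩ := T.exists_t hB hFp sm hF h3 (by omega) hK
  rcases htt with htt | htt
  swap
  · exact T.false_of_sq hB h3 hns sm hK hzL hz3 hz1 hc htL htK htt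
  by_cases hsw : ∃ k ∈ K, k * t = T.eps * (t * k)
  · obtain ⟨k, hk, e⟩ := hsw
    exact T.false_of_swap hB h3 sm hK hzL hz3 hz1 hc htL htK htt hk e
  have hcomm : ∀ k ∈ K, k * t = t * k := fun k hk => (hkt k hk).resolve_right fun h => hsw ⟨k, hk, h⟩
  -- the eigenspaces
  let P : Submodule F V := LinearMap.ker ((T.lin htL : V →ₗ[F] V) - LinearMap.id)
  let M : Submodule F V := LinearMap.ker ((T.lin htL : V →ₗ[F] V) + LinearMap.id)
  have hP : ∀ v, v ∈ P ↔ T.ρ t v = v := fun v => by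
    rw [LinearMap.mem_ker]
    exact sub_eq_zero
  have hM : ∀ v, v ∈ M ↔ T.ρ t v = -v := fun v => by
    rw [LinearMap.mem_ker]
    exact eq_neg_iff_add_eq_zero.symm
  have httv : ∀ v, T.ρ t (T.ρ t v) = v := fun v => by rw [← T.ρ_mul, htt, T.ρ_one]
  have hinf : P ⊓ M = ⊥ := by
    rw [eq_bot_iff]
    rintro v ⟨h1, h2'⟩
    have h5 := (hP v).1 h1
    have h6 := (hM v).1 h2'
    rw [h5] at h6
    have h7 : (2 : F) • v = 0 := by
      rw [two_smul]
      nth_rw 1 [h6]
      exact neg_add_cancel v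
    exact (smul_eq_zero.1 h7).resolve_left h2
  have hplus : ∀ v, v + T.ρ t v ∈ P := fun v => by rw [hP, T.add, httv, add_comm]
  have hminus : ∀ v, v - T.ρ t v ∈ M := fun v => by
    rw [hM, sub_eq_add_neg, T.add, T.ρ_neg, httv]
    abel
  have hsup : P ⊔ M = ⊤ := by
    rw [eq_top_iff]
    intro r _
    have e : r = (2 : F)⁻¹ • (r + T.ρ t r) + (2 : F)⁻¹ • (r - T.ρ t r) := by
      rw [← smul_add]
      have : r + T.ρ t r + (r - T.ρ t r) = (2 : F) • r := by rw [two_smul]; abel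
      rw [this, smul_smul, inv_mul_cancel₀ h2, one_smul]
    rw [e]
    exact Submodule.add_mem_sup (P.smul_mem _ (hplus r)) (M.smul_mem _ (hminus r))
  have hPM : ∀ a ∈ P, ∀ b ∈ M, B a b = 0 := by
    intro a ha b hb
    have h1 := T.form_L htL a b
    rw [(hP a).1 ha, (hM b).1 hb, map_neg] at h1
    have h4 : (2 : F) * B a b = 0 := by linear_combination -h1
    exact (mul_eq_zero.1 h4).resolve_left h2
  have hMP : ∀ a ∈ M, ∀ b ∈ P, B a b = 0 := fun a ha b hb => by rw [hB.skew, hPM b hb a ha, neg_zero]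
  have hndP : NdOn B P := by
    intro x hx h
    apply hB.nd
    intro v
    have : v ∈ P ⊔ M := by rw [hsup]; exact Submodule.mem_top
    obtain ⟨a, ha, b, hb, rfl⟩ := Submodule.mem_sup.1 this
    rw [map_add, h a ha, hPM x hx b hb, add_zero]
  have hndM : NdOn B M := by
    intro x hx h
    apply hB.nd
    intro v
    have : v ∈ P ⊔ M := by rw [hsup]; exact Submodule.mem_top
    obtain ⟨a, ha, b, hb, rfl⟩ := Submodule.mem_sup.1 this
    rw [map_add, h b hb, hMP x hx a ha, add_zero]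
  have hP0 : P ≠ ⊥ := by
    intro h
    apply hte
    apply T.ext
    intro v
    have h1 := hplus v
    rw [h, Submodule.mem_bot] at h1
    rw [T.eps_apply]
    exact eq_neg_of_add_eq_zero_right h1
  have hM0 : M ≠ ⊥ := by
    intro h
    apply ht1
    apply T.ext
    intro v
    have h1 := hminus v
    rw [h, Submodule.mem_bot] at h1
    rw [T.ρ_one]
    exact (sub_eq_zero.1 h1).symm
  have hP1 : P ≠ ⊤ := by
    intro h
    rw [h, top_inf_eq] at hinf
    exact hM0 hinf
  have hM1 : M ≠ ⊤ := by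
    intro h
    rw [h, inf_top_eq] at hinf
    exact hP0 hinf
  haveI : Finite V := Module.finite_of_finite F
  have hKP : K ≤ T.stab P := by
    intro k hk
    apply T.mem_stab_of_le
    intro v hv
    rw [hP, ← T.ρ_mul, ← hcomm k hk, T.ρ_mul, (hP v).1 hv]
  have hKM : K ≤ T.stab M := by
    intro k hk
    apply T.mem_stab_of_le
    intro v hv
    rw [hM, ← T.ρ_mul, ← hcomm k hk, T.ρ_mul, (hM v).1 hv, T.ρ_neg]
  have hdim := Submodule.finrank_sup_add_finrank_inf_eq P M
  rw [hsup, hinf, finrank_bot, add_zero, finrank_top, hd] at hdim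
  obtain ⟨m1, hm1⟩ := even_dim (hB.res hndP)
  obtain ⟨m2, hm2⟩ := even_dim (hB.res hndM)
  have hp0 : 0 < finrank F P := Nat.pos_of_ne_zero fun h => hP0 (Submodule.finrank_eq_zero.1 h)
  have hm0 : 0 < finrank F M := Nat.pos_of_ne_zero fun h => hM0 (Submodule.finrank_eq_zero.1 h)
  by_cases hp4 : 4 ≤ finrank F P
  · exact IH (finrank F P) (by omega) P (Uni.res B P) (hB.res hndP) (T.Q P) (T.resMd hB P hP0 hndP) (sm_res T sm P) _
      (carter_res T sm hB hP0 hndP hP1 hK hKP) (sup_res T hB hP0 hndP hKL hKP) rfl hp4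
  by_cases hm4 : 4 ≤ finrank F M
  · exact IH (finrank F M) (by omega) M (Uni.res B M) (hB.res hndM) (T.Q M) (T.resMd hB M hM0 hndM) (sm_res T sm M) _
      (carter_res T sm hB hM0 hndM hM1 hK hKM) (sup_res T hB hM0 hndM hKL hKM) rfl hm4
  have hp2 : finrank F P = 2 := by omega
  have hm2' : finrank F M = 2 := by omega
  -- dimension four
  obtain ⟨u, huL, huK, hu3, huM, huP, a, haP, hau⟩ := exists_u hB T hFp sm hF h3 hK hKL hP0 hndP hP1 hKP
  obtain ⟨w, hwL, hwK, hw3, hwP, hwM, b, hbM, hbw⟩ := exists_u hB T hFp sm hF h3 hK hKL hM0 hndM hM1 hKM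
  have huM' : ∀ v ∈ M, T.ρ u v = v := fun v hv => huM v fun y hy => hPM y hy v hv
  have hwP' : ∀ v ∈ P, T.ρ w v = v := fun v hv => hwP v fun y hy => hMP y hy v hv
  have huwL : u * w ∈ T.L := mul_mem huL hwL
  have h1P : ∀ v ∈ P, T.ρ (u * w) v = T.ρ u v := fun v hv => by rw [T.ρ_mul, hwP' v hv]
  have h1M : ∀ v ∈ M, T.ρ (u * w) v = T.ρ w v := fun v hv => by rw [T.ρ_mul, huM' _ (hwM v hv)]
  have hcube : (u * w) ^ 3 = 1 := by
    apply T.cube_of
    intro v
    have : v ∈ P ⊔ M := by rw [hsup]; exact Submodule.mem_top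
    obtain ⟨x, hx, y, hy, rfl⟩ := Submodule.mem_sup.1 this
    rw [T.add, T.add, T.add, h1P x hx, h1P _ (huP x hx), h1P _ (huP _ (huP x hx)), h1M y hy, h1M _ (hwM y hy),
      h1M _ (hwM _ (hwM y hy)), T.cube_apply hu3, T.cube_apply hw3]
  have hne : u * w ≠ 1 := by
    intro h
    apply hau
    rw [← h1P a haP, h, T.ρ_one]
  have hcen : K ≤ centralizer ({u * w} : Set Γ) := by
    intro k hk
    have h1 : k * u = u * k := mem_centralizer_singleton_iff.1 (huK hk)
    have h4 : k * w = w * k := mem_centralizer_singleton_iff.1 (hwK hk)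
    rw [mem_centralizer_singleton_iff]
    exact (Commute.mul_right h1 h4 : Commute k (u * w))
  refine T.false_of_even hB h3 sm hK huwL hcube hne hcen ?_
  set N : V →ₗ[F] V := (T.lin huwL : V →ₗ[F] V) - LinearMap.id with hN
  have hNv : ∀ v, N v = T.ρ (u * w) v - v := fun v => rfl
  have hNP : ∀ v ∈ P, N v ∈ P := fun v hv => by
    rw [hNv, h1P v hv]
    exact P.sub_mem (huP v hv) hv
  have hNM : ∀ v ∈ M, N v ∈ M := fun v hv => by
    rw [hNv, h1M v hv]
    exact M.sub_mem (hwM v hv) hv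
  have hN3 : ∀ v, N (N (N v)) = 0 := by
    intro v
    have e1 := T.cube_apply hcube v
    have hs : ∀ x y, T.ρ (u * w) (x - y) = T.ρ (u * w) x - T.ρ (u * w) y := fun x y => by
      rw [sub_eq_add_neg, T.add, T.ρ_neg, ← sub_eq_add_neg]
    simp only [hNv, hs, e1]
    have h3v : ∀ x : V, x + x + x = 0 := by
      intro x
      have : (3 : F) • x = x + x + x := by
        rw [show (3 : F) = 1 + 1 + 1 by norm_num, add_smul, add_smul, one_smul]
      rw [← this, h3, zero_smul]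
    have h5 := h3v (T.ρ (u * w) (T.ρ (u * w) v))
    have h6 := h3v (T.ρ (u * w) v)
    calc _ = (T.ρ (u * w) v + T.ρ (u * w) v + T.ρ (u * w) v) -
        (T.ρ (u * w) (T.ρ (u * w) v) + T.ρ (u * w) (T.ρ (u * w) v) + T.ρ (u * w) (T.ρ (u * w) v)) := by abel
      _ = 0 := by rw [h5, h6, sub_zero]
  have hcompl : IsCompl P M := ⟨disjoint_iff.2 hinf, codisjoint_iff.2 hsup⟩
  rw [rank_add hcompl hNP hNM]
  have r1 : finrank F (LinearMap.range (N.restrict hNP)) = 1 := by
    refine rank_one hp2 _ (fun x => Subtype.ext (hN3 x)) ?_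
    intro h
    have h5 : (N.restrict hNP) ⟨a, haP⟩ = 0 := by rw [h]; rfl
    have h6 : N a = 0 := congrArg Subtype.val h5
    rw [hNv, h1P a haP, sub_eq_zero] at h6
    exact hau h6
  have r2 : finrank F (LinearMap.range (N.restrict hNM)) = 1 := by
    refine rank_one hm2' _ (fun x => Subtype.ext (hN3 x)) ?_
    intro h
    have h5 : (N.restrict hNM) ⟨b, hbM⟩ = 0 := by rw [h]; rfl
    have h6 : N b = 0 := congrArg Subtype.val h5
    rw [hNv, h1M b hbM, sub_eq_zero] at h6
    exact hbw h6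
  rw [r1, r2]
  exact ⟨1, rfl⟩

end Cfsg.Agent.H18.Carter
end
end

-- part: H502/Car/Torus
section
prune_inst 0x4545045005da2100000182010b2001e42f2000522004b080020600f060fc8ac6aa542ae61a8b005121a2288c52831006003100010426000000e000000011c018000011206b148a008820010000100000000000000000000000000000000010000000000000
set_option linter.all false
open scoped Cfsg.Agent.FastGrp

/-!
# Isometries with a given action on a totally singular subspace (helper502, S3852)

* `exists_lft` : `g ∈ GL(R)`, `R` totally singular, `det g` a square: `g` extends to an element of `E Q` acting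
  trivially on `R^⊥ / R`;
* `mem_E_of_ts` : `h ∈ O(Q)`, `h R = R`, `h` trivial on `R^⊥ / R`, `det (h | R)` a square: `h ∈ E Q`.
-/

set_option autoImplicit false
set_option linter.unusedSectionVars false

namespace Cfsg.Agent.H502.Car

open QuadraticMap Cfsg.Agent.LieClassical.OrthCore Cfsg.Agent.LieClassical.OrthTrans Cfsg.Agent.H749

section

variable {F : Type*} [Field F] {V : Type*} [AddCommGroup V] [Module F V] {Q : QuadraticForm F V}

/-! ### scaling a hyperbolic pair -/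

/-- the map `x ↦ c x`, `y ↦ d y`, identity on the perpendicular space -/
def hsLin (Q : QuadraticForm F V) (x y : V) (c d : F) : V →ₗ[F] V :=
  LinearMap.id + (c - 1) • (polarBilin Q y).smulRight x + (d - 1) • (polarBilin Q x).smulRight y

theorem hsLin_apply (x y : V) (c d : F) (v : V) :
    hsLin Q x y c d v = v + (c - 1) • polar Q y v • x + (d - 1) • polar Q x v • y := by
  simp only [hsLin, LinearMap.add_apply, LinearMap.id_apply, LinearMap.smul_apply,
    LinearMap.smulRight_apply, polarBilin_apply_apply]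

theorem hsLin_comp {x y : V} (h : Hyp Q x y) (c d c' d' : F) (v : V) :
    hsLin Q x y c d (hsLin Q x y c' d' v) = hsLin Q x y (c * c') (d * d') v := by
  have e1 := h.polar_left
  have e2 := h.polar_right
  have e3 := h.pair
  have e4 := h.pair'
  simp only [hsLin_apply, polar_add_right, polar_smul_right, e1, e2, e3, e4, smul_eq_mul, mul_zero, mul_one]
  module

/-- `x ↦ c x`, `y ↦ c⁻¹ y` -/
def hs {x y : V} (h : Hyp Q x y) {c : F} (hc : c ≠ 0) : V ≃ₗ[F] V :=
  LinearEquiv.ofLinearMap (hsLin Q x y c c⁻¹) (hsLin Q x y c⁻¹ c)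
    (by
      ext v
      rw [LinearMap.comp_apply, hsLin_comp h, mul_inv_cancel₀ hc, inv_mul_cancel₀ hc, hsLin_apply]
      simp)
    (by
      ext v
      rw [LinearMap.comp_apply, hsLin_comp h, mul_inv_cancel₀ hc, inv_mul_cancel₀ hc, hsLin_apply]
      simp)

theorem hs_apply {x y : V} (h : Hyp Q x y) {c : F} (hc : c ≠ 0) (v : V) :
    hs h hc v = v + (c - 1) • polar Q y v • x + (c⁻¹ - 1) • polar Q x v • y := hsLin_apply x y c c⁻¹ v

theorem hs_mem_O {x y : V} (h : Hyp Q x y) {c : F} (hc : c ≠ 0) : hs h hc ∈ O Q := by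
  intro v
  have e4 : polar Q v x = polar Q x v := polar_comm _ _ _
  have e5 : polar Q v y = polar Q y v := polar_comm _ _ _
  rw [hs_apply, add_assoc, Q_add, Q_add]
  simp only [QuadraticMap.map_smul, polar_add_right, polar_smul_right, polar_smul_left, h.left, h.right, h.pair,
    e4, e5, smul_eq_mul, mul_zero, mul_one]
  field_simp
  ring

theorem hs_sq_mem_E [FiniteDimensional F V] (hG : Good Q) {x y : V} (h : Hyp Q x y) {c : F} (hc : c ≠ 0) :
    hs h hc * hs h hc ∈ E Q := sq_mem_E hG (hs_mem_O h hc)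

theorem hs_sq_apply {x y : V} (h : Hyp Q x y) {c : F} (hc : c ≠ 0) (v : V) :
    (hs h hc * hs h hc) v = v + (c * c - 1) • polar Q y v • x + (c⁻¹ * c⁻¹ - 1) • polar Q x v • y := by
  have e : (hs h hc * hs h hc) v = hsLin Q x y c c⁻¹ (hsLin Q x y c c⁻¹ v) := rfl
  rw [e, hsLin_comp h, hsLin_apply]

/-! ### dual vectors -/

theorem polar_surj [FiniteDimensional F V] (hQ : Nondeg Q) (f : V →ₗ[F] F) : ∃ w, ∀ v, polar Q w v = f v := by
  have hinj : Function.Injective (polarBilin Q) := by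
    rw [injective_iff_map_eq_zero]
    intro u hu
    apply hQ
    intro w
    exact LinearMap.congr_fun hu w
  have hsurj : Function.Surjective (polarBilin Q) := by
    have h1 : Module.finrank F V = Module.finrank F (V →ₗ[F] F) := (Subspace.dual_finrank_eq (K := F) (V := V)).symm
    exact (LinearMap.injective_iff_surjective_of_finrank_eq_finrank h1).1 hinj
  obtain ⟨w, hw⟩ := hsurj f
  exact ⟨w, fun v => LinearMap.congr_fun hw v⟩

theorem polar_surj_sub [FiniteDimensional F V] (hQ : Nondeg Q) {R : Submodule F V} (f : R →ₗ[F] F) :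
    ∃ w, ∀ r : R, polar Q w r = f r := by
  obtain ⟨g, hg⟩ := LinearMap.exists_extend f
  obtain ⟨w, hw⟩ := polar_surj hQ g
  exact ⟨w, fun r => by rw [hw, ← hg]; rfl⟩

/-- the partner of a singular vector, perpendicular to `P` -/
theorem exists_partner [FiniteDimensional F V] (hQ : Nondeg Q) {P : Submodule F V} {x : V} (hx : x ∉ P) (hx0 : Q x = 0)
    (hxP : ∀ w ∈ P, polar Q w x = 0) : ∃ y, Hyp Q x y ∧ ∀ w ∈ P, polar Q w y = 0 := by
  obtain ⟨f, hfx, hfP⟩ := Submodule.exists_le_ker_of_notMem hx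
  obtain ⟨v, hv⟩ := polar_surj hQ ((f x)⁻¹ • f)
  have h1 : polar Q v x = 1 := by
    rw [hv, LinearMap.smul_apply, smul_eq_mul, inv_mul_cancel₀ hfx]
  have hvP : ∀ w ∈ P, polar Q w v = 0 := fun w hw => by
    have h2 : f w = 0 := hfP hw
    rw [polar_comm, hv, LinearMap.smul_apply, h2, smul_zero]
  refine ⟨v - Q v • x, ⟨hx0, ?_, ?_⟩, fun w hw => ?_⟩
  · rw [sub_eq_add_neg, ← neg_smul, Q_add, QuadraticMap.map_smul, hx0, polar_smul_right, h1, smul_eq_mul, smul_eq_mul]
    ring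
  · rw [polar_sub_right, polar_smul_right, polar_self_of_sing hx0, polar_comm, h1, smul_zero, sub_zero]
  · rw [polar_sub_right, polar_smul_right, hvP w hw, hxP w hw, smul_zero, sub_zero]

/-! ### liftable elements -/

/-- `R` is totally singular -/
def Ts (Q : QuadraticForm F V) (R : Submodule F V) : Prop := ∀ r ∈ R, Q r = 0

theorem Ts.polar {R : Submodule F V} (h : Ts Q R) {r s : V} (hr : r ∈ R) (hs : s ∈ R) : polar Q r s = 0 := by
  have h1 := h _ (R.add_mem hr hs)
  rw [Q_add, h _ hr, h _ hs, zero_add, zero_add] at h1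
  exact h1

/-- `g` extends to an element of `E Q` acting trivially on `R^⊥ / R` -/
def Lft (Q : QuadraticForm F V) (R : Submodule F V) (g : R →ₗ[F] R) : Prop :=
  ∃ h ∈ E Q, (∀ r : R, h r = g r) ∧ ∀ v, (∀ r ∈ R, QuadraticMap.polar Q r v = 0) → h v - v ∈ R

theorem Lft.one (R : Submodule F V) : Lft Q R LinearMap.id :=
  ⟨1, one_mem _, fun _ => rfl, fun v _ => by
    have : (1 : V ≃ₗ[F] V) v = v := rfl
    rw [this, sub_self]; exact R.zero_mem⟩

theorem Lft.mul {R : Submodule F V} {g g' : R →ₗ[F] R} (h : Lft Q R g) (h' : Lft Q R g') :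
    Lft Q R (g.comp g') := by
  obtain ⟨x, hx, h1, h2⟩ := h
  obtain ⟨x', hx', h1', h2'⟩ := h'
  refine ⟨x * x', mul_mem hx hx', fun r => ?_, fun v hv => ?_⟩
  · show x (x' r) = _
    rw [h1', h1]; rfl
  · show x (x' v) - v ∈ R
    have e : x (x' v) - v = x (x' v - v) + (x v - v) := by rw [map_sub]; abel
    rw [e]
    refine R.add_mem ?_ (h2 v hv)
    have := h1 ⟨_, h2' v hv⟩
    rw [this]
    exact (g _).2

theorem lft_transvection [FiniteDimensional F V] (hG : Good Q) {R : Submodule F V} (hR : Ts Q R) (f : R →ₗ[F] F) (u : R)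
    (hu : f u = 0) : Lft Q R (LinearMap.id + f.smulRight u) := by
  obtain ⟨w, hw⟩ := polar_surj_sub hG.nondeg (-f)
  have hu0 : Q (u : V) = 0 := hR _ u.2
  have hwu : polar Q (u : V) w = 0 := by
    rw [polar_comm, hw, LinearMap.neg_apply, hu, neg_zero]
  refine ⟨siegel Q u w hu0 hwu, siegel_mem_E hu0 hwu, fun r => ?_, fun v hv => ?_⟩
  · rw [siegel_apply, hR.polar u.2 r.2, hw, LinearMap.neg_apply]
    show _ = ((r + f r • u : R) : V)
    rw [Submodule.coe_add, Submodule.coe_smul]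
    module
  · rw [siegel_apply, hv _ u.2]
    have e : v + (0 : F) • w - polar Q w v • (u : V) - (Q w * 0) • (u : V) - v = (-polar Q w v) • (u : V) := by module
    rw [e]
    exact R.smul_mem _ u.2

theorem lft_scale [FiniteDimensional F V] (hG : Good Q) {R : Submodule F V} (hR : Ts Q R) (f : R →ₗ[F] F) (u : R)
    (hu : f u = 1) {c : F} (hc : c ≠ 0) : Lft Q R (LinearMap.id + (c * c - 1) • f.smulRight u) := by
  have hu0 : Q (u : V) = 0 := hR _ u.2
  have hx : (u : V) ∉ (LinearMap.ker f).map R.subtype := by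
    rintro ⟨w, hw, e⟩
    have : w = u := Subtype.ext e
    rw [this] at hw
    have h1 : f u = 0 := hw
    rw [hu] at h1
    exact one_ne_zero h1
  obtain ⟨y, hy, hyP⟩ := exists_partner hG.nondeg hx hu0 (by
    rintro _ ⟨w, -, rfl⟩
    exact hR.polar w.2 u.2)
  have hyr : ∀ r : R, polar Q y r = f r := by
    intro r
    have h1 : (r - f r • u : R) ∈ LinearMap.ker f := by
      rw [LinearMap.mem_ker, map_sub, map_smul, hu, smul_eq_mul, mul_one, sub_self]
    have h2 := hyP _ ⟨_, h1, rfl⟩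
    have h3 : (R.subtype (r - f r • u) : V) = (r : V) - f r • (u : V) := rfl
    rw [h3, polar_sub_left, polar_smul_left, hy.pair, smul_eq_mul, mul_one, sub_eq_zero] at h2
    rw [polar_comm]; exact h2
  refine ⟨_, hs_sq_mem_E hG hy hc, fun r => ?_, fun v hv => ?_⟩
  · rw [hs_sq_apply, hyr, hR.polar u.2 r.2]
    show _ = ((r + (c * c - 1) • (f r • u) : R) : V)
    rw [Submodule.coe_add, Submodule.coe_smul, Submodule.coe_smul]
    module
  · rw [hs_sq_apply, hv _ u.2]
    have e : v + (c * c - 1) • polar Q y v • (u : V) + (c⁻¹ * c⁻¹ - 1) • (0 : F) • y - v =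
      ((c * c - 1) * polar Q y v) • (u : V) := by module
    rw [e]
    exact R.smul_mem _ u.2

theorem Lft.inv {R : Submodule F V} {g g' : R →ₗ[F] R} (h : Lft Q R g) (e1 : g.comp g' = LinearMap.id)
    (e2 : g'.comp g = LinearMap.id) : Lft Q R g' := by
  obtain ⟨x, hx, h1, h2⟩ := h
  have h3 : ∀ r : R, x⁻¹ (r : V) = g' r := by
    intro r
    have h4 : x (g' r) = r := by
      rw [h1]
      exact congrArg Subtype.val (LinearMap.congr_fun e1 r)
    rw [← h4]
    show x.symm (x (g' r : V)) = _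
    rw [LinearEquiv.symm_apply_apply]
  refine ⟨x⁻¹, inv_mem hx, h3, fun v hv => ?_⟩
  have e : x⁻¹ v - v = -(x⁻¹ (x v - v)) := by
    rw [map_sub]
    have : x⁻¹ (x v) = v := x.symm_apply_apply v
    rw [this]; abel
  rw [e]
  have h5 := h3 ⟨_, h2 v hv⟩
  have h6 : x⁻¹ (x v - v) = g' ⟨x v - v, h2 v hv⟩ := h5
  rw [h6]
  exact R.neg_mem (g' _).2

/-- elements of `GL(R)` with square determinant extend to `E Q` -/
theorem exists_lft [FiniteDimensional F V] (hG : Good Q) {R : Submodule F V} (hR : Ts Q R) (g : R →ₗ[F] R)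
    (hg : ∃ c : F, c ≠ 0 ∧ LinearMap.det g = c * c) : Lft Q R g := by
  obtain ⟨c, hc, hdet⟩ := hg
  obtain ⟨b, -⟩ : ∃ b : Module.Basis (Fin (Module.finrank F R)) F R, b = Module.finBasis F R := ⟨_, rfl⟩
  have key : ∀ A : Matrix.SpecialLinearGroup (Fin (Module.finrank F R)) F,
      Lft Q R (Matrix.toLin b b (A : Matrix _ _ F)) := by
    intro A
    have hA : A ∈ Subgroup.closure
        (Cfsg.Agent.LieClassical.SLGen.transvections (Fin (Module.finrank F R)) F) := by
      rw [Cfsg.Agent.LieClassical.SLGen.closure_transvections]; trivial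
    induction hA using Subgroup.closure_induction with
    | mem A hA =>
      obtain ⟨i, j, hij, a, rfl⟩ := hA
      have h1 := lft_transvection hG hR (b.coord j) (a • b i) (by
        rw [map_smul, Module.Basis.coord_apply, b.repr_self, Finsupp.single_eq_of_ne hij.symm, smul_zero])
      convert h1 using 1
      apply b.ext
      intro k
      rw [Matrix.toLin_self]
      have e : ∀ l, ((Matrix.SpecialLinearGroup.transvection hij a : Matrix.SpecialLinearGroup _ F) :
          Matrix (Fin (Module.finrank F R)) (Fin (Module.finrank F R)) F) l k =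
          (1 : Matrix _ _ F) l k + Matrix.single i j a l k := fun l => rfl
      simp only [e, add_smul, Finset.sum_add_distrib]
      rw [LinearMap.add_apply, LinearMap.id_apply, LinearMap.smulRight_apply, Module.Basis.coord_apply, b.repr_self]
      congr 1
      · rw [Finset.sum_eq_single k]
        · rw [Matrix.one_apply_eq, one_smul]
        · intro l _ hl
          rw [Matrix.one_apply_ne hl, zero_smul]
        · intro h; exact absurd (Finset.mem_univ k) h
      · by_cases hk : j = k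
        · subst hk
          rw [Finsupp.single_eq_same, one_smul, Finset.sum_eq_single i]
          · rw [Matrix.single_apply_same]
          · intro l _ hl
            rw [Matrix.single_apply_of_row_ne hl.symm, zero_smul]
          · intro h; exact absurd (Finset.mem_univ i) h
        · rw [Finsupp.single_eq_of_ne hk, zero_smul]
          apply Finset.sum_eq_zero
          intro l _
          rw [Matrix.single_apply_of_col_ne _ _ hk, zero_smul]
    | one =>
      have e : Matrix.toLin b b ((1 : Matrix.SpecialLinearGroup (Fin (Module.finrank F R)) F) : Matrix _ _ F)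
          = LinearMap.id := by
        rw [Matrix.SpecialLinearGroup.coe_one, Matrix.toLin_one]
      rw [e]; exact Lft.one R
    | mul A B _ _ h1 h2 =>
      rw [Matrix.SpecialLinearGroup.coe_mul, Matrix.toLin_mul b b b]
      exact h1.mul h2
    | inv A _ h =>
      refine h.inv ?_ ?_
      · rw [← Matrix.toLin_mul, ← Matrix.SpecialLinearGroup.coe_mul, mul_inv_cancel,
          Matrix.SpecialLinearGroup.coe_one, Matrix.toLin_one]
      · rw [← Matrix.toLin_mul, ← Matrix.SpecialLinearGroup.coe_mul, inv_mul_cancel,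
          Matrix.SpecialLinearGroup.coe_one, Matrix.toLin_one]
  have key' : ∀ g : R →ₗ[F] R, LinearMap.det g = 1 → Lft Q R g := by
    intro g hg
    have h1 := key ⟨LinearMap.toMatrix b b g, by rw [LinearMap.det_toMatrix]; exact hg⟩
    rwa [Matrix.toLin_toMatrix] at h1
  rcases Nat.eq_zero_or_pos (Module.finrank F R) with h0 | h0
  · apply key'
    rw [LinearMap.det_eq_one_of_finrank_eq_zero h0]
  · let i0 : Fin (Module.finrank F R) := ⟨0, h0⟩
    have hu : b.coord i0 (b i0) = 1 := by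
      rw [Module.Basis.coord_apply, b.repr_self, Finsupp.single_eq_same]
    have e1 : ∀ x y : F, (LinearMap.id + x • (b.coord i0).smulRight (b i0)).comp
        (LinearMap.id + y • (b.coord i0).smulRight (b i0)) =
        LinearMap.id + (x + y + x * y) • (b.coord i0).smulRight (b i0) := by
      intro x y
      ext r
      simp only [LinearMap.comp_apply, LinearMap.add_apply, LinearMap.id_apply, LinearMap.smul_apply,
        LinearMap.smulRight_apply, map_add, map_smul, hu, smul_eq_mul, mul_one]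
      push_cast
      module
    have e2 : ∀ x : F, LinearMap.det (LinearMap.id + x • (b.coord i0).smulRight (b i0)) = 1 + x := by
      intro x
      have h1 := LinearMap.transvection.det (b.coord i0) (x • b i0)
      rw [map_smul, hu, smul_eq_mul, mul_one] at h1
      rw [← h1]
      congr 1
      ext r
      simp only [LinearMap.add_apply, LinearMap.id_apply, LinearMap.smul_apply, LinearMap.smulRight_apply,
        LinearMap.transvection.apply]
      rw [smul_comm]
    have h1 := lft_scale hG hR (b.coord i0) (b i0) hu hc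
    have h2 := key' (g.comp (LinearMap.id + (c⁻¹ * c⁻¹ - 1) • (b.coord i0).smulRight (b i0))) (by
      rw [LinearMap.det_comp, e2, hdet]
      field_simp
      ring)
    have h3 := h2.mul h1
    rw [LinearMap.comp_assoc, e1] at h3
    have e3 : c⁻¹ * c⁻¹ - 1 + (c * c - 1) + (c⁻¹ * c⁻¹ - 1) * (c * c - 1) = 0 := by
      field_simp
      ring
    rw [e3, zero_smul, add_zero, LinearMap.comp_id] at h3
    exact h3

end

end Cfsg.Agent.H502.Car

private theorem dce_0c0f4679d5ef : _root_.True := by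
  try have : _root_.True := by simp only [_root_.Cfsg.Agent.H502.Car.hsLin.eq_1]
  exact _root_.True.intro
end

-- part: H502/Car/Kill
section
prune_inst 0x44460404009c012000018251020000204500005200000080008200e040200a26a25028840008001021222800120010000030000100240000004000000000101000000120400400108a20018000100000000000000000000000000000000010000000000000
set_option linter.all false
open scoped Cfsg.Agent.FastGrp

-- part: H502/Car/Abs
section
/-!
# A central involution of a Carter subgroup in a coset of a `p`-subgroup (helper502, S3852)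
-/

set_option autoImplicit false
set_option linter.unusedSectionVars false

namespace Cfsg.Agent.H502.Car

open Subgroup Pointwise Cfsg.Agent.Solvable.Carter Cfsg.Agent.H18.Carter Cfsg.Agent.H381.Car

universe u

section

variable {G : Type u} [Group G] [Finite G]

/-- in a nilpotent group a `2`-element whose commutator with `k` is a `p`-element commutes with `k` -/
theorem conj_eq_of_nilpotent {K U : Subgroup G} (hK : Group.IsNilpotent K) {l p : ℕ} [hl : Fact l.Prime]
    [hp : Fact p.Prime] (hlp : l ≠ p) (hU : IsPGroup p U) {x k : G} (hx : x ∈ K) (hk : k ∈ K) {n : ℕ}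
    (hxn : x ^ l ^ n = 1) (hc : x⁻¹ * (k * x * k⁻¹) ∈ U) : k * x * k⁻¹ = x := by
  haveI := hK
  have h1 : IsPGroup l (zpowers (⟨x, hx⟩ : K)) := by
    rintro ⟨y, hy⟩
    obtain ⟨i, rfl⟩ := mem_zpowers_iff.1 hy
    refine ⟨n, ?_⟩
    apply Subtype.ext
    apply Subtype.ext
    show (x ^ i) ^ l ^ n = 1
    rw [← zpow_natCast, ← zpow_mul, mul_comm, zpow_mul, zpow_natCast, hxn, one_zpow]
  obtain ⟨P, hP⟩ := h1.exists_le_sylow
  have hPn : (P : Subgroup K).Normal := by
    have h := ((Group.isNilpotent_of_finite_tfae (G := K)).out 0 3).mp hK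
    exact h l hl P
  have h2 : (⟨x, hx⟩ : K) ∈ (P : Subgroup K) := hP (mem_zpowers _)
  have h3 : (⟨x, hx⟩ : K)⁻¹ * (⟨k, hk⟩ * ⟨x, hx⟩ * (⟨k, hk⟩ : K)⁻¹) ∈ (P : Subgroup K) :=
    mul_mem (inv_mem h2) (hPn.conj_mem _ h2 _)
  obtain ⟨a, ha⟩ := P.2 ⟨_, h3⟩
  have ha' : (x⁻¹ * (k * x * k⁻¹)) ^ l ^ a = 1 := congrArg (fun y => ((y : K) : G)) (congrArg Subtype.val ha)
  obtain ⟨b, hb⟩ := hU ⟨_, hc⟩
  have hb' : (x⁻¹ * (k * x * k⁻¹)) ^ p ^ b = 1 := congrArg Subtype.val hb
  have h4 : Nat.Coprime (l ^ a) (p ^ b) :=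
    Nat.Coprime.pow _ _ ((Nat.coprime_primes hl.out hp.out).2 hlp)
  have h5 : orderOf (x⁻¹ * (k * x * k⁻¹)) ∣ Nat.gcd (l ^ a) (p ^ b) :=
    Nat.dvd_gcd (orderOf_dvd_of_pow_eq_one ha') (orderOf_dvd_of_pow_eq_one hb')
  rw [h4] at h5
  have h6 : x⁻¹ * (k * x * k⁻¹) = 1 := by
    rw [← orderOf_eq_one_iff]; exact Nat.dvd_one.1 h5
  rw [inv_mul_eq_one] at h6
  exact h6.symm

/-- `t² ∈ U`, `[t, K] ≤ U`, `U` a `K`-invariant `p`-group: there is an involution (or `1`) in `t U` centralised by `K`. -/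
theorem exists_inv {K U : Subgroup G} (hK : IsCarter K) {p : ℕ} [hp : Fact p.Prime] (hp2 : p ≠ 2)
    (hU : IsPGroup p U) (hKU : K ≤ normalizer (U : Set G)) (hCC : CC ↥(K ⊔ U)) {t : G}
    (htU : t ∈ normalizer (U : Set G)) (ht2 : t * t ∈ U) (hc : ∀ k ∈ K, t * k * t⁻¹ * k⁻¹ ∈ U) :
    ∃ x ∈ K, x * x = 1 ∧ t⁻¹ * x ∈ U ∧ ∀ k ∈ K, k * x * k⁻¹ = x := by
  haveI : Fact (Nat.Prime 2) := ⟨Nat.prime_two⟩
  have ht : t ∈ K ⊔ U := w_principle_of hCC hK htU hc
  have ht' : t ∈ ((K ⊔ U : Subgroup G) : Set G) := ht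
  rw [coe_mul_of_left_le_normalizer_right K U hKU] at ht'
  obtain ⟨y, hy, u, hu, e⟩ := ht'
  have hyt : t⁻¹ * y ∈ U := by
    have e1 : t⁻¹ * y = u⁻¹ := by rw [← e]; group
    rw [e1]; exact inv_mem hu
  -- the powers of `y`
  have hN : ∀ n : ℕ, (t ^ n)⁻¹ * y ^ n ∈ U := by
    intro n
    induction n with
    | zero => simp
    | succ n ih =>
      have e1 : (t ^ (n + 1))⁻¹ * y ^ (n + 1) = (t⁻¹ * ((t ^ n)⁻¹ * y ^ n) * t⁻¹⁻¹) * (t⁻¹ * y) := by
        rw [pow_succ t, pow_succ y, mul_inv_rev]; group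
      rw [e1]
      refine mul_mem ?_ hyt
      exact (mem_normalizer_iff.1 (inv_mem htU) _).1 ih
  have ht2n : ∀ n : ℕ, (t * t) ^ n ∈ U := fun n => pow_mem ht2 n
  have hy2 : y * y ∈ U := by
    have h1 := hN 2
    rw [pow_two, pow_two] at h1
    have e1 : y * y = (t * t) * ((t * t)⁻¹ * (y * y)) := by group
    rw [e1]; exact mul_mem ht2 h1
  obtain ⟨n, hn⟩ := hU ⟨_, hy2⟩
  have hn' : (y * y) ^ p ^ n = 1 := congrArg Subtype.val hn
  have hodd : Odd (p ^ n) := (hp.out.odd_of_ne_two hp2).pow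
  obtain ⟨m, hm⟩ := hodd
  have hx2 : y ^ p ^ n * y ^ p ^ n = 1 := by
    rw [← hn', ← pow_two, ← pow_two, ← pow_mul, ← pow_mul, mul_comm]
  have hxU : t⁻¹ * y ^ p ^ n ∈ U := by
    have e1 : t⁻¹ * y ^ p ^ n = (t * t) ^ m * ((t ^ p ^ n)⁻¹ * y ^ p ^ n) := by
      rw [hm, ← pow_two, ← pow_mul, ← mul_assoc]
      congr 1
      rw [eq_mul_inv_iff_mul_eq, pow_succ', inv_mul_cancel_left]
    rw [e1]
    exact mul_mem (ht2n m) (hN _)
  refine ⟨y ^ p ^ n, pow_mem hy _, hx2, hxU, fun k hk => ?_⟩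
  refine conj_eq_of_nilpotent (l := 2) (n := 1) hK.1 (Ne.symm hp2) hU (pow_mem hy _) hk
    (by rw [pow_one, pow_two]; exact hx2) ?_
  -- `x⁻¹ k x k⁻¹ ∈ U`
  obtain ⟨x, hx⟩ : ∃ x, x = y ^ p ^ n := ⟨_, rfl⟩
  rw [← hx] at hxU ⊢
  have hk' : k ∈ normalizer (U : Set G) := hKU hk
  have h1 : k * (t⁻¹ * x) * k⁻¹ ∈ U := (mem_normalizer_iff.1 hk' _).1 hxU
  have h2 : t * k * t⁻¹ * k⁻¹ ∈ U := hc k hk
  have e1 : x⁻¹ * (k * x * k⁻¹) = (t⁻¹ * x)⁻¹ * ((t⁻¹ * (t * k * t⁻¹ * k⁻¹)⁻¹ * t⁻¹⁻¹) * (k * (t⁻¹ * x) * k⁻¹)) := by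
    group
  rw [e1]
  exact mul_mem (inv_mem hxU) (mul_mem ((mem_normalizer_iff.1 (inv_mem htU) _).1 (inv_mem h2)) h1)

end

end Cfsg.Agent.H502.Car
end

-- part: H502/Car/Lift
section
/-!
# Almost simple groups with socle `P Q = E Q / Z(E Q)` and semisimilitudes (helper502, S3852)

`S` normal in `G`, `e : S ≃* P Q`.

* `act e : G →* MulAut (P Q)`; `Lf e g M` : the semisimilitude `M` induces the automorphism `g`;
* `el e : E Q →* G`, with image `S`; `Lf.conj : g * el e x * g⁻¹ = el e (conjE Q M x)`;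
* elements of odd order lift uniquely: `exists_lift_odd`, `eq_of_el_eq`;
* `Fx e K x` : all lifts of elements of `K` commute with `x ∈ E Q`; `Iv e K W` : they preserve the subspace `W`;
* `mem_of_fx`, `eq_of_conj` : the lifted versions of `C_G(K) ≤ K` and of (A1).
-/

set_option autoImplicit false
set_option linter.unusedSectionVars false

namespace Cfsg.Agent.H502.Car

open QuadraticMap Cfsg.Agent.LieClassical.OrthCore Cfsg.Agent.LieClassical.OrthTrans
  Cfsg.Agent.LieClassical.OrthSimple Cfsg.Agent.ClassicalGeometry.OrthSemi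
  Cfsg.Agent.ClassicalGeometry.OrthAut1 Cfsg.Agent.H989.OutOrth.Basic
open Subgroup Pointwise Cfsg.Agent.Solvable.Carter Cfsg.Agent.H18.Carter Cfsg.Agent.H381.Car

universe u

variable {F V : Type*} [Field F] [AddCommGroup V] [Module F V] {Q : QuadraticForm F V}
variable {G : Type u} [Group G] {S : Subgroup G} [S.Normal]

/-- the action of `G` on `P Q` -/
noncomputable def act (e : S ≃* P Q) : G →* MulAut (P Q) :=
  (MulAut.congr e).toMonoidHom.comp (MulAut.conjNormal (H := S))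

theorem act_apply (e : S ≃* P Q) (g : G) (x : P Q) : act e g x = e (MulAut.conjNormal g (e.symm x)) := rfl

/-- the homomorphism `E Q → S ≤ G` -/
noncomputable def el (e : S ≃* P Q) : ↥(E Q) →* G :=
  S.subtype.comp (e.symm.toMonoidHom.comp (QuotientGroup.mk' (center ↥(E Q))))

theorem el_apply (e : S ≃* P Q) (x : ↥(E Q)) : el e x = (e.symm (x : P Q) : S) := rfl

theorem exists_el (e : S ≃* P Q) {s : G} (hs : s ∈ S) : ∃ x, el e x = s := by
  obtain ⟨x, hx⟩ := QuotientGroup.mk_surjective (e ⟨s, hs⟩)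
  refine ⟨x, ?_⟩
  rw [el_apply, hx, MulEquiv.symm_apply_apply]

theorem el_eq_one_iff (e : S ≃* P Q) (x : ↥(E Q)) : el e x = 1 ↔ x ∈ center ↥(E Q) := by
  rw [el_apply, ← QuotientGroup.eq_one_iff]
  constructor
  · intro h
    have h1 : e.symm (x : P Q) = 1 := Subtype.ext h
    rwa [MulEquiv.map_eq_one_iff] at h1
  · intro h
    rw [h, map_one]; rfl

/-- `M` induces the automorphism given by `g` -/
def Lf (e : S ≃* P Q) (g : G) (M : Gam Q) : Prop := Psi Q M = act e g

theorem Lf.mul {e : S ≃* P Q} {g g' : G} {M M' : Gam Q} (h : Lf e g M) (h' : Lf e g' M') : Lf e (g * g') (M * M') := by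
  show Psi Q (M * M') = act e (g * g')
  rw [map_mul, map_mul, h, h']

theorem Lf.inv {e : S ≃* P Q} {g : G} {M : Gam Q} (h : Lf e g M) : Lf e g⁻¹ M⁻¹ := by
  show Psi Q M⁻¹ = act e g⁻¹
  rw [map_inv, map_inv, h]

theorem Lf.conj {e : S ≃* P Q} {g : G} {M : Gam Q} (h : Lf e g M) (x : ↥(E Q)) :
    g * el e x * g⁻¹ = el e (conjE Q M x) := by
  have h1 : Psi Q M (x : P Q) = act e g (x : P Q) := by rw [h]
  rw [Psi_mk, act_apply] at h1
  have h2 : e.symm ((conjE Q M x : ↥(E Q)) : P Q) = MulAut.conjNormal g (e.symm (x : P Q)) := by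
    rw [h1, MulEquiv.symm_apply_apply]
  rw [el_apply, el_apply, h2]
  rfl

theorem lf_el (e : S ≃* P Q) (x : ↥(E Q)) : Lf e (el e x) (ofO Q ⟨x, E_le_O x.2⟩) := by
  show Psi Q _ = act e _
  rw [Psi_ofO]
  ext y
  rw [MulAut.conj_apply, act_apply]
  have h1 : MulAut.conjNormal (el e x) (e.symm y) = e.symm (x : P Q) * e.symm y * (e.symm (x : P Q))⁻¹ :=
    Subtype.ext rfl
  rw [h1, map_mul, map_mul, map_inv, MulEquiv.apply_symm_apply, MulEquiv.apply_symm_apply]

theorem Lf.eq_one_of_scal {e : S ≃* P Q} (hG : Good Q) {g : G} {M M' : Gam Q} (h : Lf e g M) (h' : Lf e g M') :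
    ∃ a : Fˣ, M' = M * scal Q a := by
  have h1 : M⁻¹ * M' ∈ (Psi Q).ker := by
    rw [MonoidHom.mem_ker, map_mul, map_inv, h, h', inv_mul_cancel]
  rw [ker_Psi hG] at h1
  obtain ⟨a, ha⟩ := h1
  exact ⟨a, by rw [ha, mul_inv_cancel_left]⟩

/-- the central elements of `E Q` -/
theorem center_cases (hG : Good Q) {x : ↥(E Q)} (hx : x ∈ center ↥(E Q)) :
    ∃ c : F, c * c = 1 ∧ ∀ v, (x : V ≃ₗ[F] V) v = c • v := by
  obtain ⟨c, hc⟩ := center_scalar hG hx
  refine ⟨c, ?_, hc⟩
  obtain ⟨a, b, hab⟩ := hG.exists_hyp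
  have h1 := polar_map (E_le_O x.2) a b
  rwa [hc, hc, polar_smul_left, polar_smul_right, hab.pair, smul_eq_mul, smul_eq_mul, mul_one] at h1

theorem center_sq (hG : Good Q) {x : ↥(E Q)} (hx : x ∈ center ↥(E Q)) : x * x = 1 := by
  obtain ⟨c, hc, h⟩ := center_cases hG hx
  apply Subtype.ext
  ext v
  show (x : V ≃ₗ[F] V) ((x : V ≃ₗ[F] V) v) = v
  rw [h, h, smul_smul, hc, one_smul]

/-- elements of odd order of `S` lift to elements of odd order -/
theorem exists_lift_odd (hG : Good Q) (e : S ≃* P Q) {n : ℕ} (hn : Odd n) {s : G} (hs : s ∈ S) (hsn : s ^ n = 1) :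
    ∃ x, x ^ n = 1 ∧ el e x = s := by
  obtain ⟨x, rfl⟩ := exists_el e hs
  rw [← map_pow, el_eq_one_iff] at hsn
  have h1 := center_sq hG hsn
  refine ⟨x * x ^ n, ?_, ?_⟩
  · have e1 : x * x ^ n = x ^ (n + 1) := (pow_succ' x n).symm
    obtain ⟨m, hm⟩ : Even (n + 1) := hn.add_one
    rw [e1, ← pow_mul, mul_comm, pow_mul, hm, ← two_mul, pow_mul, pow_two, h1, one_pow]
  · rw [map_mul, (el_eq_one_iff e _).2 hsn, mul_one]

/-- ... uniquely -/
theorem eq_of_el_eq (hG : Good Q) (e : S ≃* P Q) {n : ℕ} (hn : Odd n) {x y : ↥(E Q)} (hx : x ^ n = 1)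
    (hy : y ^ n = 1) (h : el e x = el e y) : x = y := by
  have h1 : x⁻¹ * y ∈ center ↥(E Q) := by
    rw [← el_eq_one_iff e, map_mul, map_inv, h, inv_mul_cancel]
  obtain ⟨z, hz⟩ : ∃ z, z = x⁻¹ * y := ⟨_, rfl⟩
  rw [← hz] at h1
  have h2 : y = x * z := by rw [hz]; group
  have hc : Commute x z := (mem_center_iff.1 h1 x)
  have h3 : z ^ n = 1 := by
    have := hc.mul_pow n
    rw [← h2, hy, hx, one_mul] at this
    exact this.symm
  obtain ⟨m, hm⟩ := hn
  rw [hm, pow_succ, pow_mul, pow_two, center_sq hG h1, one_pow, one_mul] at h3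
  rw [h2, h3, mul_one]

/-- if `g` centralises `el e x`, `x` of odd order, its lifts commute with `x` -/
theorem Lf.fix (hG : Good Q) {e : S ≃* P Q} {g : G} {M : Gam Q} (h : Lf e g M) {n : ℕ} (hn : Odd n) {x : ↥(E Q)}
    (hx : x ^ n = 1) (hg : g * el e x * g⁻¹ = el e x) : conjE Q M x = x := by
  refine eq_of_el_eq hG e hn ?_ hx ?_
  · rw [← map_pow, hx, map_one]
  · rw [← h.conj, hg]

/-! ### the subgroup `K` -/

/-- all lifts of elements of `K` commute with `x` -/
def Fx (e : S ≃* P Q) (K : Subgroup G) (x : ↥(E Q)) : Prop := ∀ k ∈ K, ∀ M : Gam Q, Lf e k M → conjE Q M x = x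

/-- all lifts of elements of `K` preserve `W` -/
def Iv (e : S ≃* P Q) (K : Subgroup G) (W : Submodule F V) : Prop :=
  ∀ k ∈ K, ∀ M : Gam Q, Lf e k M → ∀ v ∈ W, M.1 v ∈ W

theorem Iv.inv {e : S ≃* P Q} {K : Subgroup G} {W : Submodule F V} (h : Iv e K W) {k : G} (hk : k ∈ K) {M : Gam Q}
    (hM : Lf e k M) {v : V} (hv : v ∈ W) : M.1⁻¹ v ∈ W :=
  h k⁻¹ (inv_mem hk) M⁻¹ hM.inv v hv

theorem Iv.mem_iff {e : S ≃* P Q} {K : Subgroup G} {W : Submodule F V} (h : Iv e K W) {k : G} (hk : k ∈ K) {M : Gam Q}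
    (hM : Lf e k M) {v : V} : M.1 v ∈ W ↔ v ∈ W := by
  refine ⟨fun h1 => ?_, h k hk M hM v⟩
  have := h.inv hk hM h1
  rwa [inv_apply] at this

theorem fx_of_commute (hG : Good Q) {e : S ≃* P Q} {K : Subgroup G} {n : ℕ} (hn : Odd n) {x : ↥(E Q)}
    (hx : x ^ n = 1) (h : K ≤ centralizer ({el e x} : Set G)) : Fx e K x := by
  intro k hk M hM
  refine hM.fix hG hn hx ?_
  rw [mul_inv_eq_iff_eq_mul]
  exact mem_centralizer_singleton_iff.1 (h hk)

theorem Fx.le_centralizer {e : S ≃* P Q} {K : Subgroup G} (hs : ∀ g : G, ∃ M : Gam Q, Lf e g M) {x : ↥(E Q)}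
    (h : Fx e K x) : K ≤ centralizer ({el e x} : Set G) := by
  intro k hk
  obtain ⟨M, hM⟩ := hs k
  have h1 := hM.conj x
  rw [h k hk M hM, mul_inv_eq_iff_eq_mul] at h1
  exact mem_centralizer_singleton_iff.2 h1

/-- an element commuting with a Carter subgroup lies in it -/
theorem mem_of_le_centralizer {K : Subgroup G} (hK : IsCarter K) {x : G} (h : K ≤ centralizer ({x} : Set G)) :
    x ∈ K := by
  rw [← hK.2, mem_normalizer_iff]
  intro k
  constructor
  · intro hk
    have h1 := mem_centralizer_singleton_iff.1 (h hk)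
    rwa [← h1, mul_inv_cancel_right]
  · intro hk
    have h1 := mem_centralizer_singleton_iff.1 (h hk)
    have h2 : x * k * x⁻¹ * x = x * k := by group
    rw [h2] at h1
    have h3 : k = x * k * x⁻¹ := mul_left_cancel h1
    rw [h3]; exact hk

theorem Fx.mem {e : S ≃* P Q} {K : Subgroup G} (hs : ∀ g : G, ∃ M : Gam Q, Lf e g M) (hK : IsCarter K) {x : ↥(E Q)}
    (h : Fx e K x) : el e x ∈ K := mem_of_le_centralizer hK (h.le_centralizer hs)

/-- (A1), lifted -/
theorem eq_of_fx_conj [Finite G] (hG : Good Q) (c : Ctx G S) {e : S ≃* P Q} {K : Subgroup G}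
    (hs : ∀ g : G, ∃ M : Gam Q, Lf e g M) (hK : IsCarter K) {n : ℕ} (hn : Odd n) {x y h : ↥(E Q)} (hx : x ^ n = 1)
    (hy : y ^ n = 1) (h1 : Fx e K x) (h2 : Fx e K y) (h3 : h * x * h⁻¹ = y) : x = y := by
  have h4 : el e h * el e x * (el e h)⁻¹ = el e y := by rw [← h3, map_mul, map_mul, map_inv]
  have h5 := c.eq_of_conj hK (h1.le_centralizer hs) (g := el e h) (by
    rw [h4]; exact h2.le_centralizer hs)
  rw [h4] at h5
  exact (eq_of_el_eq hG e hn hy hx h5).symm

theorem Fx.pow {e : S ≃* P Q} {K : Subgroup G} {x : ↥(E Q)} (h : Fx e K x) (n : ℕ) : Fx e K (x ^ n) := by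
  intro k hk M hM
  rw [map_pow, h k hk M hM]

/-- an element of odd order fixed by `K` is not conjugate to another power -/
theorem no_conj_pow [Finite G] (hG : Good Q) (c : Ctx G S) {e : S ≃* P Q} {K : Subgroup G}
    (hs : ∀ g : G, ∃ M : Gam Q, Lf e g M) (hK : IsCarter K) {n : ℕ} (hn : Odd n) {x h : ↥(E Q)} (hx : x ^ n = 1)
    (h1 : Fx e K x) {j : ℕ} (h3 : h * x * h⁻¹ = x ^ j) : x ^ j = x :=
  (eq_of_fx_conj hG c hs hK hn hx (by rw [← pow_mul, mul_comm, pow_mul, hx, one_pow]) h1 (h1.pow j) h3).symm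

end Cfsg.Agent.H502.Car
end

-- part: H502/Car/Flow
section
/-!
# `K`-invariant chains of totally singular subspaces and involutions of `Ω` (helper502, S3852)

* `Ac Q W R a b g` : `g = a` on `W`, `g = b` on `R / W`, `g = 1` on `R^⊥ / R` (`a`, `b` signs);
* `exists_ac` : such `g ∈ E Q` exist when the dimensions are even;
* `exists_fx` : for `K` Carter and `K`-invariant `W`, `R` there is such an involution commuting with all of `K`;
* `pt x z` : `z` on the `+1`-eigenspace of `x` and `1` on the `-1`-eigenspace;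
* `no_chain` : characteristic three.
-/

set_option autoImplicit false
set_option linter.unusedSectionVars false

namespace Cfsg.Agent.H502.Car

open QuadraticMap Cfsg.Agent.LieClassical.OrthCore Cfsg.Agent.LieClassical.OrthTrans
  Cfsg.Agent.LieClassical.OrthSimple Cfsg.Agent.ClassicalGeometry.OrthSemi
  Cfsg.Agent.ClassicalGeometry.OrthAut1 Cfsg.Agent.H989.OutOrth.Basic
open Subgroup Pointwise Cfsg.Agent.Solvable.Carter Cfsg.Agent.H18.Carter Cfsg.Agent.H381.Car

universe u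

section Ac

variable {F V : Type*} [Field F] [AddCommGroup V] [Module F V] {Q : QuadraticForm F V}

/-- `g = a` on `W`, `b` on `R / W`, `1` on `R^⊥ / R` -/
structure Ac (Q : QuadraticForm F V) (W R : Submodule F V) (a b : ℤˣ) (g : V ≃ₗ[F] V) : Prop where
  w : ∀ w ∈ W, g w = (a : ℤ) • w
  r : ∀ r ∈ R, g r - (b : ℤ) • r ∈ W
  p : ∀ v, (∀ r ∈ R, polar Q r v = 0) → g v - v ∈ R

theorem sgn_sq (a : ℤˣ) : (a : ℤ) * (a : ℤ) = 1 := by
  rcases Int.units_eq_one_or a with rfl | rfl <;> norm_num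

theorem sgn_smul_smul {A : Type*} [AddCommGroup A] (a : ℤˣ) (v : A) : (a : ℤ) • (a : ℤ) • v = v := by
  rw [smul_smul, sgn_sq, one_smul]

theorem zsmul_mem' {W : Submodule F V} (n : ℤ) {v : V} (hv : v ∈ W) : n • v ∈ W := by
  have : n • v = (n : F) • v := by rw [Int.cast_smul_eq_zsmul]
  rw [this]; exact W.smul_mem _ hv

variable {W R : Submodule F V}

theorem Ac.one (a : ℤˣ) : Ac Q W R 1 1 (1 : V ≃ₗ[F] V) := by
  have e : ∀ v : V, (1 : V ≃ₗ[F] V) v = v := fun _ => rfl
  refine ⟨fun w _ => ?_, fun r _ => ?_, fun v _ => ?_⟩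
  · rw [e, Units.val_one, one_smul]
  · rw [e, Units.val_one, one_smul, sub_self]; exact W.zero_mem
  · rw [e, sub_self]; exact R.zero_mem

theorem Ac.mul (hWR : W ≤ R) {a b a' b' : ℤˣ} {g g' : V ≃ₗ[F] V} (h : Ac Q W R a b g) (h' : Ac Q W R a' b' g') :
    Ac Q W R (a * a') (b * b') (g * g') := by
  refine ⟨fun w hw => ?_, fun r hr => ?_, fun v hv => ?_⟩
  · show g (g' w) = _
    rw [h'.w w hw, map_zsmul, h.w w hw, smul_smul, Units.val_mul, mul_comm]
  · show g (g' r) - _ ∈ W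
    have h1 := h'.r r hr
    have e : g (g' r) - ((b * b' : ℤˣ) : ℤ) • r = g (g' r - (b' : ℤ) • r) + (b' : ℤ) • (g r - (b : ℤ) • r) := by
      rw [map_sub, map_zsmul, smul_sub, smul_smul, Units.val_mul, mul_comm (b : ℤ)]
      abel
    rw [e, h.w _ h1]
    exact W.add_mem (zsmul_mem' _ h1) (zsmul_mem' _ (h.r r hr))
  · show g (g' v) - v ∈ R
    have h1 := h'.p v hv
    have e : g (g' v) - v = (g (g' v - v) - (b : ℤ) • (g' v - v)) + (b : ℤ) • (g' v - v) + (g v - v) := by
      rw [map_sub]; abel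
    rw [e]
    exact R.add_mem (R.add_mem (hWR (h.r _ h1)) (zsmul_mem' _ h1)) (h.p v hv)

theorem Ac.inv (hWR : W ≤ R) {a b : ℤˣ} {g : V ≃ₗ[F] V} (h : Ac Q W R a b g) : Ac Q W R a b g⁻¹ := by
  have e0 : ∀ v, g⁻¹ (g v) = v := fun v => g.symm_apply_apply v
  have hw : ∀ w ∈ W, g⁻¹ w = (a : ℤ) • w := by
    intro w hw
    have h1 : g ((a : ℤ) • w) = w := by rw [map_zsmul, h.w w hw, sgn_smul_smul]
    conv_lhs => rw [← h1, e0]
  have hr : ∀ r ∈ R, g⁻¹ r - (b : ℤ) • r ∈ W := by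
    intro r hr
    have h1 := h.r r hr
    have h2 := hw _ h1
    rw [map_sub, map_zsmul, e0] at h2
    have e : g⁻¹ r - (b : ℤ) • r = -((b : ℤ) • (r - (b : ℤ) • g⁻¹ r)) := by
      rw [smul_sub, sgn_smul_smul]; abel
    rw [e, h2]
    exact W.neg_mem (zsmul_mem' _ (zsmul_mem' _ h1))
  refine ⟨hw, hr, fun v hv => ?_⟩
  have h1 := h.p v hv
  have e : g⁻¹ v - v = -(g⁻¹ (g v - v)) := by rw [map_sub, e0]; abel
  rw [e]
  have e2 : g⁻¹ (g v - v) = (g⁻¹ (g v - v) - (b : ℤ) • (g v - v)) + (b : ℤ) • (g v - v) := by abel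
  rw [e2]
  exact R.neg_mem (R.add_mem (hWR (hr _ h1)) (zsmul_mem' _ h1))

theorem gam_zsmul (M : Gam Q) (n : ℤ) (v : V) : M.1 (n • v) = n • M.1 v := by
  let f : V →+ V := ⟨⟨M.1, by
    obtain ⟨σ, c, hM⟩ := M.2
    exact hM.map_zero⟩, add_of_mem M.2⟩
  exact map_zsmul f n v

theorem gam_sub (M : Gam Q) (u v : V) : M.1 (u - v) = M.1 u - M.1 v := by
  obtain ⟨σ, c, hM⟩ := M.2
  exact hM.sub u v

theorem Ac.conj {a b : ℤˣ} {g : V ≃ₗ[F] V} (h : Ac Q W R a b g) (M : Gam Q) (hW : ∀ v, M.1 v ∈ W ↔ v ∈ W)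
    (hR : ∀ v, M.1 v ∈ R ↔ v ∈ R) : Ac Q W R a b (conjLin M g) := by
  refine ⟨fun w hw => ?_, fun r hr => ?_, fun v hv => ?_⟩
  · obtain ⟨w, rfl⟩ := M.1.surjective w
    rw [conjLin_apply', h.w w ((hW w).1 hw), gam_zsmul]
  · obtain ⟨r, rfl⟩ := M.1.surjective r
    rw [conjLin_apply', ← gam_zsmul, ← gam_sub, hW]
    exact h.r r ((hR r).1 hr)
  · obtain ⟨v, rfl⟩ := M.1.surjective v
    rw [conjLin_apply', ← gam_sub, hR]
    refine h.p v fun r hr => ?_
    have h1 := hv (M.1 r) ((hR r).2 hr)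
    obtain ⟨σ, c, hM⟩ := M.2
    rw [hM.polar] at h1
    rcases mul_eq_zero.1 h1 with h2 | h2
    · exact absurd h2 hM.ne
    · exact (map_eq_zero_iff σ σ.injective).1 h2

/-- elements of `E Q` acting as the given signs -/
theorem exists_ac [FiniteDimensional F V] (hG : Good Q) (hR : Ts Q R) (hWR : W ≤ R) {a b : ℤˣ}
    (ha : a = 1 ∨ Even (Module.finrank F W)) (hb : b = 1 ∨ Even (Module.finrank F R - Module.finrank F W)) :
    ∃ t : ↥(E Q), Ac Q W R a b t.1 := by
  obtain ⟨W', hW'⟩ : ∃ W' : Submodule F R, W' = W.comap R.subtype := ⟨_, rfl⟩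
  obtain ⟨C, hC⟩ := Submodule.exists_isCompl W'
  obtain ⟨π, hπ⟩ : ∃ π : R →ₗ[F] R, (∀ r, π r ∈ W') ∧ ∀ r ∈ W', π r = r := by
    refine ⟨W'.subtype.comp (Submodule.linearProjOfIsCompl W' C hC), fun r => (Submodule.linearProjOfIsCompl W' C hC r).2,
      fun r hr => ?_⟩
    rw [LinearMap.comp_apply]
    have := Submodule.linearProjOfIsCompl_apply_left hC ⟨r, hr⟩
    exact congrArg Subtype.val this
  obtain ⟨g, hg⟩ : ∃ g : R →ₗ[F] R, ∀ r, g r = ((b : ℤ) : F) • r + (((a : ℤ) : F) - ((b : ℤ) : F)) • π r :=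
    ⟨((b : ℤ) : F) • LinearMap.id + (((a : ℤ) : F) - ((b : ℤ) : F)) • π, fun r => by
      rw [LinearMap.add_apply, LinearMap.smul_apply, LinearMap.smul_apply, LinearMap.id_apply]⟩
  have hgW : ∀ r ∈ W', g r = ((a : ℤ) : F) • r := by
    intro r hr
    rw [hg, hπ.2 r hr]; module
  have hle : W' ≤ W'.comap g := by
    intro r hr
    rw [Submodule.mem_comap, hgW r hr]
    exact W'.smul_mem _ hr
  have hpow : ∀ (s : ℤˣ) (n : ℕ), (s = 1 ∨ Even n) → ((s : ℤ) : F) ^ n = 1 := by
    rintro s n (rfl | ⟨m, rfl⟩)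
    · rw [Units.val_one, Int.cast_one, one_pow]
    · rw [← two_mul, pow_mul, pow_two, ← Int.cast_mul, sgn_sq, Int.cast_one, one_pow]
  have hfin : Module.finrank F W' = Module.finrank F W := by
    rw [hW']
    exact (Submodule.comapSubtypeEquivOfLe hWR).finrank_eq
  have hdet : LinearMap.det g = 1 * 1 := by
    rw [LinearMap.det_eq_det_mul_det W' g hle]
    congr 1
    · have e : g.restrict hle = ((a : ℤ) : F) • LinearMap.id := by
        ext r
        rw [LinearMap.restrict_coe_apply, hgW _ r.2]; rfl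
      rw [e, LinearMap.det_smul, LinearMap.det_id, mul_one, hfin, hpow _ _ ha]
    · have e : W'.mapQ W' g hle = ((b : ℤ) : F) • LinearMap.id := by
        ext r
        rw [LinearMap.comp_apply, LinearMap.comp_apply, Submodule.mkQ_apply, Submodule.mapQ_apply, hg]
        have h1 : (Submodule.Quotient.mk (((b : ℤ) : F) • r + (((a : ℤ) : F) - ((b : ℤ) : F)) • π r) : R ⧸ W') =
            Submodule.Quotient.mk (((b : ℤ) : F) • r) := by
          rw [Submodule.Quotient.eq, add_sub_cancel_left]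
          exact W'.smul_mem _ (hπ.1 r)
        rw [h1]; rfl
      have h2 : Module.finrank F (R ⧸ W') = Module.finrank F R - Module.finrank F W := by
        have := Submodule.finrank_quotient_add_finrank W'
        rw [hfin] at this; omega
      rw [e, LinearMap.det_smul, LinearMap.det_id, mul_one, h2, hpow _ _ hb]
  obtain ⟨t, ht, h1, h2⟩ := exists_lft hG hR g ⟨1, one_ne_zero, hdet⟩
  refine ⟨⟨t, ht⟩, ?_, ?_, h2⟩
  · intro w hw
    have h3 := h1 ⟨w, hWR hw⟩
    rw [hgW ⟨w, hWR hw⟩ (by rw [hW']; exact hw)] at h3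
    show t w = _
    rw [h3, Submodule.coe_smul, Int.cast_smul_eq_zsmul]
  · intro r hr
    have h3 := h1 ⟨r, hr⟩
    rw [hg] at h3
    show t r - _ ∈ W
    rw [h3, Submodule.coe_add, Submodule.coe_smul, Submodule.coe_smul]
    have h4 := hπ.1 ⟨r, hr⟩
    rw [hW'] at h4
    have h5 : ((π ⟨r, hr⟩ : R) : V) ∈ W := h4
    have e : ((b : ℤ) : F) • r + (((a : ℤ) : F) - ((b : ℤ) : F)) • ((π ⟨r, hr⟩ : R) : V) - (b : ℤ) • r =
        (((a : ℤ) : F) - ((b : ℤ) : F)) • ((π ⟨r, hr⟩ : R) : V) := by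
      rw [Int.cast_smul_eq_zsmul]; abel
    rw [e]
    exact W.smul_mem _ h5

/-- unipotent elements are `p`-elements -/
theorem pow_eq_one_of_unip {p : ℕ} [hp : Fact p.Prime] [CharP F p] [Nontrivial V] {g : V ≃ₗ[F] V} {n k : ℕ}
    (h : ((g : V →ₗ[F] V) - 1) ^ n = 0) (hn : n ≤ p ^ k) : g ^ p ^ k = 1 := by
  haveI : CharP (Module.End F V) p :=
    charP_of_injective_algebraMap (algebraMap F (Module.End F V)).injective p
  have h4 : ((g : V →ₗ[F] V) - 1) ^ p ^ k = 0 := by
    obtain ⟨m, hm⟩ := Nat.exists_eq_add_of_le hn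
    rw [hm, pow_add, h, zero_mul]
  have h6 : ((g : V →ₗ[F] V) - 1) ^ p ^ k = (g : V →ₗ[F] V) ^ p ^ k - 1 := by
    rw [sub_pow_char_pow_of_commute p k (Commute.one_right _), one_pow]
  rw [h6, sub_eq_zero] at h4
  have h7 : ∀ (n : ℕ) (v : V), ((g : V →ₗ[F] V) ^ n) v = (g ^ n) v := by
    intro n
    induction n with
    | zero => intro v; rfl
    | succ n ih =>
      intro v
      rw [pow_succ, pow_succ]
      exact ih (g v)
  ext v
  rw [← h7, h4]
  rfl

theorem Ac.pow_eq_one {p : ℕ} [hp : Fact p.Prime] [CharP F p] [Nontrivial V] (hWR : W ≤ R) {g : V ≃ₗ[F] V}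
    (hg : g ∈ O Q) (h : Ac Q W R 1 1 g) (hp2 : p ≠ 2) : g ^ p ^ 2 = 1 := by
  have hone : ∀ v : V, ((1 : ℤˣ) : ℤ) • v = v := fun v => by rw [Units.val_one, one_smul]
  have h2 : ∀ r ∈ R, g r - r ∈ W := fun r hr => by
    have := h.r r hr
    rwa [hone] at this
  have h3 : ∀ w ∈ W, g w = w := fun w hw => by
    have := h.w w hw
    rwa [hone] at this
  have h2' : ∀ r ∈ R, g⁻¹ r - r ∈ W := fun r hr => by
    have := (h.inv hWR).r r hr
    rwa [hone] at this
  have h3' : ∀ w ∈ W, g⁻¹ w = w := fun w hw => by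
    have := (h.inv hWR).w w hw
    rwa [hone] at this
  have hpol : ∀ x v, polar Q x (g v - v) = polar Q (g⁻¹ x - x) v := by
    intro x v
    rw [polar_sub_right, polar_sub_left]
    have h4 := polar_map ((O Q).inv_mem hg) x (g v)
    have h5 : g⁻¹ (g v) = v := g.symm_apply_apply v
    rw [h5] at h4
    rw [← h4]
  have hN : ((g : V →ₗ[F] V) - 1) ^ 5 = 0 := by
    have e : ∀ v, ((g : V →ₗ[F] V) - 1) v = g v - v := fun v => rfl
    ext v
    show ((g : V →ₗ[F] V) - 1) (((g : V →ₗ[F] V) - 1) (((g : V →ₗ[F] V) - 1) (((g : V →ₗ[F] V) - 1)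
      (((g : V →ₗ[F] V) - 1) v)))) = 0
    have h4 : ∀ w ∈ W, polar Q w (((g : V →ₗ[F] V) - 1) v) = 0 := by
      intro w hw
      rw [e, hpol, h3' w hw, sub_self, polar_zero_left]
    have h5 : ∀ r ∈ R, polar Q r (((g : V →ₗ[F] V) - 1) (((g : V →ₗ[F] V) - 1) v)) = 0 := by
      intro r hr
      rw [e (((g : V →ₗ[F] V) - 1) v), hpol]
      exact h4 _ (h2' r hr)
    have h6 := h.p _ h5
    have h7 := h2 _ h6
    have h8 := h3 _ h7
    rw [e (((g : V →ₗ[F] V) - 1) (((g : V →ₗ[F] V) - 1) v)), e (g _ - _), e (g _ - _), h8, sub_self]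
  refine pow_eq_one_of_unip hN ?_
  have h9 := hp.out.two_le
  have h10 : 3 ≤ p := by omega
  nlinarith

end Ac

section Fx

variable {F V : Type*} [Field F] [AddCommGroup V] [Module F V] {Q : QuadraticForm F V}
variable {G : Type u} [Group G] [Finite G] {S : Subgroup G} [S.Normal] {W R : Submodule F V}

/-- the elements of `E Q` acting trivially on `W`, `R / W`, `R^⊥ / R` -/
def UU (Q : QuadraticForm F V) {W R : Submodule F V} (hWR : W ≤ R) : Subgroup ↥(E Q) where
  carrier := {g | Ac Q W R 1 1 g.1}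
  one_mem' := Ac.one 1
  mul_mem' {g g'} h h' := by
    have := Ac.mul hWR h h'
    rw [mul_one] at this
    exact this
  inv_mem' {g} h := by
    have := Ac.inv hWR h
    exact this

theorem mem_UU {hWR : W ≤ R} {g : ↥(E Q)} : g ∈ UU Q hWR ↔ Ac Q W R 1 1 g.1 := Iff.rfl

/-- **An involution of `Ω` commuting with `K`.** -/
theorem exists_fx [FiniteDimensional F V] (hG : Good Q) (c : Ctx G S) {K : Subgroup G} (hK : IsCarter K)
    (e : S ≃* P Q) (hs : ∀ g : G, ∃ M : Gam Q, Lf e g M) {p : ℕ} [hp : Fact p.Prime] [CharP F p] (hp2 : p ≠ 2)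
    (hWR : W ≤ R) (hW0 : W ≠ ⊥) (hWK : Iv e K W) (hRK : Iv e K R) {a b : ℤˣ} {t : ↥(E Q)}
    (ht : Ac Q W R a b t.1) : ∃ x : ↥(E Q), x * x = 1 ∧ Ac Q W R a b x.1 ∧ Fx e K x := by
  obtain ⟨w0, hw0, hw00⟩ := Submodule.exists_mem_ne_zero_of_ne_bot hW0
  have hnt : Nontrivial V := ⟨w0, 0, hw00⟩
  obtain ⟨U, hU⟩ : ∃ U : Subgroup G, U = (UU Q hWR).map (el e) := ⟨_, rfl⟩
  have hUU : ∀ {x y : ↥(E Q)}, Ac Q W R a b x.1 → Ac Q W R a b y.1 → x⁻¹ * y ∈ UU Q hWR := by
    intro x y hx hy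
    have h1 := Ac.mul hWR (Ac.inv hWR hx) hy
    rw [Int.units_mul_self, Int.units_mul_self] at h1
    exact h1
  have hconj : ∀ {a b : ℤˣ} {x : ↥(E Q)}, Ac Q W R a b x.1 → ∀ k ∈ K, ∀ M : Gam Q, Lf e k M →
      Ac Q W R a b (conjE Q M x).1 := by
    intro a b x hx k hk M hM
    exact hx.conj M (fun v => hWK.mem_iff hk hM) (fun v => hRK.mem_iff hk hM)
  -- `U` is a `K`-invariant `p`-group
  have hUp : IsPGroup p U := by
    rw [hU]
    rintro ⟨_, x, hx, rfl⟩
    refine ⟨2, Subtype.ext ?_⟩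
    have h1 := Ac.pow_eq_one hWR (E_le_O x.2) (mem_UU.1 hx) hp2 (p := p)
    have h2 : x ^ p ^ 2 = 1 := Subtype.ext h1
    show el e x ^ p ^ 2 = 1
    rw [← map_pow, h2, map_one]
  have hKU' : ∀ k ∈ K, ∀ u ∈ U, k * u * k⁻¹ ∈ U := by
    intro k hk u hu
    rw [hU] at hu ⊢
    obtain ⟨x, hx, rfl⟩ := hu
    obtain ⟨M, hM⟩ := hs k
    rw [hM.conj]
    exact ⟨_, hconj hx k hk M hM, rfl⟩
  have hKU : K ≤ normalizer (U : Set G) := by
    intro k hk
    rw [mem_normalizer_iff]
    intro u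
    refine ⟨hKU' k hk u, fun h => ?_⟩
    have := hKU' k⁻¹ (inv_mem hk) _ h
    have e1 : k⁻¹ * (k * u * k⁻¹) * k⁻¹⁻¹ = u := by group
    rwa [e1] at this
  -- `K U` is proper
  have hne : K ⊔ U ≠ ⊤ := by
    intro h1
    by_cases hb : U = ⊥
    · rw [hb, sup_bot_eq] at h1
      apply c.S_not_solvable
      have h2 : Group.IsNilpotent K := hK.1
      have h3 : S ≤ K := by rw [h1]; exact le_top
      exact Group.isSolvable_of_isSolvable_injective (f := inclusion h3) (inclusion_injective _)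
    · have h2 : Group.IsNilpotent U := hUp.isNilpotent
      apply c.norm_ne_top hb inferInstance
      rw [eq_top_iff, ← h1]
      exact sup_le hKU le_normalizer
  -- `t`
  have htn : ∀ u ∈ U, el e t * u * (el e t)⁻¹ ∈ U := by
    intro u hu
    rw [hU] at hu ⊢
    obtain ⟨x, hx, rfl⟩ := hu
    refine ⟨t * x * t⁻¹, ?_, by rw [map_mul, map_mul, map_inv]⟩
    have h1 := Ac.mul hWR (Ac.mul hWR ht (mem_UU.1 hx)) (Ac.inv hWR ht)
    rw [mul_one, mul_one, Int.units_mul_self, Int.units_mul_self] at h1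
    exact h1
  have htn' : ∀ u ∈ U, (el e t)⁻¹ * u * (el e t)⁻¹⁻¹ ∈ U := by
    intro u hu
    rw [hU] at hu ⊢
    obtain ⟨x, hx, rfl⟩ := hu
    refine ⟨t⁻¹ * x * t⁻¹⁻¹, ?_, by rw [map_mul, map_mul, map_inv, map_inv, map_inv]⟩
    have h1 := Ac.mul hWR (Ac.mul hWR (Ac.inv hWR ht) (mem_UU.1 hx)) (Ac.inv hWR (Ac.inv hWR ht))
    rw [mul_one, mul_one, Int.units_mul_self, Int.units_mul_self] at h1
    exact h1
  have htU : el e t ∈ normalizer (U : Set G) := by
    rw [mem_normalizer_iff]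
    intro u
    refine ⟨htn u, fun h => ?_⟩
    have := htn' _ h
    have e1 : (el e t)⁻¹ * (el e t * u * (el e t)⁻¹) * (el e t)⁻¹⁻¹ = u := by group
    rwa [e1] at this
  have ht2 : el e t * el e t ∈ U := by
    rw [hU]
    refine ⟨t * t, ?_, by rw [map_mul]⟩
    have h1 := Ac.mul hWR ht ht
    rw [Int.units_mul_self, Int.units_mul_self] at h1
    exact h1
  have htc : ∀ k ∈ K, el e t * k * (el e t)⁻¹ * k⁻¹ ∈ U := by
    intro k hk
    obtain ⟨M, hM⟩ := hs k
    have h1 : el e t * k * (el e t)⁻¹ * k⁻¹ = el e (t * (conjE Q M t)⁻¹) := by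
      rw [map_mul, map_inv, ← hM.conj]; group
    rw [h1, hU]
    refine ⟨_, ?_, rfl⟩
    have h2 := Ac.mul hWR ht (Ac.inv hWR (hconj ht k hk M hM))
    rw [Int.units_mul_self, Int.units_mul_self] at h2
    exact h2
  obtain ⟨x, hxK, hx2, hxU, hxc⟩ := exists_inv hK hp2 hUp hKU (c.sub hne) htU ht2 htc
  rw [hU] at hxU
  obtain ⟨u, hu, hue⟩ := hxU
  have hx : x = el e (t * u) := by rw [map_mul, hue]; group
  have hAc : Ac Q W R a b (t * u).1 := by
    have := Ac.mul hWR ht (mem_UU.1 hu)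
    rw [mul_one, mul_one] at this
    exact this
  -- scalars
  have hsc : ∀ {y : ↥(E Q)}, y ∈ center ↥(E Q) → y.1 w0 = w0 → y = 1 := by
    intro y hy h1
    obtain ⟨d, -, hd⟩ := center_cases hG hy
    rw [hd] at h1
    have h2 : (d - 1) • w0 = 0 := by rw [sub_smul, h1, one_smul, sub_self]
    rcases smul_eq_zero.1 h2 with h3 | h3
    · apply Subtype.ext
      ext v
      rw [hd, sub_eq_zero.1 h3, one_smul]; rfl
    · exact absurd h3 hw00
  refine ⟨t * u, ?_, hAc, ?_⟩
  · apply hsc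
    · rw [← el_eq_one_iff e, map_mul, ← hx, hx2]
    · show (t * u).1 ((t * u).1 w0) = w0
      rw [hAc.w w0 hw0, map_zsmul, hAc.w w0 hw0, sgn_smul_smul]
  · intro k hk M hM
    have h1 := hxc k hk
    rw [hx, hM.conj] at h1
    have h2 := hconj hAc k hk M hM
    have h3 : (t * u)⁻¹ * conjE Q M (t * u) = 1 := by
      apply hsc
      · rw [← el_eq_one_iff e, map_mul, map_inv, h1, inv_mul_cancel]
      · have h4 := hUU hAc h2
        have h5 := (mem_UU.1 h4).w w0 hw0
        rw [Units.val_one, one_smul] at h5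
        exact h5
    rw [inv_mul_eq_one] at h3
    exact h3.symm

end Fx

/-! ### `z` on the `+1`-eigenspace of `x`, `1` on the `-1`-eigenspace -/

section Pt

variable {F V : Type*} [Field F] [AddCommGroup V] [Module F V] {Q : QuadraticForm F V}

/-- `z` on the `+1`-eigenspace of `x`, `1` on the `-1`-eigenspace -/
def ptLin (x z : V ≃ₗ[F] V) : V →ₗ[F] V :=
  (2 : F)⁻¹ • ((z : V →ₗ[F] V).comp (LinearMap.id + (x : V →ₗ[F] V)) + (LinearMap.id - (x : V →ₗ[F] V)))

theorem ptLin_apply (x z : V ≃ₗ[F] V) (v : V) :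
    ptLin x z v = (2 : F)⁻¹ • (z (v + x v) + (v - x v)) := rfl

theorem ptLin_plus (h2 : (2 : F) ≠ 0) {x z : V ≃ₗ[F] V} {v : V} (h : x v = v) : ptLin x z v = z v := by
  rw [ptLin_apply, h, sub_self, add_zero, ← two_smul F v, map_smul, smul_smul, inv_mul_cancel₀ h2, one_smul]

theorem ptLin_minus (h2 : (2 : F) ≠ 0) {x z : V ≃ₗ[F] V} {v : V} (h : x v = -v) : ptLin x z v = v := by
  rw [ptLin_apply, h, add_neg_cancel, map_zero, zero_add, sub_neg_eq_add, ← two_smul F v, smul_smul,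
    inv_mul_cancel₀ h2, one_smul]

theorem decomp (h2 : (2 : F) ≠ 0) {x : V ≃ₗ[F] V} (hx : x * x = 1) (v : V) :
    ∃ a b, v = a + b ∧ x a = a ∧ x b = -b := by
  have hxx : ∀ v, x (x v) = v := fun v => by
    have := LinearEquiv.congr_fun hx v
    exact this
  refine ⟨(2 : F)⁻¹ • (v + x v), (2 : F)⁻¹ • (v - x v), ?_, ?_, ?_⟩
  · rw [← smul_add]
    have : v + x v + (v - x v) = (2 : F) • v := by module
    rw [this, smul_smul, inv_mul_cancel₀ h2, one_smul]
  · rw [map_smul, map_add, hxx, add_comm]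
  · rw [map_smul, map_sub, hxx, ← smul_neg, neg_sub]

theorem ptLin_comp (h2 : (2 : F) ≠ 0) {x z z' : V ≃ₗ[F] V} (hx : x * x = 1) (hc : ∀ v, x (z' v) = z' (x v)) (v : V) :
    ptLin x z (ptLin x z' v) = ptLin x (z * z') v := by
  obtain ⟨a, b, rfl, ha, hb⟩ := decomp h2 hx v
  have h1 : x (z' a) = z' a := by rw [hc, ha]
  rw [map_add, ptLin_plus h2 ha, ptLin_minus h2 hb, map_add, ptLin_plus h2 h1, ptLin_minus h2 hb, map_add,
    ptLin_plus h2 ha, ptLin_minus h2 hb]
  rfl

/-- the linear equivalence -/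
def pt (h2 : (2 : F) ≠ 0) (x z : V ≃ₗ[F] V) (hx : x * x = 1) (hc : ∀ v, x (z v) = z (x v)) : V ≃ₗ[F] V :=
  LinearEquiv.ofLinearMap (ptLin x z) (ptLin x z⁻¹)
    (by
      have hc' : ∀ v, x (z⁻¹ v) = z⁻¹ (x v) := fun v => by
        apply z.injective
        have e1 : z (z⁻¹ (x v)) = x v := z.apply_symm_apply _
        rw [e1, ← hc]
        congr 1
        exact z.apply_symm_apply v
      ext v
      rw [LinearMap.comp_apply, ptLin_comp h2 hx hc', mul_inv_cancel]
      obtain ⟨a, b, rfl, ha, hb⟩ := decomp h2 hx v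
      rw [map_add, ptLin_plus h2 ha, ptLin_minus h2 hb]; rfl)
    (by
      ext v
      rw [LinearMap.comp_apply, ptLin_comp h2 hx hc, inv_mul_cancel]
      obtain ⟨a, b, rfl, ha, hb⟩ := decomp h2 hx v
      rw [map_add, ptLin_plus h2 ha, ptLin_minus h2 hb]; rfl)

theorem pt_plus (h2 : (2 : F) ≠ 0) {x z : V ≃ₗ[F] V} (hx : x * x = 1) (hc : ∀ v, x (z v) = z (x v)) {v : V}
    (h : x v = v) : pt h2 x z hx hc v = z v := ptLin_plus h2 h

theorem pt_minus (h2 : (2 : F) ≠ 0) {x z : V ≃ₗ[F] V} (hx : x * x = 1) (hc : ∀ v, x (z v) = z (x v)) {v : V}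
    (h : x v = -v) : pt h2 x z hx hc v = v := ptLin_minus h2 h

theorem pt_pow (h2 : (2 : F) ≠ 0) {x z : V ≃ₗ[F] V} (hx : x * x = 1) (hc : ∀ v, x (z v) = z (x v)) (n : ℕ)
    (hn : z ^ n = 1) : pt h2 x z hx hc ^ n = 1 := by
  have key : ∀ (n : ℕ) (a b : V), x a = a → x b = -b → (pt h2 x z hx hc ^ n) (a + b) = (z ^ n) a + b := by
    intro n
    induction n with
    | zero => intro a b _ _; rfl
    | succ n ih =>
      intro a b ha hb
      rw [pow_succ, pow_succ]
      show (pt h2 x z hx hc ^ n) (pt h2 x z hx hc (a + b)) = (z ^ n) (z a) + b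
      rw [map_add, pt_plus h2 hx hc ha, pt_minus h2 hx hc hb, ih _ _ (by rw [hc, ha]) hb]
  ext v
  obtain ⟨a, b, rfl, ha, hb⟩ := decomp h2 hx v
  rw [key n a b ha hb, hn]
  rfl

theorem pt_mem_O (h2 : (2 : F) ≠ 0) {x z : V ≃ₗ[F] V} (hx : x * x = 1) (hc : ∀ v, x (z v) = z (x v))
    (hxO : x ∈ O Q) (hzO : z ∈ O Q) : pt h2 x z hx hc ∈ O Q := by
  have hperp : ∀ a b, x a = a → x b = -b → polar Q a b = 0 := by
    intro a b ha hb
    have h1 := polar_map hxO a b
    rw [ha, hb, polar_neg_right] at h1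
    have h3 : (2 : F) * polar Q a b = 0 := by linear_combination -h1
    exact (mul_eq_zero.1 h3).resolve_left h2
  intro v
  obtain ⟨a, b, rfl, ha, hb⟩ := decomp h2 hx v
  rw [map_add, pt_plus h2 hx hc ha, pt_minus h2 hx hc hb, Q_add, Q_add, mem_O.1 hzO, hperp a b ha hb,
    hperp _ b (by rw [hc, ha]) hb]

theorem conjLin_pt (h2 : (2 : F) ≠ 0) {x z : V ≃ₗ[F] V} (hx : x * x = 1) (hc : ∀ v, x (z v) = z (x v)) (M : Gam Q)
    (h1 : conjLin M x = x) (h3 : conjLin M z = z) : conjLin M (pt h2 x z hx hc) = pt h2 x z hx hc := by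
  have hMx : ∀ v, M.1 (x v) = x (M.1 v) := fun v => by rw [← conjLin_apply' M x, h1]
  have hMz : ∀ v, M.1 (z v) = z (M.1 v) := fun v => by rw [← conjLin_apply' M z, h3]
  ext v
  obtain ⟨v, rfl⟩ := M.1.surjective v
  obtain ⟨a, b, rfl, ha, hb⟩ := decomp h2 hx v
  have ha' : x (M.1 a) = M.1 a := by rw [← hMx, ha]
  have hb' : x (M.1 b) = -M.1 b := by
    rw [← hMx, hb]
    have := gam_zsmul M (-1) b
    rwa [neg_one_smul, neg_one_smul] at this
  rw [conjLin_apply', map_add, pt_plus h2 hx hc ha, pt_minus h2 hx hc hb, add_of_mem M.2, add_of_mem M.2, map_add,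
    pt_plus h2 hx hc ha', pt_minus h2 hx hc hb', hMz]

end Pt

end Cfsg.Agent.H502.Car
end

-- part: H502/Car/Kill
section
/-!
# No `K`-invariant chains in characteristic three (helper502, S3852)
-/

set_option autoImplicit false
set_option linter.unusedSectionVars false

namespace Cfsg.Agent.H502.Car

open QuadraticMap Cfsg.Agent.LieClassical.OrthCore Cfsg.Agent.LieClassical.OrthTrans
  Cfsg.Agent.LieClassical.OrthSimple Cfsg.Agent.ClassicalGeometry.OrthSemi
  Cfsg.Agent.ClassicalGeometry.OrthAut1 Cfsg.Agent.H989.OutOrth.Basic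
open Subgroup Pointwise Cfsg.Agent.Solvable.Carter Cfsg.Agent.H18.Carter Cfsg.Agent.H381.Car

universe u

variable {F V : Type*} [Field F] [AddCommGroup V] [Module F V] {Q : QuadraticForm F V}

/-- isometries of odd order lie in `E Q` -/
theorem mem_E_of_odd [FiniteDimensional F V] (hG : Good Q) {g : V ≃ₗ[F] V} (hg : g ∈ O Q) {n : ℕ} (hn : Odd n)
    (h : g ^ n = 1) : g ∈ E Q := by
  obtain ⟨k, rfl⟩ := hn
  have h1 : g = g ^ (k + 1) * g ^ (k + 1) := by
    rw [← pow_add]
    have : k + 1 + (k + 1) = 2 * k + 1 + 1 := by ring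
    rw [this, pow_succ, h, one_mul]
  rw [h1]
  exact Cfsg.Agent.H749.sq_mem_E hG (pow_mem hg _)

section

variable {G : Type u} [Group G] [Finite G] {S : Subgroup G} [S.Normal]

theorem commute_of_fx {e : S ≃* P Q} {K : Subgroup G} (hs : ∀ g : G, ∃ M : Gam Q, Lf e g M) (hK : IsCarter K)
    {x z : ↥(E Q)} (hx : Fx e K x) (hz : Fx e K z) (v : V) : x.1 (z.1 v) = z.1 (x.1 v) := by
  have h1 := hz _ (hx.mem hs hK) _ (lf_el e x)
  have h2 : conjLin (ofO Q ⟨x, E_le_O x.2⟩) z.1 = z.1 := congrArg Subtype.val h1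
  have h3 := conjLin_apply' (ofO Q ⟨x, E_le_O x.2⟩) z.1 v
  rw [h2] at h3
  exact h3.symm

/-- `z` on the `+1`-eigenspace of `x`, `1` on the other one, is again fixed by `K` -/
theorem exists_pt [FiniteDimensional F V] (hG : Good Q) (h2 : (2 : F) ≠ 0) {e : S ≃* P Q} {K : Subgroup G}
    {n : ℕ} (hn : Odd n) {x : V ≃ₗ[F] V} (hxO : x ∈ O Q) (hx : x * x = 1)
    (hxK : ∀ k ∈ K, ∀ M : Gam Q, Lf e k M → conjLin M x = x) {z : ↥(E Q)} (hz : z ^ n = 1) (hzK : Fx e K z)
    (hc : ∀ v, x (z.1 v) = z.1 (x v)) :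
    ∃ z' : ↥(E Q), z' ^ n = 1 ∧ Fx e K z' ∧ (∀ v, x v = v → z'.1 v = z.1 v) ∧ (∀ v, x v = -v → z'.1 v = v) := by
  have hz' : z.1 ^ n = 1 := congrArg Subtype.val hz
  have h1 := pt_mem_O h2 hx hc hxO (E_le_O z.2)
  have h3 := pt_pow h2 hx hc n hz'
  refine ⟨⟨pt h2 x z.1 hx hc, mem_E_of_odd hG h1 hn h3⟩, Subtype.ext h3, ?_, fun v hv => pt_plus h2 hx hc hv,
    fun v hv => pt_minus h2 hx hc hv⟩
  intro k hk M hM
  apply Subtype.ext
  exact conjLin_pt h2 hx hc M (hxK k hk M hM) (congrArg Subtype.val (hzK k hk M hM))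

/-- elements of order three fixing a hyperbolic pair are real -/
def RealHyp (Q : QuadraticForm F V) : Prop :=
  ∀ z ∈ O Q, z ^ 3 = 1 → (∃ a b, Hyp Q a b ∧ z a = a ∧ z b = b) → ∃ h ∈ E Q, h * z * h⁻¹ = z⁻¹

/-- the partner of a singular eigenvector in the same eigenspace -/
theorem exists_partner_eig (hG : Good Q) (h2 : (2 : F) ≠ 0) {x : V ≃ₗ[F] V} (hxO : x ∈ O Q) (hx : x * x = 1)
    {s : ℤˣ} {u : V} (hu : Q u = 0) (hu0 : u ≠ 0) (hxu : x u = (s : ℤ) • u) :
    ∃ w, Hyp Q u w ∧ x w = (s : ℤ) • w := by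
  obtain ⟨y, hy⟩ := exists_hyp hG.nondeg hu hu0
  have hxx : ∀ v, x (x v) = v := fun v => LinearEquiv.congr_fun hx v
  obtain ⟨y', hy'⟩ : ∃ y', y' = (2 : F)⁻¹ • (y + (s : ℤ) • x y) := ⟨_, rfl⟩
  have h1 : x y' = (s : ℤ) • y' := by
    have e1 : (s : ℤ) • ((2 : F)⁻¹ • (y + (s : ℤ) • x y)) = (2 : F)⁻¹ • ((s : ℤ) • y + (s : ℤ) • (s : ℤ) • x y) := by
      rw [smul_comm (s : ℤ) (2 : F)⁻¹, smul_add]
    rw [hy', e1, sgn_smul_smul, map_smul, map_add, map_zsmul, hxx, add_comm]
  have h3 : polar Q u y' = 1 := by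
    have h4 : polar Q u (x y) = (s : ℤ) • 1 := by
      have h5 := polar_map hxO u (x y)
      rw [hxx, hxu, ← Int.cast_smul_eq_zsmul F, polar_smul_left, hy.pair] at h5
      rw [← h5, Int.cast_smul_eq_zsmul]
    have h6 : polar Q u ((s : ℤ) • x y) = 1 := by
      rw [← Int.cast_smul_eq_zsmul F, polar_smul_right, h4, Int.cast_smul_eq_zsmul, sgn_smul_smul]
    rw [hy', polar_smul_right, polar_add_right, hy.pair, h6, smul_eq_mul, one_add_one_eq_two, inv_mul_cancel₀ h2]
  refine ⟨y' - Q y' • u, ⟨hu, ?_, ?_⟩, ?_⟩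
  · have h4 : polar Q y' u = 1 := by rw [polar_comm]; exact h3
    rw [sub_eq_add_neg, ← neg_smul, Q_add, QuadraticMap.map_smul, hu, polar_smul_right, h4, smul_eq_mul, smul_eq_mul]
    ring
  · rw [polar_sub_right, polar_smul_right, polar_self_of_sing hu, h3, smul_zero, sub_zero]
  · rw [map_sub, map_smul, h1, hxu, smul_sub, smul_comm (Q y')]

/-- **No chains.** -/
theorem no_chain [FiniteDimensional F V] (hG : Good Q) [CharP F 3] (hreal : RealHyp Q) (c : Ctx G S)
    {K : Subgroup G} (hK : IsCarter K) (e : S ≃* P Q) (hs : ∀ g : G, ∃ M : Gam Q, Lf e g M) {z : ↥(E Q)}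
    (hz : z ^ 3 = 1) (hzK : Fx e K z) {W R : Submodule F V} (hR : Ts Q R) (hWR : W ≤ R) (hW0 : W ≠ ⊥) (hne : W ≠ R)
    (hWK : Iv e K W) (hRK : Iv e K R) (hRz : ∀ r ∈ R, ∃ v, z.1 v - v = r)
    (hpar : Even (Module.finrank F W) ∨ Even (Module.finrank F R - Module.finrank F W)) : False := by
  haveI : Fact (Nat.Prime 3) := ⟨Nat.prime_three⟩
  have h2 : (2 : F) ≠ 0 := by
    intro h
    have h1 : ((2 : ℕ) : F) = 0 := by exact_mod_cast h
    rw [CharP.cast_eq_zero_iff F 3] at h1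
    omega
  obtain ⟨a, b, hab, t, ht⟩ : ∃ a b : ℤˣ, b = -a ∧ ∃ t : ↥(E Q), Ac Q W R a b t.1 := by
    rcases hpar with h | h
    · exact ⟨-1, 1, (neg_neg 1).symm, exists_ac hG hR hWR (Or.inr h) (Or.inl rfl)⟩
    · exact ⟨1, -1, rfl, exists_ac hG hR hWR (Or.inl rfl) (Or.inr h)⟩
  obtain ⟨x, hx, hAc, hxK⟩ := exists_fx hG c hK e hs (p := 3) (by norm_num) hWR hW0 hWK hRK ht
  have hx' : x.1 * x.1 = 1 := congrArg Subtype.val hx
  have hxx : ∀ v, x.1 (x.1 v) = v := fun v => LinearEquiv.congr_fun hx' v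
  -- eigenvectors in `R`
  obtain ⟨w0, hw0, hw00⟩ := Submodule.exists_mem_ne_zero_of_ne_bot hW0
  have hAw := hAc.w w0 hw0
  obtain ⟨r0, hr0, hr0W⟩ : ∃ r ∈ R, r ∉ W := by
    by_contra hcon
    push Not at hcon
    exact hne (le_antisymm hWR hcon)
  obtain ⟨r1, hr1⟩ : ∃ r1, r1 = r0 + (b : ℤ) • x.1 r0 := ⟨_, rfl⟩
  have hxr1 : x.1 r1 = (b : ℤ) • r1 := by
    rw [hr1, map_add, map_zsmul, hxx, smul_add, sgn_smul_smul, add_comm]
  have hr1R : r1 ∈ R := by
    have h3 := hAc.r r0 hr0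
    have h4 : x.1 r0 ∈ R := by
      have : x.1 r0 = (x.1 r0 - (b : ℤ) • r0) + (b : ℤ) • r0 := by abel
      rw [this]; exact R.add_mem (hWR h3) (zsmul_mem' _ hr0)
    rw [hr1]; exact R.add_mem hr0 (zsmul_mem' _ h4)
  have hr1W : r1 ∉ W := by
    intro h3
    apply hr0W
    have h4 := hAc.r r0 hr0
    have e1 : r0 = (2 : F)⁻¹ • (r1 - (b : ℤ) • (x.1 r0 - (b : ℤ) • r0)) := by
      have h5 : (b : ℤ) • (x.1 r0 - (b : ℤ) • r0) = (b : ℤ) • x.1 r0 - r0 := by rw [smul_sub, sgn_smul_smul]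
      rw [h5, hr1]
      have : r0 + (b : ℤ) • x.1 r0 - ((b : ℤ) • x.1 r0 - r0) = (2 : F) • r0 := by
        rw [two_smul]; abel
      rw [this, smul_smul, inv_mul_cancel₀ h2, one_smul]
    rw [e1]
    exact W.smul_mem _ (W.sub_mem h3 (zsmul_mem' _ h4))
  have hr10 : r1 ≠ 0 := fun h => hr1W (by rw [h]; exact W.zero_mem)
  -- `u1` fixed by `x`, `u2` negated
  obtain ⟨u1, u2, hu1R, hu2R, hu10, hu20, hxu1, hxu2⟩ : ∃ u1 u2, u1 ∈ R ∧ u2 ∈ R ∧ u1 ≠ 0 ∧ u2 ≠ 0 ∧
      x.1 u1 = ((1 : ℤˣ) : ℤ) • u1 ∧ x.1 u2 = ((-1 : ℤˣ) : ℤ) • u2 := by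
    rcases Int.units_eq_one_or a with ha | ha
    · subst ha
      subst hab
      exact ⟨w0, r1, hWR hw0, hr1R, hw00, hr10, hAw, hxr1⟩
    · subst ha
      rw [neg_neg] at hab
      subst hab
      exact ⟨r1, w0, hr1R, hWR hw0, hr10, hw00, hxr1, hAw⟩
  obtain ⟨w, hw, hxw⟩ := exists_partner_eig hG h2 (E_le_O x.2) hx' (hR u2 hu2R) hu20 hxu2
  have hneg : ∀ v : V, ((-1 : ℤˣ) : ℤ) • v = -v := fun v => by
    rw [Units.val_neg, Units.val_one, neg_smul, one_smul]
  rw [hneg] at hxu2 hxw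
  rw [Units.val_one, one_smul] at hxu1
  obtain ⟨z', hz'3, hz'K, hz'1, hz'2⟩ := exists_pt hG h2 (n := 3) (by decide) (E_le_O x.2) hx'
    (fun k hk M hM => congrArg Subtype.val (hxK k hk M hM)) hz hzK (commute_of_fx hs hK hxK hzK)
  obtain ⟨h, hh, hhz⟩ := hreal z'.1 (E_le_O z'.2) (congrArg Subtype.val hz'3) ⟨u2, w, hw, hz'2 _ hxu2, hz'2 _ hxw⟩
  have h3 : (⟨h, hh⟩ : ↥(E Q)) * z' * (⟨h, hh⟩ : ↥(E Q))⁻¹ = z' ^ 2 := by
    have e1 : z' ^ 2 = z'⁻¹ := by
      rw [eq_inv_iff_mul_eq_one, ← pow_succ, hz'3]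
    rw [e1]
    exact Subtype.ext hhz
  have h4 := no_conj_pow hG c hs hK (n := 3) (by decide) hz'3 hz'K h3
  have h5 : z' = 1 := by
    have := hz'3
    rw [pow_succ, h4, ← pow_two, h4] at this
    exact this
  -- `z' ≠ 1`
  obtain ⟨v, hv⟩ := hRz u1 hu1R
  obtain ⟨v1, v2, rfl, hv1, hv2⟩ := decomp h2 hx' v
  have h6 := hz'1 v1 hv1
  rw [h5] at h6
  have h6' : z.1 v1 = v1 := h6.symm
  have hc := commute_of_fx hs hK hxK hzK
  have h7 : x.1 u1 = -u1 := by
    rw [← hv, map_add, h6', map_sub, map_add, map_add, hv1, hv2, hc, hv2, map_neg]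
    abel
  rw [hxu1] at h7
  have h8 : (2 : F) • u1 = 0 := by
    rw [two_smul]
    nth_rewrite 1 [h7]
    exact neg_add_cancel u1
  exact hu10 ((smul_eq_zero.1 h8).resolve_left h2)

end

end Cfsg.Agent.H502.Car
end
end

-- part: H502/Car/RealD
section
prune_inst 0x557041005ce0100000002000b2001e62b2000020000808000060060407888c620500a860a02004021aa28c0500310060031000100240000004000000011c018000000204b1488000000010000100000000000000000000000000000000000000000000000
set_option linter.all false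
open scoped Cfsg.Agent.FastGrp

-- part: H502/Car/Real
section
/-!
# Reality of elements of order three of orthogonal groups in characteristic three (helper502, S3852)
-/

set_option autoImplicit false
set_option linter.unusedSectionVars false

namespace Cfsg.Agent.H502.Car

open QuadraticMap Cfsg.Agent.LieClassical.OrthCore Cfsg.Agent.LieClassical.OrthTrans
open Cfsg.Agent.FooteOrth

/-! ### skew maps -/

section Skew

variable {F V : Type*} [Field F] [AddCommGroup V] [Module F V] {Q : QuadraticForm F V}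

/-- `M` is skew for the polar form -/
def Skw (Q : QuadraticForm F V) (M : V →ₗ[F] V) : Prop := ∀ u v, polar Q (M u) v = -polar Q u (M v)

/-- the polar form is nondegenerate on `U` -/
def Nd (Q : QuadraticForm F V) (U : Submodule F V) : Prop := ∀ u ∈ U, (∀ v ∈ U, polar Q u v = 0) → u = 0

theorem exists_proj [FiniteDimensional F V] {U : Submodule F V} (hU : Nd Q U) (v : V) :
    ∃ u ∈ U, ∀ w ∈ U, polar Q (v - u) w = 0 := by
  let f : U →ₗ[F] (U →ₗ[F] F) :=
    (LinearMap.lcomp F F U.subtype).comp ((polarBilin Q).comp U.subtype)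
  have hf : ∀ u w : U, f u w = polar Q u w := fun _ _ => rfl
  have hinj : Function.Injective f := by
    rw [injective_iff_map_eq_zero]
    intro u hu
    apply Subtype.ext
    apply hU u u.2
    intro w hw
    have := LinearMap.congr_fun hu ⟨w, hw⟩
    rwa [hf] at this
  have hsurj : Function.Surjective f := by
    have h1 : Module.finrank F U = Module.finrank F (U →ₗ[F] F) := (Subspace.dual_finrank_eq (K := F) (V := U)).symm
    exact (LinearMap.injective_iff_surjective_of_finrank_eq_finrank h1).1 hinj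
  obtain ⟨u, hu⟩ := hsurj ((polarBilin Q v).comp U.subtype)
  refine ⟨u, u.2, fun w hw => ?_⟩
  have h1 := LinearMap.congr_fun hu ⟨w, hw⟩
  rw [hf] at h1
  rw [polar_sub_left, h1]
  exact sub_self _

/-- the subspace perpendicular to `U₁` inside `U` -/
def perpIn (Q : QuadraticForm F V) (U U₁ : Submodule F V) : Submodule F V where
  carrier := {v | v ∈ U ∧ ∀ w ∈ U₁, polar Q v w = 0}
  add_mem' h h' := ⟨U.add_mem h.1 h'.1, fun w hw => by rw [polar_add_left, h.2 w hw, h'.2 w hw, add_zero]⟩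
  zero_mem' := ⟨U.zero_mem, fun w _ => by rw [polar_zero_left]⟩
  smul_mem' c v h := ⟨U.smul_mem c h.1, fun w hw => by rw [polar_smul_left, h.2 w hw, smul_zero]⟩

/-- a building block: `g = refl x * refl y` inverts `M` on `U₁` -/
structure Piece (Q : QuadraticForm F V) (M : V →ₗ[F] V) (U₁ : Submodule F V) (x y : V) : Prop where
  inv : ∀ u ∈ U₁, M u ∈ U₁
  nd : Nd Q U₁
  ne : Q x ≠ 0
  ne' : Q y ≠ 0
  neg : Q y = -Q x
  hx : x ∈ U₁
  hy : y ∈ U₁
  rel : ∀ u ∈ U₁, (refl Q x ne * refl Q y ne') (M u) = -M ((refl Q x ne * refl Q y ne') u)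
  rk : Module.finrank F (U₁.map M) = 2

/-- `refl x * refl y` for orthogonal `x`, `y` -/
theorem refl_refl_apply {x y : V} (hx : Q x ≠ 0) (hy : Q y ≠ 0) (hxy : polar Q x y = 0) (v : V) :
    (refl Q x hx * refl Q y hy) v = v - ((Q x)⁻¹ * polar Q x v) • x - ((Q y)⁻¹ * polar Q y v) • y := by
  show refl Q x hx (refl Q y hy v) = _
  rw [refl_apply, refl_apply, polar_sub_right, polar_smul_right, hxy, smul_zero, sub_zero, sub_right_comm]

theorem refl_perp {x : V} (hx : Q x ≠ 0) {v : V} (h1 : polar Q x v = 0) : refl Q x hx v = v := by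
  rw [refl_apply, h1, mul_zero, zero_smul, sub_zero]

theorem refl_refl_perp {x y : V} (hx : Q x ≠ 0) (hy : Q y ≠ 0) {v : V} (h1 : polar Q x v = 0)
    (h2 : polar Q y v = 0) : (refl Q x hx * refl Q y hy) v = v := by
  show refl Q x hx (refl Q y hy v) = _
  rw [refl_perp hy h2, refl_perp hx h1]

theorem refl_mem {x : V} (hx : Q x ≠ 0) {U : Submodule F V} (hxU : x ∈ U) {v : V} (hv : v ∈ U) :
    refl Q x hx v ∈ U := by
  rw [refl_apply]; exact U.sub_mem hv (U.smul_mem _ hxU)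

theorem finrank_pair {p q : V} (h : ∀ a b : F, a • p + b • q = 0 → a = 0 ∧ b = 0) :
    Module.finrank F (Submodule.span F {p, q}) = 2 := by
  have h1 : LinearIndependent F ![p, q] := LinearIndependent.pair_iff.2 h
  have h2 := finrank_span_eq_card h1
  have h3 : Set.range ![p, q] = {p, q} := by
    simp only [Matrix.range_cons, Matrix.range_empty, Set.union_empty, Set.singleton_union]
  rw [h3, Fintype.card_fin] at h2
  exact h2

theorem Skw.sq {M : V →ₗ[F] V} (h : Skw Q M) (u v : V) : polar Q (M (M u)) v = polar Q u (M (M v)) := by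
  rw [h, h, neg_neg]

theorem Skw.self (h2 : (2 : F) ≠ 0) {M : V →ₗ[F] V} (h : Skw Q M) (u : V) : polar Q u (M u) = 0 := by
  have h1 := h u u
  rw [polar_comm] at h1
  have h3 : (2 : F) * polar Q u (M u) = 0 := by linear_combination h1
  exact (mul_eq_zero.1 h3).resolve_left h2

theorem Q_eq_zero (h2 : (2 : F) ≠ 0) {u : V} (h : polar Q u u = 0) : Q u = 0 := by
  rw [polar_self'] at h
  exact (mul_eq_zero.1 h).resolve_left h2

/-- a block of size three -/
theorem piece_three (h2 : (2 : F) ≠ 0) {M : V →ₗ[F] V} (hM : Skw Q M) (hM3 : ∀ v, M (M (M v)) = 0) {U : Submodule F V}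
    (hi : ∀ u ∈ U, M u ∈ U) {u : V} (hu : u ∈ U) (hb : polar Q u (M (M u)) ≠ 0) :
    ∃ (U₁ : Submodule F V) (x y : V), U₁ ≤ U ∧ Piece Q M U₁ x y := by
  obtain ⟨β, hβ⟩ : ∃ β, β = polar Q u (M (M u)) := ⟨_, rfl⟩
  rw [← hβ] at hb
  obtain ⟨f, hf⟩ : ∃ f, f = M (M u) := ⟨_, rfl⟩
  obtain ⟨e, he⟩ : ∃ e, e = u - (β⁻¹ * Q u) • f := ⟨_, rfl⟩
  have hMf : M f = 0 := by rw [hf, hM3]
  have hMe : M (M e) = f := by rw [he, map_sub, map_sub, map_smul, map_smul, hMf, map_zero, smul_zero, sub_zero, ← hf]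
  have hff : polar Q f f = 0 := by
    nth_rewrite 1 [hf]
    rw [hM.sq, hMf, map_zero, polar_zero_right]
  have hQf : Q f = 0 := Q_eq_zero h2 hff
  have huf : polar Q u f = β := by rw [hf, hβ]
  have hef : polar Q e f = β := by rw [he, polar_sub_left, polar_smul_left, hff, smul_zero, sub_zero, huf]
  have hfe : polar Q f e = β := by rw [polar_comm]; exact hef
  have hQe : Q e = 0 := by
    rw [he, sub_eq_add_neg, ← neg_smul, Q_add, QuadraticMap.map_smul, hQf, polar_smul_right, huf, smul_eq_mul,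
      smul_eq_mul]
    field_simp
    ring
  have hee : polar Q e e = 0 := polar_self_of_sing hQe
  have hem : polar Q e (M e) = 0 := hM.self h2 e
  have hme : polar Q (M e) e = 0 := by rw [polar_comm]; exact hem
  have hmm : polar Q (M e) (M e) = -β := by rw [hM, hMe, hef]
  have hfm : polar Q f (M e) = 0 := by
    have := hM f e
    rw [hMf, polar_zero_left] at this
    rw [← neg_eq_zero, ← this]
  have hmf : polar Q (M e) f = 0 := by rw [polar_comm]; exact hfm
  have hQx : Q (e + f) = β := by rw [Q_add, hQe, hQf, hef]; ring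
  have hQy : Q (e - f) = -β := by
    rw [sub_eq_add_neg, Q_add, QuadraticMap.map_neg, hQe, hQf, polar_neg_right, hef]; ring
  have hx : Q (e + f) ≠ 0 := by rw [hQx]; exact hb
  have hy : Q (e - f) ≠ 0 := by rw [hQy]; exact neg_ne_zero.2 hb
  have hxy : polar Q (e + f) (e - f) = 0 := by
    rw [polar_add_left, polar_sub_right, polar_sub_right, hee, hef, hfe, hff]; ring
  have hg : ∀ v, (refl Q _ hx * refl Q _ hy) v = v - (β⁻¹ * polar Q (e + f) v) • (e + f)
      - ((-β)⁻¹ * polar Q (e - f) v) • (e - f) := by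
    intro v
    rw [refl_refl_apply hx hy hxy, hQx, hQy]
  have hge : (refl Q _ hx * refl Q _ hy) e = -e := by
    rw [hg, polar_add_left, polar_sub_left, hee, hfe, zero_add, zero_sub, inv_mul_cancel₀ hb,
      inv_mul_cancel₀ (neg_ne_zero.2 hb)]
    module
  have hgf : (refl Q _ hx * refl Q _ hy) f = -f := by
    have e1 : (-β)⁻¹ * β = -1 := by
      rw [inv_neg, neg_mul, inv_mul_cancel₀ hb]
    rw [hg, polar_add_left, polar_sub_left, hef, hff, add_zero, sub_zero, inv_mul_cancel₀ hb, e1]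
    module
  have hgm : (refl Q _ hx * refl Q _ hy) (M e) = M e := by
    apply refl_refl_perp
    · rw [polar_add_left, hem, hfm, add_zero]
    · rw [polar_sub_left, hem, hfm, sub_zero]
  have heU : e ∈ U := by
    rw [he]
    refine U.sub_mem hu (U.smul_mem _ ?_)
    rw [hf]; exact hi _ (hi _ hu)
  have hmU : M e ∈ U := hi _ heU
  have hfU : f ∈ U := by rw [hf]; exact hi _ (hi _ hu)
  have hMspan : ∀ a b c : F, M (a • e + b • M e + c • f) = a • M e + b • f := by
    intro a b c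
    rw [map_add, map_add, map_smul, map_smul, map_smul, hMe, hMf, smul_zero, add_zero]
  have hind : ∀ a b : F, a • M e + b • f = 0 → a = 0 ∧ b = 0 := by
    intro a b h
    constructor
    · have h1 := congrArg (polar Q (M e)) h
      rw [polar_add_right, polar_smul_right, polar_smul_right, hmm, hmf, smul_zero, add_zero, polar_zero_right,
        smul_eq_mul] at h1
      rcases mul_eq_zero.1 h1 with h3 | h3
      · exact h3
      · exact absurd (neg_eq_zero.1 h3) hb
    · have h1 := congrArg (polar Q e) h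
      rw [polar_add_right, polar_smul_right, polar_smul_right, hem, hef, smul_zero, zero_add, polar_zero_right,
        smul_eq_mul] at h1
      exact (mul_eq_zero.1 h1).resolve_right hb
  have hmem : ∀ a b c : F, a • e + b • M e + c • f ∈ Submodule.span F {e, M e, f} := fun a b c =>
    Submodule.mem_span_triple.2 ⟨a, b, c, rfl⟩
  refine ⟨Submodule.span F {e, M e, f}, e + f, e - f, ?_, ?_, ?_, hx, hy, by rw [hQx, hQy], ?_, ?_, ?_, ?_⟩
  · rw [Submodule.span_le]
    rintro v (rfl | rfl | rfl)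
    · exact heU
    · exact hmU
    · exact hfU
  · intro v hv
    obtain ⟨a, b, c, rfl⟩ := Submodule.mem_span_triple.1 hv
    rw [hMspan]
    have := hmem 0 a b
    rwa [zero_smul, zero_add] at this
  · intro v hv h
    obtain ⟨a, b, c, rfl⟩ := Submodule.mem_span_triple.1 hv
    have h1 := h f (by have := hmem 0 0 1; rwa [zero_smul, zero_smul, zero_add, zero_add, one_smul] at this)
    have h3 := h (M e) (by have := hmem 0 1 0; rwa [zero_smul, zero_smul, zero_add, add_zero, one_smul] at this)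
    have h4 := h e (by have := hmem 1 0 0; rwa [zero_smul, zero_smul, add_zero, add_zero, one_smul] at this)
    simp only [polar_add_left, polar_smul_left, hef, hmf, hff, hem, hmm, hfm, hee, hme, hfe, smul_eq_mul, mul_zero,
      add_zero, zero_add] at h1 h3 h4
    have ha : a = 0 := (mul_eq_zero.1 h1).resolve_right hb
    have hb' : b = 0 := (mul_eq_zero.1 h3).resolve_right (neg_ne_zero.2 hb)
    have hc : c = 0 := (mul_eq_zero.1 h4).resolve_right hb
    rw [ha, hb', hc, zero_smul, zero_smul, zero_smul, add_zero, add_zero]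
  · have := hmem 1 0 1; rwa [zero_smul, one_smul, one_smul, add_zero] at this
  · have := hmem 1 0 (-1); rwa [zero_smul, one_smul, neg_one_smul, add_zero, ← sub_eq_add_neg] at this
  · intro v hv
    obtain ⟨a, b, c, rfl⟩ := Submodule.mem_span_triple.1 hv
    rw [hMspan]
    simp only [map_add, map_smul, hge, hgf, hgm, hMe, hMf, map_neg]
    module
  · have h1 : (Submodule.span F {e, M e, f}).map M = Submodule.span F {M e, f} := by
      rw [Submodule.map_span, Set.image_insert_eq, Set.image_pair, hMe, hMf]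
      apply le_antisymm
      · rw [Submodule.span_le]
        rintro v (rfl | rfl | rfl)
        · exact Submodule.subset_span (Set.mem_insert _ _)
        · exact Submodule.subset_span (Set.mem_insert_of_mem _ rfl)
        · exact Submodule.zero_mem _
      · apply Submodule.span_mono
        rintro v (rfl | rfl)
        · exact Set.mem_insert _ _
        · exact Set.mem_insert_of_mem _ (Set.mem_insert _ _)
    rw [h1]
    exact finrank_pair hind

/-- a pair of blocks of size two -/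
theorem piece_four (h2 : (2 : F) ≠ 0) {M : V →ₗ[F] V} (hM : Skw Q M) {U : Submodule F V}
    (hi : ∀ u ∈ U, M u ∈ U) (hM2 : ∀ u ∈ U, M (M u) = 0) {u w : V} (hu : u ∈ U) (hw : w ∈ U)
    (hb : polar Q u (M w) ≠ 0) : ∃ (U₁ : Submodule F V) (x y : V), U₁ ≤ U ∧ Piece Q M U₁ x y := by
  -- normalise
  obtain ⟨e, d, heU, hdU, hed⟩ : ∃ e d, e ∈ U ∧ d ∈ U ∧ polar Q e (M d) = 1 := by
    refine ⟨(polar Q u (M w))⁻¹ • u, w, U.smul_mem _ hu, hw, ?_⟩
    rw [polar_smul_left, smul_eq_mul, inv_mul_cancel₀ hb]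
  have hMM : ∀ u ∈ U, ∀ v, polar Q (M u) (M v) = 0 := by
    intro u hu v
    have h1 := hM (M u) v
    rw [hM2 u hu, polar_zero_left] at h1
    rw [← neg_eq_zero, ← h1]
  have hQM : ∀ u ∈ U, Q (M u) = 0 := fun u hu => Q_eq_zero h2 (hMM u hu u)
  obtain ⟨a, haU, hMa, hQa⟩ : ∃ a, a ∈ U ∧ M a = M e ∧ Q a = 0 := by
    refine ⟨e - Q e • M d, U.sub_mem heU (U.smul_mem _ (hi _ hdU)), ?_, ?_⟩
    · rw [map_sub, map_smul, hM2 d hdU, smul_zero, sub_zero]
    · rw [sub_eq_add_neg, ← neg_smul, Q_add, QuadraticMap.map_smul, hQM d hdU, polar_smul_right, hed, smul_eq_mul,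
        smul_eq_mul]
      ring
  have had : polar Q a (M d) = 1 := by
    have h1 := hM a d
    rw [hMa, hM, hed] at h1
    linear_combination h1
  obtain ⟨b, hbU, hMb, hQb⟩ : ∃ b, b ∈ U ∧ M b = M d ∧ Q b = 0 := by
    refine ⟨d + Q d • M a, U.add_mem hdU (U.smul_mem _ (hi _ haU)), ?_, ?_⟩
    · rw [map_add, map_smul, hM2 a haU, smul_zero, add_zero]
    · have h1 : polar Q d (M a) = -1 := by
        have h3 := hM a d
        rw [had, polar_comm] at h3
        exact h3
      rw [Q_add, QuadraticMap.map_smul, hQM a haU, polar_smul_right, h1, smul_eq_mul, smul_eq_mul]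
      ring
  have hab1 : polar Q a (M b) = 1 := by rw [hMb]; exact had
  obtain ⟨b', hb'U, hMb', hQb', hab'⟩ : ∃ b', b' ∈ U ∧ M b' = M b ∧ Q b' = 0 ∧ polar Q a b' = 0 := by
    refine ⟨b - polar Q a b • M b, U.sub_mem hbU (U.smul_mem _ (hi _ hbU)), ?_, ?_, ?_⟩
    · rw [map_sub, map_smul, hM2 b hbU, smul_zero, sub_zero]
    · rw [sub_eq_add_neg, ← neg_smul, Q_add, QuadraticMap.map_smul, hQM b hbU, hQb, polar_smul_right,
        hM.self h2 b, smul_zero, smul_zero, add_zero, add_zero]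
    · rw [polar_sub_right, polar_smul_right, hab1, smul_eq_mul, mul_one, sub_self]
  clear hed hQb hMb had
  have hab : polar Q a (M b') = 1 := by rw [hMb']; exact hab1
  clear hMb' hab1 hMa
  -- pairings
  have hba : polar Q b' (M a) = -1 := by
    have h3 := hM a b'
    rw [hab, polar_comm] at h3
    exact h3
  have p1 : polar Q a a = 0 := polar_self_of_sing hQa
  have p2 : polar Q b' b' = 0 := polar_self_of_sing hQb'
  have p3 : polar Q b' a = 0 := by rw [polar_comm]; exact hab'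
  have p4 : polar Q a (M a) = 0 := hM.self h2 a
  have p5 : polar Q b' (M b') = 0 := hM.self h2 b'
  have p6 : polar Q (M a) a = 0 := by rw [polar_comm]; exact p4
  have p7 : polar Q (M b') b' = 0 := by rw [polar_comm]; exact p5
  have p8 : polar Q (M a) b' = -1 := by rw [polar_comm]; exact hba
  have p9 : polar Q (M b') a = 1 := by rw [polar_comm]; exact hab
  have q1 := hMM a haU a
  have q2 := hMM a haU b'
  have q3 := hMM b' hb'U a
  have q4 := hMM b' hb'U b'
  have hMa2 := hM2 a haU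
  have hMb2 := hM2 b' hb'U
  have hQx : Q (b' + M a) = -1 := by rw [Q_add, hQb', hQM a haU, hba]; ring
  have hQy : Q (b' - M a) = 1 := by
    rw [sub_eq_add_neg, Q_add, QuadraticMap.map_neg, hQb', hQM a haU, polar_neg_right, hba]; ring
  have hx : Q (b' + M a) ≠ 0 := by rw [hQx]; exact neg_ne_zero.2 one_ne_zero
  have hy : Q (b' - M a) ≠ 0 := by rw [hQy]; exact one_ne_zero
  have hxy : polar Q (b' + M a) (b' - M a) = 0 := by
    rw [polar_add_left, polar_sub_right, polar_sub_right, p2, hba, p8, q1]; ring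
  have hg : ∀ v, (refl Q _ hx * refl Q _ hy) v = v - ((-1 : F)⁻¹ * polar Q (b' + M a) v) • (b' + M a)
      - ((1 : F)⁻¹ * polar Q (b' - M a) v) • (b' - M a) := by
    intro v
    rw [refl_refl_apply hx hy hxy, hQx, hQy]
  have hm1 : ((-1 : F))⁻¹ = -1 := by rw [inv_neg, inv_one]
  have hgb : (refl Q _ hx * refl Q _ hy) b' = -b' := by
    rw [hg, polar_add_left, polar_sub_left, p2, p8, hm1, inv_one]
    module
  have hgm : (refl Q _ hx * refl Q _ hy) (M a) = -M a := by
    rw [hg, polar_add_left, polar_sub_left, hba, q1, hm1, inv_one]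
    module
  have hga : (refl Q _ hx * refl Q _ hy) a = a := by
    apply refl_refl_perp
    · rw [polar_add_left, p3, p6, add_zero]
    · rw [polar_sub_left, p3, p6, sub_zero]
  have hgn : (refl Q _ hx * refl Q _ hy) (M b') = M b' := by
    apply refl_refl_perp
    · rw [polar_add_left, p5, q2, add_zero]
    · rw [polar_sub_left, p5, q2, sub_zero]
  obtain ⟨U₁, hU₁⟩ : ∃ U₁ : Submodule F V, U₁ = Submodule.span F {a, b'} ⊔ Submodule.span F {M a, M b'} := ⟨_, rfl⟩
  have hm : ∀ v, v ∈ U₁ ↔ ∃ r s t k : F, v = r • a + s • b' + (t • M a + k • M b') := by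
    intro v
    rw [hU₁, Submodule.mem_sup]
    constructor
    · rintro ⟨y, hy, z, hz, rfl⟩
      obtain ⟨r, s, rfl⟩ := Submodule.mem_span_pair.1 hy
      obtain ⟨t, k, rfl⟩ := Submodule.mem_span_pair.1 hz
      exact ⟨r, s, t, k, rfl⟩
    · rintro ⟨r, s, t, k, rfl⟩
      exact ⟨_, Submodule.mem_span_pair.2 ⟨r, s, rfl⟩, _, Submodule.mem_span_pair.2 ⟨t, k, rfl⟩, rfl⟩
  have hMspan : ∀ r s t k : F, M (r • a + s • b' + (t • M a + k • M b')) = r • M a + s • M b' := by
    intro r s t k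
    simp only [map_add, map_smul, hMa2, hMb2, smul_zero, add_zero]
  have hind : ∀ r s : F, r • M a + s • M b' = 0 → r = 0 ∧ s = 0 := by
    intro r s h
    constructor
    · have h1 := congrArg (polar Q b') h
      rw [polar_add_right, polar_smul_right, polar_smul_right, hba, p5, smul_zero, add_zero, polar_zero_right,
        smul_eq_mul, mul_neg_one, neg_eq_zero] at h1
      exact h1
    · have h1 := congrArg (polar Q a) h
      rw [polar_add_right, polar_smul_right, polar_smul_right, hab, p4, smul_zero, zero_add, polar_zero_right,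
        smul_eq_mul, mul_one] at h1
      exact h1
  refine ⟨U₁, b' + M a, b' - M a, ?_, ?_, ?_, hx, hy, by rw [hQx, hQy, neg_neg], ?_, ?_, ?_, ?_⟩
  · intro v hv
    obtain ⟨r, s, t, k, rfl⟩ := (hm v).1 hv
    exact U.add_mem (U.add_mem (U.smul_mem _ haU) (U.smul_mem _ hb'U))
      (U.add_mem (U.smul_mem _ (hi _ haU)) (U.smul_mem _ (hi _ hb'U)))
  · intro v hv
    obtain ⟨r, s, t, k, rfl⟩ := (hm v).1 hv
    rw [hMspan, hm]
    exact ⟨0, 0, r, s, by module⟩
  · intro v hv h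
    obtain ⟨r, s, t, k, rfl⟩ := (hm v).1 hv
    have h1 := h (M b') ((hm _).2 ⟨0, 0, 0, 1, by module⟩)
    have h3 := h (M a) ((hm _).2 ⟨0, 0, 1, 0, by module⟩)
    have h4 := h a ((hm _).2 ⟨1, 0, 0, 0, by module⟩)
    have h5 := h b' ((hm _).2 ⟨0, 1, 0, 0, by module⟩)
    simp only [polar_add_left, polar_smul_left, hab, hab', hba, p1, p2, p3, p4, p5, p6, p7, p8, p9, q1, q2, q3, q4,
      smul_eq_mul, mul_zero, add_zero, zero_add, mul_one, mul_neg, neg_eq_zero] at h1 h3 h4 h5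
    rw [h1, h3, h4, h5]
    module
  · exact (hm _).2 ⟨0, 1, 1, 0, by module⟩
  · exact (hm _).2 ⟨0, 1, -1, 0, by module⟩
  · intro v hv
    obtain ⟨r, s, t, k, rfl⟩ := (hm v).1 hv
    rw [hMspan]
    simp only [map_add, map_smul, hga, hgb, hgm, hgn, hMa2, hMb2, map_neg]
    module
  · have h1 : U₁.map M = Submodule.span F {M a, M b'} := by
      apply le_antisymm
      · rintro _ ⟨v, hv, rfl⟩
        obtain ⟨r, s, t, k, rfl⟩ := (hm v).1 hv
        rw [hMspan]
        exact Submodule.mem_span_pair.2 ⟨r, s, rfl⟩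
      · intro v hv
        obtain ⟨r, s, rfl⟩ := Submodule.mem_span_pair.1 hv
        exact ⟨r • a + s • b' + ((0 : F) • M a + (0 : F) • M b'), (hm _).2 ⟨r, s, 0, 0, rfl⟩, hMspan r s 0 0⟩
    rw [h1]
    exact finrank_pair hind

/-- every nonzero skew nilpotent map with cube zero has a piece -/
theorem exists_piece (h2 : (2 : F) ≠ 0) {M : V →ₗ[F] V} (hM : Skw Q M) (hM3 : ∀ v, M (M (M v)) = 0) {U : Submodule F V}
    (hU : Nd Q U) (hi : ∀ u ∈ U, M u ∈ U) (hne : ∃ u ∈ U, M u ≠ 0) :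
    ∃ (U₁ : Submodule F V) (x y : V), U₁ ≤ U ∧ Piece Q M U₁ x y := by
  by_cases h : ∃ u ∈ U, M (M u) ≠ 0
  · obtain ⟨u, hu, hu0⟩ := h
    obtain ⟨w, hw, hwu⟩ : ∃ w ∈ U, polar Q (M (M u)) w ≠ 0 := by
      by_contra hcon
      push Not at hcon
      exact hu0 (hU _ (hi _ (hi _ hu)) hcon)
    by_cases h1 : polar Q u (M (M u)) = 0
    · by_cases h3 : polar Q w (M (M w)) = 0
      · refine piece_three h2 hM hM3 hi (U.add_mem hu hw) ?_
        have h4 : polar Q w (M (M u)) = polar Q u (M (M w)) := by rw [← hM.sq, polar_comm]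
        have h5 : polar Q u (M (M w)) ≠ 0 := by rw [← hM.sq]; exact hwu
        rw [map_add, map_add, polar_add_left, polar_add_right, polar_add_right, h1, h3, h4, zero_add, add_zero,
          ← two_mul]
        exact mul_ne_zero h2 h5
      · exact piece_three h2 hM hM3 hi hw h3
    · exact piece_three h2 hM hM3 hi hu h1
  · push Not at h
    obtain ⟨u, hu, hu0⟩ := hne
    obtain ⟨w, hw, hwu⟩ : ∃ w ∈ U, polar Q (M u) w ≠ 0 := by
      by_contra hcon
      push Not at hcon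
      exact hu0 (hU _ (hi _ hu) hcon)
    refine piece_four h2 hM hi h hw hu ?_
    rw [polar_comm]; exact hwu

end Skew

end Cfsg.Agent.H502.Car
end

-- part: H502/Car/RealB
section
/-!
# Reality of elements of order three in characteristic three, second part (helper502, S3852)

* `exists_inverting` : `z ∈ O(Q)`, `z³ = 1`: there is `h ∈ O(Q)` of determinant one inverting `z`, with known spinor sign;
* `real_of_hyp`, `real_of_rank`, `real_of_parity`.
-/

set_option autoImplicit false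
set_option linter.unusedSectionVars false

namespace Cfsg.Agent.H502.Car

open QuadraticMap Cfsg.Agent.LieClassical.OrthCore Cfsg.Agent.LieClassical.OrthTrans
open Cfsg.Agent.FooteOrth

section Inverted

variable {F : Type*} [Field F] [Finite F] {ι : Type} [Fintype ι] [DecidableEq ι] {Q : QuadraticForm F (ι → F)}

open Classical in
/-- the spinor sign of `refl x * refl y`, `Q y = - Q x` -/
noncomputable def eta (F : Type*) [Field F] : ℤˣ := if IsSquare (-1 : F) then 1 else -1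

theorem isSquare_mul_iff {a b : F} (h2 : (2 : F) ≠ 0) (ha : a ≠ 0) (hb : b ≠ 0) :
    IsSquare (a * b) ↔ (IsSquare a ↔ IsSquare b) := by
  classical
  have := Fintype.ofFinite F
  have hF : ringChar F ≠ 2 := by
    intro h
    apply h2
    have := ringChar.Nat.cast_ringChar (R := F)
    rw [h] at this
    exact_mod_cast this
  constructor
  · intro hab
    constructor
    · intro h
      obtain ⟨c, hc⟩ := hab
      obtain ⟨d, rfl⟩ := h
      have hd : d ≠ 0 := by rintro rfl; exact ha (mul_zero 0)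
      exact ⟨c / d, by field_simp; linear_combination hc⟩
    · intro h
      obtain ⟨c, hc⟩ := hab
      obtain ⟨d, rfl⟩ := h
      have hd : d ≠ 0 := by rintro rfl; exact hb (mul_zero 0)
      exact ⟨c / d, by field_simp; linear_combination hc⟩
  · intro h
    by_cases h1 : IsSquare a
    · exact h1.mul (h.1 h1)
    · have h3 : ¬ IsSquare b := fun h3 => h1 (h.2 h3)
      have e1 := quadraticChar_neg_one_iff_not_isSquare.2 h1
      have e2 := quadraticChar_neg_one_iff_not_isSquare.2 h3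
      have e3 : quadraticChar F (a * b) = 1 := by rw [map_mul, e1, e2]; norm_num
      exact (quadraticChar_one_iff_isSquare (mul_ne_zero ha hb)).1 e3

theorem sg_refl' (h2 : (2 : F) ≠ 0) {v : ι → F} (hv : Q v ≠ 0) :
    sg Q ⟨refl Q v hv, refl_mem_O hv⟩ = by classical exact if IsSquare (Q v) then -1 else 1 := by
  classical
  rw [sg_refl h2 hv]

theorem sg_refl_sq (h2 : (2 : F) ≠ 0) {v : ι → F} (hv : Q v ≠ 0) (h : IsSquare (Q v)) :
    sg Q ⟨refl Q v hv, refl_mem_O hv⟩ = -1 := by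
  rw [sg_refl' h2 hv, if_pos h]

theorem sg_refl_nsq (h2 : (2 : F) ≠ 0) {v : ι → F} (hv : Q v ≠ 0) (h : ¬ IsSquare (Q v)) :
    sg Q ⟨refl Q v hv, refl_mem_O hv⟩ = 1 := by
  rw [sg_refl' h2 hv, if_neg h]

theorem sg_refl_refl (h2 : (2 : F) ≠ 0) {x y : ι → F} (hx : Q x ≠ 0) (hy : Q y ≠ 0) :
    sg Q ⟨refl Q x hx * refl Q y hy, mul_mem (refl_mem_O hx) (refl_mem_O hy)⟩ =
      by classical exact if IsSquare (Q x * Q y) then 1 else -1 := by
  classical
  have e : (⟨refl Q x hx * refl Q y hy, mul_mem (refl_mem_O hx) (refl_mem_O hy)⟩ : O Q) =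
      ⟨refl Q x hx, refl_mem_O hx⟩ * ⟨refl Q y hy, refl_mem_O hy⟩ := rfl
  rw [e, map_mul]
  by_cases h1 : IsSquare (Q x)
  · by_cases h3 : IsSquare (Q y)
    · rw [sg_refl_sq h2 hx h1, sg_refl_sq h2 hy h3, if_pos ((isSquare_mul_iff h2 hx hy).2 (iff_of_true h1 h3))]
      norm_num
    · rw [sg_refl_sq h2 hx h1, sg_refl_nsq h2 hy h3, if_neg]
      · norm_num
      · rw [isSquare_mul_iff h2 hx hy]; tauto
  · by_cases h3 : IsSquare (Q y)
    · rw [sg_refl_nsq h2 hx h1, sg_refl_sq h2 hy h3, if_neg]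
      · norm_num
      · rw [isSquare_mul_iff h2 hx hy]; tauto
    · rw [sg_refl_nsq h2 hx h1, sg_refl_nsq h2 hy h3, if_pos ((isSquare_mul_iff h2 hx hy).2 (iff_of_false h1 h3))]
      norm_num

theorem sg_refl_neg (h2 : (2 : F) ≠ 0) {x y : ι → F} (hx : Q x ≠ 0) (hy : Q y ≠ 0) (h : Q y = -Q x) :
    sg Q ⟨refl Q x hx * refl Q y hy, mul_mem (refl_mem_O hx) (refl_mem_O hy)⟩ = eta F := by
  classical
  have e : IsSquare (Q x * Q y) ↔ IsSquare (-1 : F) := by
    have e1 : Q x * Q y = (Q x * Q x) * (-1) := by rw [h]; ring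
    rw [e1, isSquare_mul_iff h2 (mul_ne_zero hx hx) (neg_ne_zero.2 one_ne_zero)]
    exact ⟨fun h => h.1 ⟨_, rfl⟩, fun h => iff_of_true ⟨_, rfl⟩ h⟩
  rw [sg_refl_refl h2 hx hy, eta]
  by_cases h3 : IsSquare (-1 : F)
  · rw [if_pos (e.2 h3), if_pos h3]
  · rw [if_neg fun h => h3 (e.1 h), if_neg h3]

/-- `M` is inverted on `U` by an isometry of determinant one, trivial on `U^⊥` -/
def Inverted (Q : QuadraticForm F (ι → F)) (M : (ι → F) →ₗ[F] (ι → F)) (U : Submodule F (ι → F)) : Prop :=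
  ∃ (h : (ι → F) ≃ₗ[F] (ι → F)) (hO : h ∈ O Q), (∀ v, (∀ u ∈ U, polar Q v u = 0) → h v = v) ∧ (∀ u ∈ U, h u ∈ U) ∧
    (∀ u ∈ U, h (M u) = -M (h u)) ∧ LinearEquiv.det h = 1 ∧
    ∃ m, Module.finrank F (U.map M) = 2 * m ∧ sg Q ⟨h, hO⟩ = eta F ^ m

theorem inverted_step (h2 : (2 : F) ≠ 0) {M : (ι → F) →ₗ[F] (ι → F)} (hM : Skw Q M) {U U₁ : Submodule F (ι → F)}
    {x y : ι → F} (hle : U₁ ≤ U) (hi : ∀ u ∈ U, M u ∈ U) (hp : Piece Q M U₁ x y)
    (h : Inverted Q M (perpIn Q U U₁)) : Inverted Q M U := by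
  obtain ⟨k, hkO, hk1, hk2, hk3, hk4, m, hm, hk5⟩ := h
  obtain ⟨g, hg⟩ : ∃ g, g = refl Q x hp.ne * refl Q y hp.ne' := ⟨_, rfl⟩
  have hgO : g ∈ O Q := by rw [hg]; exact mul_mem (refl_mem_O _) (refl_mem_O _)
  have hgperp : ∀ v, (∀ u ∈ U₁, polar Q v u = 0) → g v = v := by
    intro v hv
    rw [hg]
    exact refl_refl_perp hp.ne hp.ne' (by rw [polar_comm]; exact hv x hp.hx) (by rw [polar_comm]; exact hv y hp.hy)
  have hgU : ∀ u ∈ U, g u ∈ U := by
    intro u hu
    rw [hg]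
    exact refl_mem hp.ne (hle hp.hx) (refl_mem hp.ne' (hle hp.hy) hu)
  -- decomposition
  have hdec : ∀ u ∈ U, ∃ a ∈ U₁, ∃ b ∈ perpIn Q U U₁, u = a + b := by
    intro u hu
    obtain ⟨a, ha, hau⟩ := exists_proj hp.nd u
    exact ⟨a, ha, u - a, ⟨U.sub_mem hu (hle ha), hau⟩, by abel⟩
  have hk1' : ∀ a ∈ U₁, k a = a := by
    intro a ha
    apply hk1
    intro u hu
    rw [polar_comm]
    exact hu.2 a ha
  have hi2 : ∀ b ∈ perpIn Q U U₁, M b ∈ perpIn Q U U₁ := by
    intro b hb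
    refine ⟨hi b hb.1, fun w hw => ?_⟩
    rw [hM, hb.2 _ (hp.inv w hw), neg_zero]
  refine ⟨g * k, mul_mem hgO hkO, ?_, ?_, ?_, ?_, m + 1, ?_, ?_⟩
  · intro v hv
    show g (k v) = v
    rw [hk1 v fun u hu => hv u hu.1]
    exact hgperp v fun u hu => hv u (hle hu)
  · intro u hu
    obtain ⟨a, ha, b, hb, rfl⟩ := hdec u hu
    show g (k (a + b)) ∈ U
    rw [map_add, hk1' a ha]
    exact hgU _ (U.add_mem (hle ha) (hk2 b hb).1)
  · intro u hu
    obtain ⟨a, ha, b, hb, rfl⟩ := hdec u hu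
    show g (k (M (a + b))) = -M (g (k (a + b)))
    have e1 : g (k b) = k b := hgperp _ (hk2 b hb).2
    have e2 : g (k (M b)) = k (M b) := hgperp _ (hk2 _ (hi2 b hb)).2
    have e3 : g (M a) = -M (g a) := by rw [hg]; exact hp.rel a ha
    rw [map_add, map_add, map_add, map_add, map_add, map_add, hk1' a ha, hk1' _ (hp.inv a ha), e1, e2, e3, hk3 b hb]
    abel
  · rw [map_mul, hk4, mul_one, hg, map_mul, det_refl, det_refl]
    norm_num
  · have e1 : U.map M = U₁.map M ⊔ (perpIn Q U U₁).map M := by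
      rw [← Submodule.map_sup]
      congr 1
      apply le_antisymm
      · intro u hu
        obtain ⟨a, ha, b, hb, rfl⟩ := hdec u hu
        exact Submodule.add_mem_sup ha hb
      · exact sup_le hle fun v hv => hv.1
    have e2 : U₁.map M ⊓ (perpIn Q U U₁).map M = ⊥ := by
      rw [eq_bot_iff]
      rintro v ⟨hv1, hv2⟩
      obtain ⟨a, ha, rfl⟩ := hv1
      obtain ⟨b, hb, hab⟩ := hv2
      have h3 := hi2 b hb
      rw [hab] at h3
      exact hp.nd _ (hp.inv a ha) h3.2
    have e3 := Submodule.finrank_sup_add_finrank_inf_eq (U₁.map M) ((perpIn Q U U₁).map M)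
    rw [e2, finrank_bot, add_zero, ← e1, hp.rk, hm] at e3
    omega
  · have e1 : (⟨g * k, mul_mem hgO hkO⟩ : O Q) = ⟨g, hgO⟩ * ⟨k, hkO⟩ := rfl
    have e2 : sg Q ⟨g, hgO⟩ = eta F := by
      subst hg
      exact sg_refl_neg h2 hp.ne hp.ne' hp.neg
    rw [e1, map_mul, hk5, e2, pow_succ']

theorem inverted (h2 : (2 : F) ≠ 0) {M : (ι → F) →ₗ[F] (ι → F)} (hM : Skw Q M) (hM3 : ∀ v, M (M (M v)) = 0) :
    ∀ (n : ℕ) (U : Submodule F (ι → F)), Module.finrank F U ≤ n → Nd Q U → (∀ u ∈ U, M u ∈ U) → Inverted Q M U := by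
  intro n
  induction n with
  | zero =>
    intro U hU hn hi
    have h1 : U = ⊥ := by
      rw [← Submodule.finrank_eq_zero (R := F)]; omega
    subst h1
    refine ⟨1, one_mem _, fun v _ => rfl, fun u hu => hu, ?_, map_one _, 0, ?_, ?_⟩
    · intro u hu
      rw [Submodule.mem_bot] at hu
      rw [hu, map_zero]
      show (0 : ι → F) = -M 0
      rw [map_zero, neg_zero]
    · rw [Submodule.map_bot, finrank_bot]
    · rw [pow_zero]; exact map_one _
  | succ n ih =>
    intro U hU hn hi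
    by_cases h0 : ∃ u ∈ U, M u ≠ 0
    · obtain ⟨U₁, x, y, hle, hp⟩ := exists_piece h2 hM hM3 hn hi h0
      refine inverted_step h2 hM hle hi hp (ih _ ?_ ?_ ?_)
      · have h1 : perpIn Q U U₁ < U := by
          refine lt_of_le_of_ne (fun v hv => hv.1) fun h => ?_
          have h3 : x ∈ perpIn Q U U₁ := by rw [h]; exact hle hp.hx
          have h4 : polar Q x x = 0 := h3.2 x hp.hx
          exact hp.ne (Q_eq_zero h2 h4)
        have := Submodule.finrank_lt_finrank_of_lt h1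
        omega
      · intro v hv h
        apply hn v hv.1
        intro u hu
        obtain ⟨a, ha, hau⟩ := exists_proj hp.nd u
        have h3 : u - a ∈ perpIn Q U U₁ := ⟨U.sub_mem hu (hle ha), hau⟩
        have h4 := h _ h3
        rw [polar_sub_right, hv.2 a ha, sub_zero] at h4
        exact h4
      · intro b hb
        refine ⟨hi b hb.1, fun w hw => ?_⟩
        rw [hM, hb.2 _ (hp.inv w hw), neg_zero]
    · push Not at h0
      refine ⟨1, one_mem _, fun v _ => rfl, fun u hu => hu, ?_, map_one _, 0, ?_, ?_⟩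
      · intro u hu
        rw [h0 u hu, map_zero]
        show (0 : ι → F) = -M u
        rw [h0 u hu, neg_zero]
      · have : U.map M = ⊥ := by
          rw [eq_bot_iff]
          rintro _ ⟨u, hu, rfl⟩
          rw [h0 u hu]; exact Submodule.zero_mem _
        rw [this, finrank_bot]
      · rw [pow_zero]; exact map_one _

end Inverted

end Cfsg.Agent.H502.Car
end

-- part: H502/Car/RealC
section
/-!
# Reality of elements of order three in characteristic three, third part (helper502, S3852)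
-/

set_option autoImplicit false
set_option linter.unusedSectionVars false

namespace Cfsg.Agent.H502.Car

open QuadraticMap Cfsg.Agent.LieClassical.OrthCore Cfsg.Agent.LieClassical.OrthTrans
  Cfsg.Agent.LieClassical.OrthFinite
open Cfsg.Agent.FooteOrth

section Log

variable {F V : Type*} [Field F] [AddCommGroup V] [Module F V] {Q : QuadraticForm F V}

/-- the logarithm of an element of order three in characteristic three -/
def lg (z : V ≃ₗ[F] V) : V →ₗ[F] V := (z : V →ₗ[F] V).comp (z : V →ₗ[F] V) - (z : V →ₗ[F] V)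

theorem lg_apply (z : V ≃ₗ[F] V) (v : V) : lg z v = z (z v) - z v := rfl

theorem three_eq [CharP F 3] : (3 : F) = 0 := by
  have := CharP.cast_eq_zero F 3
  exact_mod_cast this

theorem two_ne [CharP F 3] : (2 : F) ≠ 0 := by
  intro h
  have h1 : ((2 : ℕ) : F) = 0 := by exact_mod_cast h
  rw [CharP.cast_eq_zero_iff F 3] at h1
  omega

theorem three_smul_eq [CharP F 3] (v : V) : (3 : F) • v = 0 := by rw [three_eq, zero_smul]

variable {z : V ≃ₗ[F] V}

theorem zzz (hz : z ^ 3 = 1) (v : V) : z (z (z v)) = v := by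
  have := LinearEquiv.congr_fun hz v
  exact this

theorem lg_lg [CharP F 3] (hz : z ^ 3 = 1) (v : V) : lg z (lg z v) = z (z v) + z v + v := by
  rw [lg_apply, lg_apply, map_sub, map_sub, zzz hz, zzz hz v]
  have : z v - v - (v - z (z v)) = z (z v) + z v + v - (3 : F) • v := by module
  rw [this, three_smul_eq, sub_zero]

theorem lg_three [CharP F 3] (hz : z ^ 3 = 1) (v : V) : lg z (lg z (lg z v)) = 0 := by
  rw [lg_lg hz, lg_apply, map_sub, map_sub, zzz hz, zzz hz]
  abel

theorem z_eq_lg [CharP F 3] (hz : z ^ 3 = 1) (v : V) : z v = v + lg z v - lg z (lg z v) := by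
  rw [lg_lg hz, lg_apply]
  have : v + (z (z v) - z v) - (z (z v) + z v + v) = z v - (3 : F) • z v := by module
  rw [this, three_smul_eq, sub_zero]

theorem zz_eq_lg [CharP F 3] (hz : z ^ 3 = 1) (v : V) : z (z v) = v - lg z v - lg z (lg z v) := by
  rw [lg_lg hz, lg_apply]
  have : v - (z (z v) - z v) - (z (z v) + z v + v) = z (z v) - (3 : F) • z (z v) := by module
  rw [this, three_smul_eq, sub_zero]

theorem skw_lg (hzO : z ∈ O Q) (hz : z ^ 3 = 1) : Skw Q (lg z) := by
  have h1 : ∀ u v, polar Q (z u) v = polar Q u (z (z v)) := by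
    intro u v
    have := polar_map hzO u (z (z v))
    rw [zzz hz] at this
    exact this
  intro u v
  rw [lg_apply, lg_apply, polar_sub_left, polar_sub_right, h1, h1, h1, zzz hz]
  ring

/-- an isometry inverting the logarithm inverts `z` -/
theorem conj_of_lg [CharP F 3] (hz : z ^ 3 = 1) {h : V ≃ₗ[F] V} (hh : ∀ v, h (lg z v) = -lg z (h v)) :
    h * z * h⁻¹ = z⁻¹ := by
  have e1 : z⁻¹ = z * z := by
    rw [inv_eq_iff_mul_eq_one, ← mul_assoc, ← pow_three', hz]
  rw [e1, mul_inv_eq_iff_eq_mul]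
  ext v
  show h (z v) = z (z (h v))
  rw [z_eq_lg hz v, zz_eq_lg hz, map_sub, map_add, hh v, hh (lg z v), hh v, map_neg, neg_neg]
  abel

/-- an isometry commuting with the logarithm commutes with `z` -/
theorem comm_of_lg [CharP F 3] (hz : z ^ 3 = 1) {h : V ≃ₗ[F] V} (hh : ∀ v, h (lg z v) = lg z (h v)) :
    h * z = z * h := by
  ext v
  show h (z v) = z (h v)
  rw [z_eq_lg hz v, z_eq_lg hz (h v), map_sub, map_add, hh, hh, hh]

end Log

section Real

variable {F : Type*} [Field F] [Finite F] {ι : Type} [Fintype ι] [DecidableEq ι] {Q : QuadraticForm F (ι → F)}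

/-- every element of order three is inverted by an isometry of determinant one -/
theorem exists_inverting [CharP F 3] (hQ : Nondeg Q) {z : (ι → F) ≃ₗ[F] (ι → F)} (hzO : z ∈ O Q) (hz : z ^ 3 = 1) :
    ∃ (h : (ι → F) ≃ₗ[F] (ι → F)) (hO : h ∈ O Q), h * z * h⁻¹ = z⁻¹ ∧ LinearEquiv.det h = 1 ∧
      ∃ m, Module.finrank F (LinearMap.range ((z : (ι → F) →ₗ[F] (ι → F)) - LinearMap.id)) = 2 * m ∧
        sg Q ⟨h, hO⟩ = eta F ^ m := by
  obtain ⟨h, hO, -, -, h1, h2, m, hm, h3⟩ := inverted two_ne (skw_lg hzO hz) (lg_three hz) _ (⊤ : Submodule F (ι → F))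
    le_rfl (fun u _ hu => hQ u fun v => hu v Submodule.mem_top) (fun u _ => Submodule.mem_top)
  refine ⟨h, hO, conj_of_lg hz fun v => h1 v Submodule.mem_top, h2, m, ?_, h3⟩
  have e1 : (⊤ : Submodule F (ι → F)).map (lg z) = LinearMap.range ((z : (ι → F) →ₗ[F] (ι → F)) - LinearMap.id) := by
    ext v
    constructor
    · rintro ⟨u, -, rfl⟩
      exact ⟨z u, rfl⟩
    · rintro ⟨u, rfl⟩
      exact ⟨z.symm u, Submodule.mem_top, by
        rw [lg_apply, LinearEquiv.apply_symm_apply]; rfl⟩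
  rw [← e1, hm]

theorem real_of_sg [CharP F 3] (hG : Good Q) {z h : (ι → F) ≃ₗ[F] (ι → F)} (hO : h ∈ O Q) (h1 : h * z * h⁻¹ = z⁻¹)
    (h2 : LinearEquiv.det h = 1) (h3 : sg Q ⟨h, hO⟩ = 1) : ∃ h ∈ E Q, h * z * h⁻¹ = z⁻¹ :=
  ⟨h, (mem_E_iff hG two_ne hO).2 ⟨h2, h3⟩, h1⟩

/-- an isometry in the centraliser with nontrivial spinor sign makes `z` real -/
theorem real_of_comm [CharP F 3] (hG : Good Q) {z y : (ι → F) ≃ₗ[F] (ι → F)} (hzO : z ∈ O Q) (hz : z ^ 3 = 1)
    (hy : y ∈ O Q) (hyz : y * z = z * y) (hyd : LinearEquiv.det y = 1) (hys : sg Q ⟨y, hy⟩ = -1) :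
    ∃ h ∈ E Q, h * z * h⁻¹ = z⁻¹ := by
  obtain ⟨h, hO, h1, h2, m, -, h3⟩ := exists_inverting hG.nondeg hzO hz
  rcases Int.units_eq_one_or (sg Q ⟨h, hO⟩) with h4 | h4
  · exact real_of_sg hG hO h1 h2 h4
  · refine real_of_sg hG (mul_mem hO hy) (h := h * y) ?_ (by rw [map_mul, h2, hyd, mul_one]) ?_
    · have : h * y * z * (h * y)⁻¹ = h * (y * z * y⁻¹) * h⁻¹ := by group
      rw [this, hyz, mul_inv_cancel_right, h1]
    · have e1 : (⟨h * y, mul_mem hO hy⟩ : O Q) = ⟨h, hO⟩ * ⟨y, hy⟩ := rfl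
      rw [e1, map_mul, h4, hys]; norm_num

theorem ringChar_ne [CharP F 3] : ringChar F ≠ 2 := by
  rw [ringChar.eq F 3]; norm_num

theorem exists_nonsq [CharP F 3] : ∃ c : F, ¬ IsSquare c := by
  have := Fintype.ofFinite F
  exact FiniteField.exists_nonsquare ringChar_ne

theorem refl_fix {V : Type*} [AddCommGroup V] [Module F V] {Q : QuadraticForm F V} {z : V ≃ₗ[F] V} (hzO : z ∈ O Q)
    {v : V} (hv : Q v ≠ 0) (h : z v = v) : z * refl Q v hv = refl Q v hv * z := by
  have h1 := refl_conj hzO hv (by rw [h]; exact hv)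
  rw [← mul_inv_eq_iff_eq_mul]
  rw [h1]
  congr 1

theorem real_of_hyp [CharP F 3] (hG : Good Q) : RealHyp Q := by
  rintro z hzO hz ⟨a, b, hab, ha, hb⟩
  obtain ⟨c, hc⟩ := exists_nonsq (F := F)
  have hc0 : c ≠ 0 := by rintro rfl; exact hc ⟨0, (mul_zero 0).symm⟩
  have h1 : Q (a + b) = 1 := by rw [Q_add, hab.left, hab.right, hab.pair]; ring
  have h3 : Q (a + c • b) = c := by
    rw [Q_add, QuadraticMap.map_smul, hab.left, hab.right, polar_smul_right, hab.pair, smul_eq_mul, smul_eq_mul]; ring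
  have h1' : Q (a + b) ≠ 0 := by rw [h1]; exact one_ne_zero
  have h3' : Q (a + c • b) ≠ 0 := by rw [h3]; exact hc0
  have e1 := refl_fix hzO h1' (by rw [map_add, ha, hb])
  have e2 := refl_fix hzO h3' (by rw [map_add, map_smul, ha, hb])
  refine real_of_comm hG hzO hz (y := refl Q _ h1' * refl Q _ h3') (mul_mem (refl_mem_O _) (refl_mem_O _)) ?_ ?_ ?_
  · rw [mul_assoc, ← e2, ← mul_assoc, ← e1, mul_assoc]
  · rw [map_mul, det_refl, det_refl]; norm_num
  · rw [sg_refl_refl two_ne, if_neg]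
    rw [h1, h3, one_mul]; exact hc

/-- the hyperbolic pair exists if the fixed space is large -/
theorem exists_hyp_ker [CharP F 3] (hQ : Nondeg Q) {z : (ι → F) ≃ₗ[F] (ι → F)} (hzO : z ∈ O Q) (hz : z ^ 3 = 1)
    {R : Submodule F (ι → F)} (hR : ∀ v, z v = v → (∃ u, z u - u = v) → v ∈ R) (hRk : ∀ v ∈ R, z v = v)
    (hd : Module.finrank F R + 3 ≤ Module.finrank F (LinearMap.ker ((z : (ι → F) →ₗ[F] (ι → F)) - LinearMap.id))) :
    ∃ a b, Hyp Q a b ∧ z a = a ∧ z b = b := by
  obtain ⟨k, hk⟩ : ∃ k : Submodule F (ι → F), k = LinearMap.ker ((z : (ι → F) →ₗ[F] (ι → F)) - LinearMap.id) := ⟨_, rfl⟩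
  have hmem : ∀ v, v ∈ k ↔ z v = v := by
    intro v
    rw [hk, LinearMap.mem_ker, LinearMap.sub_apply, LinearMap.id_apply, sub_eq_zero]; rfl
  rw [← hk] at hd
  obtain ⟨C, hC⟩ := Submodule.exists_isCompl (R.comap k.subtype)
  have hRle : R ≤ k := fun v hv => (hmem v).2 (hRk v hv)
  have h1 : Module.finrank F (R.comap k.subtype) = Module.finrank F R :=
    (Submodule.comapSubtypeEquivOfLe hRle).finrank_eq
  have h3 := Submodule.finrank_add_eq_of_isCompl hC
  have h4 : Module.finrank F (C.map k.subtype) = Module.finrank F C :=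
    (Submodule.equivMapOfInjective k.subtype k.subtype_injective C).finrank_eq.symm
  obtain ⟨u, hu, hu0, huQ⟩ := exists_sing_mem (Q := Q) (C.map k.subtype) (by omega)
  obtain ⟨u', hu'C, hu'⟩ := hu
  have hu'' : (u' : ι → F) = u := hu'
  have hzu : z u = u := by rw [← hu'', ← hmem]; exact u'.2
  have huR : u ∉ R := by
    intro h
    have h5 : u' ∈ R.comap k.subtype := by
      show (u' : ι → F) ∈ R
      rw [hu'']; exact h
    have h6 := Submodule.disjoint_def.1 hC.disjoint u' h5 hu'C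
    apply hu0
    rw [← hu'', h6]; rfl
  -- `u` is not perpendicular to the fixed space
  obtain ⟨v, hv, huv⟩ : ∃ v, z v = v ∧ polar Q u v ≠ 0 := by
    by_contra hcon
    push Not at hcon
    apply huR
    refine hR u hzu ?_
    -- `polar u = g ∘ N`
    obtain ⟨N, hN⟩ : ∃ N : (ι → F) →ₗ[F] (ι → F), ∀ v, N v = z v - v :=
      ⟨(z : (ι → F) →ₗ[F] (ι → F)) - LinearMap.id, fun _ => rfl⟩
    have h5 : LinearMap.ker N ≤ LinearMap.ker (polarBilin Q u) := by
      intro v hv
      rw [LinearMap.mem_ker, hN, sub_eq_zero] at hv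
      rw [LinearMap.mem_ker, polarBilin_apply_apply]
      exact hcon v hv
    obtain ⟨g, hg⟩ := LinearMap.exists_extend ((LinearMap.ker N).liftQ
      (polarBilin Q u) h5 ∘ₗ N.quotKerEquivRange.symm.toLinearMap)
    obtain ⟨w, hw⟩ := polar_surj hQ g
    have h6 : ∀ v, polar Q u v = polar Q w (z v - v) := by
      intro v
      rw [hw, ← hN]
      have h7 := LinearMap.congr_fun hg ⟨N v, LinearMap.mem_range_self _ v⟩
      have h8 : g (N v) = ((LinearMap.ker N).liftQ (polarBilin Q u) h5)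
        (N.quotKerEquivRange.symm ⟨N v, LinearMap.mem_range_self _ v⟩) := h7
      rw [h8, LinearMap.quotKerEquivRange_symm_apply_image, Submodule.mkQ_apply, Submodule.liftQ_apply,
        polarBilin_apply_apply]
    -- hence `u = (z⁻¹ - 1) w`
    refine ⟨-(z (z w)), ?_⟩
    have h7 : ∀ v, polar Q (u - (z (z w) - w)) v = 0 := by
      intro v
      have h8 := polar_map hzO (z (z w)) v
      rw [zzz hz] at h8
      rw [polar_sub_left, polar_sub_left, h6 v, polar_sub_right, h8]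
      ring
    have h8 := sub_eq_zero.1 (hQ _ h7)
    rw [map_neg, zzz hz, h8]
    abel
  -- the hyperbolic pair
  obtain ⟨v', hv', huv'⟩ : ∃ v', z v' = v' ∧ polar Q u v' = 1 :=
    ⟨(polar Q u v)⁻¹ • v, by rw [map_smul, hv], by rw [polar_smul_right, smul_eq_mul, inv_mul_cancel₀ huv]⟩
  refine ⟨u, v' - Q v' • u, ⟨huQ, ?_, ?_⟩, hzu, ?_⟩
  · have h4 : polar Q v' u = 1 := by rw [polar_comm]; exact huv'
    rw [sub_eq_add_neg, ← neg_smul, Q_add, QuadraticMap.map_smul, huQ, polar_smul_right, h4, smul_eq_mul, smul_eq_mul]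
    ring
  · rw [polar_sub_right, polar_smul_right, polar_self_of_sing huQ, huv', smul_zero, sub_zero]
  · rw [map_sub, map_smul, hv', hzu]

end Real

end Cfsg.Agent.H502.Car
end

-- part: H502/Car/RealD
section
/-!
# Reality of elements of order three in characteristic three, fourth part (helper502, S3852)

* `real_of_rank` : `rank (z - 1)² ≥ 2` implies real in `E Q`.
-/

set_option autoImplicit false
set_option linter.unusedSectionVars false

namespace Cfsg.Agent.H502.Car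

open QuadraticMap Cfsg.Agent.LieClassical.OrthCore Cfsg.Agent.LieClassical.OrthTrans
  Cfsg.Agent.LieClassical.OrthFinite
open Cfsg.Agent.FooteOrth

variable {F : Type*} [Field F] [Finite F] {ι : Type} [Fintype ι] [DecidableEq ι] {Q : QuadraticForm F (ι → F)}

theorem block_neg [CharP F 3] {M : (ι → F) →ₗ[F] (ι → F)} (hM : Skw Q M) (hM3 : ∀ v, M (M (M v)) = 0) {u : ι → F}
    (hb : polar Q u (M (M u)) ≠ 0) :
    ∃ (y : (ι → F) ≃ₗ[F] (ι → F)) (hy : y ∈ O Q), (∀ v, y (M v) = M (y v)) ∧ LinearEquiv.det y = -1 ∧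
      sg Q ⟨y, hy⟩ = by classical exact if IsSquare (-polar Q u (M (M u))) then -1 else 1 := by
  classical
  have h2 : (2 : F) ≠ 0 := two_ne
  obtain ⟨β, hβ⟩ : ∃ β, β = polar Q u (M (M u)) := ⟨_, rfl⟩
  rw [← hβ] at hb ⊢
  obtain ⟨f, hf⟩ : ∃ f, f = M (M u) := ⟨_, rfl⟩
  obtain ⟨e, he⟩ : ∃ e, e = u - (β⁻¹ * Q u) • f := ⟨_, rfl⟩
  have hMf : M f = 0 := by rw [hf, hM3]
  have hMe : M (M e) = f := by rw [he, map_sub, map_sub, map_smul, map_smul, hMf, map_zero, smul_zero, sub_zero, ← hf]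
  have hff : polar Q f f = 0 := by
    nth_rewrite 1 [hf]
    rw [hM.sq, hMf, map_zero, polar_zero_right]
  have hQf : Q f = 0 := Q_eq_zero h2 hff
  have huf : polar Q u f = β := by rw [hf, hβ]
  have hef : polar Q e f = β := by rw [he, polar_sub_left, polar_smul_left, hff, smul_zero, sub_zero, huf]
  have hfe : polar Q f e = β := by rw [polar_comm]; exact hef
  have hQe : Q e = 0 := by
    rw [he, sub_eq_add_neg, ← neg_smul, Q_add, QuadraticMap.map_smul, hQf, polar_smul_right, huf, smul_eq_mul,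
      smul_eq_mul]
    field_simp
    ring
  have hee : polar Q e e = 0 := polar_self_of_sing hQe
  have hem : polar Q e (M e) = 0 := hM.self h2 e
  have hme : polar Q (M e) e = 0 := by rw [polar_comm]; exact hem
  have hmm : polar Q (M e) (M e) = -β := by rw [hM, hMe, hef]
  have hfm : polar Q f (M e) = 0 := by
    have := hM f e
    rw [hMf, polar_zero_left] at this
    rw [← neg_eq_zero, ← this]
  have hmf : polar Q (M e) f = 0 := by rw [polar_comm]; exact hfm
  have hQm : Q (M e) = β := by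
    have h3 := hmm
    rw [polar_self'] at h3
    have h4 : (3 : F) = 0 := three_eq
    linear_combination -h3 + Q (M e) * h4
  have hQx : Q (e + f) = β := by rw [Q_add, hQe, hQf, hef]; ring
  have hQy : Q (e - f) = -β := by
    rw [sub_eq_add_neg, Q_add, QuadraticMap.map_neg, hQe, hQf, polar_neg_right, hef]; ring
  have hx : Q (e + f) ≠ 0 := by rw [hQx]; exact hb
  have hy : Q (e - f) ≠ 0 := by rw [hQy]; exact neg_ne_zero.2 hb
  have hm : Q (M e) ≠ 0 := by rw [hQm]; exact hb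
  have hxy : polar Q (e + f) (e - f) = 0 := by
    rw [polar_add_left, polar_sub_right, polar_sub_right, hee, hef, hfe, hff]; ring
  have hg : ∀ v, (refl Q _ hx * refl Q _ hy) v = v - (β⁻¹ * polar Q (e + f) v) • (e + f)
      - ((-β)⁻¹ * polar Q (e - f) v) • (e - f) := by
    intro v
    rw [refl_refl_apply hx hy hxy, hQx, hQy]
  have hge : (refl Q _ hx * refl Q _ hy) e = -e := by
    rw [hg, polar_add_left, polar_sub_left, hee, hfe, zero_add, zero_sub, inv_mul_cancel₀ hb,
      inv_mul_cancel₀ (neg_ne_zero.2 hb)]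
    module
  have hgf : (refl Q _ hx * refl Q _ hy) f = -f := by
    have e1 : (-β)⁻¹ * β = -1 := by
      rw [inv_neg, neg_mul, inv_mul_cancel₀ hb]
    rw [hg, polar_add_left, polar_sub_left, hef, hff, add_zero, sub_zero, inv_mul_cancel₀ hb, e1]
    module
  have hgm : (refl Q _ hx * refl Q _ hy) (M e) = M e := by
    apply refl_refl_perp
    · rw [polar_add_left, hem, hfm, add_zero]
    · rw [polar_sub_left, hem, hfm, sub_zero]
  obtain ⟨y, hy0⟩ : ∃ y, y = refl Q _ hm * (refl Q _ hx * refl Q _ hy) := ⟨_, rfl⟩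
  have hyv : ∀ v, y v = refl Q _ hm ((refl Q _ hx * refl Q _ hy) v) := fun v => by rw [hy0]; rfl
  have hye : y e = -e := by
    rw [hyv, hge, map_neg, refl_perp hm hme]
  have hyf : y f = -f := by
    rw [hyv, hgf, map_neg, refl_perp hm hmf]
  have hym : y (M e) = -M e := by
    rw [hyv, hgm, refl_apply, hmm, hQm]
    have e1 : β⁻¹ * -β = -1 := by rw [mul_neg, inv_mul_cancel₀ hb]
    rw [e1]
    have : M e - (-1 : F) • M e = -M e + (3 : F) • M e := by module
    rw [this, three_smul_eq, add_zero]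
  have hyp : ∀ v, polar Q e v = 0 → polar Q (M e) v = 0 → polar Q f v = 0 → y v = v := by
    intro v h1 h3 h4
    rw [hyv, refl_refl_perp hx hy (by rw [polar_add_left, h1, h4, add_zero]) (by rw [polar_sub_left, h1, h4, sub_zero]),
      refl_perp hm h3]
  have hyO : y ∈ O Q := by
    rw [hy0]; exact mul_mem (refl_mem_O _) (mul_mem (refl_mem_O _) (refl_mem_O _))
  refine ⟨y, hyO, ?_, ?_, ?_⟩
  · intro v
    -- decompose `v`
    obtain ⟨w, hw⟩ : ∃ w, w = v - (β⁻¹ * polar Q f v) • e - (-β⁻¹ * polar Q (M e) v) • M e - (β⁻¹ * polar Q e v) • f :=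
      ⟨_, rfl⟩
    have hb' : β⁻¹ * β = 1 := inv_mul_cancel₀ hb
    have w1 : polar Q e w = 0 := by
      rw [hw]
      simp only [polar_sub_right, polar_smul_right, hee, hem, hef, smul_eq_mul]
      linear_combination (-polar Q e v) * hb'
    have w3 : polar Q (M e) w = 0 := by
      rw [hw]
      simp only [polar_sub_right, polar_smul_right, hme, hmm, hmf, smul_eq_mul]
      linear_combination (-polar Q (M e) v) * hb'
    have w4 : polar Q f w = 0 := by
      rw [hw]
      simp only [polar_sub_right, polar_smul_right, hfe, hfm, hff, smul_eq_mul]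
      linear_combination (-polar Q f v) * hb'
    have hyw : y w = w := hyp w w1 w3 w4
    have hyMw : y (M w) = M w := by
      apply hyp
      · have := hM e w
        rw [w3] at this
        rw [← neg_eq_zero, ← this]
      · have := hM (M e) w
        rw [hMe, w4] at this
        rw [← neg_eq_zero, ← this]
      · have := hM f w
        rw [hMf, polar_zero_left] at this
        rw [← neg_eq_zero, ← this]
    have hv : v = (β⁻¹ * polar Q f v) • e + (-β⁻¹ * polar Q (M e) v) • M e + (β⁻¹ * polar Q e v) • f + w := by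
      rw [hw]; abel
    rw [hv]
    simp only [map_add, map_smul, hye, hyf, hym, hyw, hyMw, hMe, hMf, map_neg, map_zero, neg_zero]
  · rw [hy0, map_mul, map_mul, det_refl, det_refl, det_refl]
    norm_num
  · have e1 : (⟨y, hyO⟩ : O Q) = ⟨refl Q _ hm, refl_mem_O hm⟩ *
        ⟨refl Q _ hx * refl Q _ hy, mul_mem (refl_mem_O hx) (refl_mem_O hy)⟩ := Subtype.ext hy0
    rw [e1, map_mul, sg_refl_refl h2 hx hy, hQx, hQy, sg_refl' h2 hm, hQm]
    have e2 := isSquare_mul_iff h2 hb (neg_ne_zero.2 hb)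
    by_cases h3 : IsSquare β
    · by_cases h4 : IsSquare (-β)
      · rw [if_pos h3, if_pos (e2.2 (iff_of_true h3 h4)), if_pos h4]; norm_num
      · rw [if_pos h3, if_neg (fun h => h4 ((e2.1 h).1 h3)), if_neg h4]; norm_num
    · by_cases h4 : IsSquare (-β)
      · rw [if_neg h3, if_neg (fun h => h3 ((e2.1 h).2 h4)), if_pos h4]; norm_num
      · rw [if_neg h3, if_pos (e2.2 (iff_of_false h3 h4)), if_neg h4]; norm_num

/-- two vectors of different classes -/
theorem exists_two [CharP F 3] (hQ : Nondeg Q) {M : (ι → F) →ₗ[F] (ι → F)} (hM : Skw Q M)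
    (hr : 2 ≤ Module.finrank F (LinearMap.range (M.comp M))) :
    ∃ u v : ι → F, polar Q u (M (M u)) ≠ 0 ∧ polar Q v (M (M v)) ≠ 0 ∧
      ¬ IsSquare (polar Q u (M (M u)) * polar Q v (M (M v))) := by
  have h2 : (2 : F) ≠ 0 := two_ne
  by_contra hcon
  push Not at hcon
  have hsym : ∀ u v, polar Q v (M (M u)) = polar Q u (M (M v)) := fun u v => by rw [← hM.sq, polar_comm]
  obtain ⟨u, hu⟩ : ∃ u, polar Q u (M (M u)) ≠ 0 := by
    by_contra h0
    push Not at h0
    have h3 : ∀ v, M (M v) = 0 := by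
      intro v
      apply hQ
      intro w
      have h4 := h0 (v + w)
      rw [map_add, map_add, polar_add_left, polar_add_right, polar_add_right, h0 v, h0 w, hsym v w, zero_add, add_zero,
        ← two_mul] at h4
      rw [hM.sq]
      exact (mul_eq_zero.1 h4).resolve_left h2
    have h4 : LinearMap.range (M.comp M) = ⊥ := by
      rw [eq_bot_iff]
      rintro _ ⟨v, rfl⟩
      exact h3 v
    rw [h4, finrank_bot] at hr
    omega
  obtain ⟨β, hβ⟩ : ∃ β, β = polar Q u (M (M u)) := ⟨_, rfl⟩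
  rw [← hβ] at hu
  have h3 : ∀ v, polar Q u (M (M v)) = 0 → polar Q v (M (M v)) = 0 := by
    intro v hv
    by_contra h4
    obtain ⟨c, hc⟩ := exists_nonsq (F := F)
    have hc0 : c ≠ 0 := by rintro rfl; exact hc ⟨0, (mul_zero 0).symm⟩
    have := Fintype.ofFinite F
    obtain ⟨x, y, hxy⟩ := FiniteField.exists_root_sum_quadratic (R := F)
      (f := Polynomial.C β * Polynomial.X ^ 2) (g := Polynomial.C (polar Q v (M (M v))) * Polynomial.X ^ 2 -
        Polynomial.C (c * β)) (Polynomial.degree_C_mul_X_pow 2 hu)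
      (by
        rw [Polynomial.degree_sub_C]
        · exact Polynomial.degree_C_mul_X_pow 2 h4
        · rw [Polynomial.degree_C_mul_X_pow 2 h4]; norm_num) (FiniteField.odd_card_of_char_ne_two ringChar_ne)
    simp only [Polynomial.eval_mul, Polynomial.eval_C, Polynomial.eval_pow, Polynomial.eval_X, Polynomial.eval_sub] at hxy
    have h5 : polar Q (x • u + y • v) (M (M (x • u + y • v))) = c * β := by
      rw [map_add, map_add, map_smul, map_smul, map_smul, map_smul, polar_add_left, polar_add_right, polar_add_right,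
        polar_smul_left, polar_smul_left, polar_smul_left, polar_smul_left, polar_smul_right, polar_smul_right,
        polar_smul_right, polar_smul_right, hsym u v, hv, ← hβ]
      simp only [smul_eq_mul]
      linear_combination hxy
    have h6 := hcon u (x • u + y • v) (by rw [← hβ]; exact hu) (by rw [h5]; exact mul_ne_zero hc0 hu)
    rw [h5, ← hβ] at h6
    have e1 : β * (c * β) = (β * β) * c := by ring
    rw [e1, isSquare_mul_iff h2 (mul_ne_zero hu hu) hc0] at h6
    exact hc (h6.1 ⟨β, rfl⟩)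
  have h4 : ∀ v, polar Q u (M (M v)) = 0 → M (M v) = 0 := by
    intro v hv
    apply hQ
    intro w
    rw [hM.sq]
    obtain ⟨w', hw'⟩ : ∃ w', w' = w - (β⁻¹ * polar Q u (M (M w))) • u := ⟨_, rfl⟩
    have h5 : polar Q u (M (M w')) = 0 := by
      rw [hw', map_sub, map_sub, map_smul, map_smul, polar_sub_right, polar_smul_right, ← hβ, smul_eq_mul]
      field_simp
      ring
    have h6 := h3 (v + w') (by rw [map_add, map_add, polar_add_right, hv, h5, add_zero])
    rw [map_add, map_add, polar_add_left, polar_add_right, polar_add_right, h3 v hv, h3 w' h5, hsym v w', zero_add,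
      add_zero, ← two_mul] at h6
    have h7 := (mul_eq_zero.1 h6).resolve_left h2
    have h8 : polar Q v (M (M w)) = polar Q v (M (M w')) + (β⁻¹ * polar Q u (M (M w))) * polar Q v (M (M u)) := by
      rw [hw', map_sub, map_sub, map_smul, map_smul, polar_sub_right, polar_smul_right, smul_eq_mul]
      ring
    rw [h8, h7, hsym u v, hv, mul_zero, add_zero]
  have h5 : LinearMap.range (M.comp M) ≤ Submodule.span F {M (M u)} := by
    rintro _ ⟨v, rfl⟩
    rw [Submodule.mem_span_singleton]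
    refine ⟨β⁻¹ * polar Q u (M (M v)), ?_⟩
    have h6 := h4 (v - (β⁻¹ * polar Q u (M (M v))) • u) (by
      rw [map_sub, map_sub, map_smul, map_smul, polar_sub_right, polar_smul_right, ← hβ, smul_eq_mul]
      field_simp
      ring)
    rw [map_sub, map_sub, map_smul, map_smul, sub_eq_zero] at h6
    exact h6.symm
  have h6 := Submodule.finrank_mono h5
  have h7 : M (M u) ≠ 0 := by
    intro h
    rw [h, polar_zero_right] at hβ
    exact hu hβ
  rw [finrank_span_singleton h7] at h6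
  omega

/-- `rank (z - 1)² ≥ 2`: `z` is real -/
theorem real_of_rank [CharP F 3] (hG : Good Q) {z : (ι → F) ≃ₗ[F] (ι → F)} (hzO : z ∈ O Q) (hz : z ^ 3 = 1)
    (hr : 2 ≤ Module.finrank F (LinearMap.range ((lg z).comp (lg z)))) : ∃ h ∈ E Q, h * z * h⁻¹ = z⁻¹ := by
  classical
  have h2 : (2 : F) ≠ 0 := two_ne
  have hM := skw_lg hzO hz
  obtain ⟨u, v, hu, hv, huv⟩ := exists_two hG.nondeg hM hr
  obtain ⟨y1, hy1, c1, d1, s1⟩ := block_neg hM (lg_three hz) hu
  obtain ⟨y2, hy2, c2, d2, s3⟩ := block_neg hM (lg_three hz) hv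
  refine real_of_comm hG hzO hz (mul_mem hy1 hy2) (comm_of_lg hz fun w => ?_) (by rw [map_mul, d1, d2]; norm_num) ?_
  · show y1 (y2 (lg z w)) = lg z (y1 (y2 w))
    rw [c2, c1]
  · have e1 : (⟨y1 * y2, mul_mem hy1 hy2⟩ : O Q) = ⟨y1, hy1⟩ * ⟨y2, hy2⟩ := rfl
    rw [e1, map_mul, s1, s3]
    have h3 : ¬ IsSquare (-polar Q u (lg z (lg z u)) * -polar Q v (lg z (lg z v))) := by
      rw [neg_mul_neg]; exact huv
    rw [isSquare_mul_iff h2 (neg_ne_zero.2 hu) (neg_ne_zero.2 hv)] at h3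
    by_cases h4 : IsSquare (-polar Q u (lg z (lg z u)))
    · rw [if_pos h4, if_neg (fun h5 => h3 (iff_of_true h4 h5))]; norm_num
    · rw [if_neg h4, if_pos]
      · norm_num
      · by_contra h5; exact h3 (iff_of_false h4 h5)

end Cfsg.Agent.H502.Car
end

private theorem dce_7259401576a0 : _root_.True := by
  try have : _root_.True := by simp only [_root_.Cfsg.Agent.H502.Car.eta.eq_1]
  exact _root_.True.intro
end

-- part: H502/Car/PrimeNe
section
prune_inst 0x7510050009a0120000180500a2001e0292000000000800000800080404800c0820008061a4200100000280440030006003000000424000000e000000011d0080800052040240a008a60019000080000000000000000000000000000000010000000000000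
set_option linter.all false
open scoped Cfsg.Agent.FastGrp

-- part: H502/Car/PrimeA
section
/-!
# S3852, orthogonal groups: elements of odd prime order prime to the characteristic (helper502), I

* `exists_pow_ne` : `z` is conjugate in `E Q` to another power, if `r ∤ q² - 1` or `z` has a fixed vector or
  `dim V ≢ 2 mod 4`;
* `exists_invs` : isometries inverting `z` with prescribed spinor sign;
* `conj_frob` : if a `σ`-semilinear bijection commutes with `z`, `σ a = a ^ p ^ i`, then `z ~ z ^ p ^ i`.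
-/

set_option autoImplicit false
set_option linter.unusedSectionVars false

namespace Cfsg.Agent.H502.Car

open QuadraticMap Cfsg.Agent.LieClassical.OrthCore Cfsg.Agent.LieClassical.OrthTrans
  Cfsg.Agent.LieClassical.OrthSimple Cfsg.Agent.LieClassical.OrthFinite Cfsg.Agent.ClassicalGeometry.OrthSemi
  Cfsg.Agent.ClassicalGeometry.SpinorSign Cfsg.Agent.ClassicalGeometry.OmegaIndex Cfsg.Agent.FooteOrth

section

variable {F : Type} [Field F] {ι : Type} [Fintype ι] [DecidableEq ι] {Q : QuadraticForm F (ι → F)}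

theorem nd_of (hG : Good Q) : (polarBilin Q).Nondegenerate := by
  refine ⟨fun x hx => hG.nondeg x hx, fun x hx => hG.nondeg x fun y => ?_⟩
  rw [polar_comm]
  exact hx y

theorem dim_of (hG : Good Q) : 5 ≤ Fintype.card ι := by
  have := hG.dim
  rwa [Module.finrank_fintype_fun_eq_card] at this

theorem ig_act (h : Cfsg.isometryGroup F ⇑Q) (v : ι → F) :
    (isometryEquiv Q h).1 v = Cfsg.Agent.ClassicalGeometry.OrthCharTwo.act h v := rfl

theorem exists_ig {g : (ι → F) ≃ₗ[F] (ι → F)} (hg : g ∈ O Q) :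
    ∃ h : Cfsg.isometryGroup F ⇑Q, isometryEquiv Q h = ⟨g, hg⟩ :=
  ⟨(isometryEquiv Q).symm ⟨g, hg⟩, MulEquiv.apply_symm_apply _ _⟩

theorem ig_omega (hG : Good Q) {h : Cfsg.isometryGroup F ⇑Q} (hh : h ∈ Cfsg.Omega F ⇑Q) :
    (isometryEquiv Q h).1 ∈ E Q := by
  rw [← hG.commutator_eq_E, ← map_Omega]
  exact Subgroup.mem_map_of_mem _ hh

theorem exists_theta (h2 : (2 : F) ≠ 0) : ∃ θ : F, θ ≠ 0 ∧ θ ≠ 1 := by
  refine ⟨-1, neg_ne_zero.2 one_ne_zero, fun h => h2 ?_⟩
  linear_combination -h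

/-- **`z` is conjugate to another power** -/
theorem exists_pow_ne [Finite F] (hG : Good Q) (h2 : (2 : F) ≠ 0) {r : ℕ} (hr : r.Prime) (hr2 : r ≠ 2)
    (hrF : (r : F) ≠ 0) {z : (ι → F) ≃ₗ[F] (ι → F)} (hz : z ∈ O Q) (hzr : z ^ r = 1)
    (hfd : r ∣ Nat.card F ^ 2 - 1 → (∃ v, v ≠ 0 ∧ z v = v) ∨ Fintype.card ι % 4 ≠ 2) :
    ∃ k : ℕ, ¬ k ≡ 1 [MOD r] ∧ ∃ h ∈ E Q, h * z * h⁻¹ = z ^ k := by
  have := Fintype.ofFinite F
  rw [Nat.card_eq_fintype_card] at hfd
  obtain ⟨g, hg⟩ := exists_ig hz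
  have hgr : g ^ r = 1 := by
    apply (isometryEquiv Q).injective
    rw [map_pow, hg, map_one]
    exact Subtype.ext hzr
  have hgz : (isometryEquiv Q g).1 = z := congrArg Subtype.val hg
  have hd := dim_of hG
  by_cases hq : r ∣ Fintype.card F ^ 2 - 1
  · obtain ⟨h, hh, hc⟩ := Cfsg.Agent.H507.GmnOrth.real_omega hr hr2 hrF hq (nd_of hG) (by omega)
      (Or.inl (exists_theta h2)) hgr (by
        rcases hfd hq with ⟨v, hv0, hv⟩ | h
        · left
          refine ⟨v, hv0, ?_⟩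
          rw [← ig_act, hgz]
          exact hv
        · exact Or.inr h)
    refine ⟨r - 1, fun h3 => ?_, (isometryEquiv Q h).1, ig_omega hG hh, ?_⟩
    · have hp1 := hr.two_le
      have h4 := (Nat.modEq_iff_dvd' (by omega : 1 ≤ r - 1)).1 h3.symm
      have h5 := Nat.le_of_dvd (by omega) h4
      omega
    · have h3 : z ^ (r - 1) = z⁻¹ := by
        rw [eq_inv_iff_mul_eq_one, ← pow_succ, Nat.sub_add_cancel hr.one_le, hzr]
      rw [h3]
      have h4 := congrArg (fun x => (isometryEquiv Q x).1) hc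
      simp only [map_mul, map_inv, Subgroup.coe_mul, Subgroup.coe_inv, hgz] at h4
      exact h4
  · obtain ⟨h, hh⟩ := Cfsg.Agent.H507.GmnOrthRows.exists_conj_pow (nd_of hG) hr hr2 hrF hgr
    refine ⟨Fintype.card F ^ 2, fun h3 => hq ?_, (isometryEquiv Q h).1 * (isometryEquiv Q h).1,
      Cfsg.Agent.H749.sq_mem_E hG (isometryEquiv Q h).2, ?_⟩
    · exact (Nat.modEq_iff_dvd' (Nat.one_le_pow _ _ Fintype.card_pos)).1 h3.symm
    · have h4 := congrArg (fun x => (isometryEquiv Q x).1) hh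
      simp only [map_mul, map_inv, map_pow, Subgroup.coe_mul, Subgroup.coe_inv, Subgroup.coe_pow, hgz] at h4
      obtain ⟨y, hy⟩ : ∃ y, y = (isometryEquiv Q h).1 := ⟨_, rfl⟩
      rw [← hy] at h4 ⊢
      calc y * y * z * (y * y)⁻¹ = y * (y * z * y⁻¹) * y⁻¹ := by group
        _ = _ := by rw [h4, ← conj_pow, h4, ← pow_mul, pow_two]

/-- **isometries inverting `z`** -/
theorem exists_invs [Finite F] (hG : Good Q) (h2 : (2 : F) ≠ 0) {r : ℕ} (hr : r.Prime) (hr2 : r ≠ 2)
    {z : (ι → F) ≃ₗ[F] (ι → F)} (hz : z ∈ O Q) (hzr : z ^ r = 1)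
    (hq : r ∣ Nat.card F ^ 2 - 1) (hfix : ∀ v, z v = v → v = 0) {m : ℕ} (hm : Fintype.card ι = 2 * m) (ε : ℤˣ) :
    ∃ h : (ι → F) ≃ₗ[F] (ι → F), ∃ hO : h ∈ O Q, h * z * h⁻¹ = z⁻¹ ∧ LinearEquiv.det h = (-1) ^ m ∧
      sg Q ⟨h, hO⟩ = ε := by
  have := Fintype.ofFinite F
  rw [Nat.card_eq_fintype_card] at hq
  obtain ⟨g, hg⟩ := exists_ig hz
  have hgr : g ^ r = 1 := by
    apply (isometryEquiv Q).injective
    rw [map_pow, hg, map_one]
    exact Subtype.ext hzr
  have hgz : (isometryEquiv Q g).1 = z := congrArg Subtype.val hg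
  have hd := dim_of hG
  obtain ⟨k, h, hk, H, hs⟩ := Cfsg.Agent.H507.GmnOrth.exists_inv hr hr2 hq (nd_of hG) hgr (Fintype.card ι) ⊤
    (by rw [finrank_top, Module.finrank_fintype_fun_eq_card]) (by omega) (fun _ _ => Submodule.mem_top)
    (fun x _ hx => hG.nondeg x fun y => hx y Submodule.mem_top) (fun u _ hu => hfix u (by
      rw [← hgz, ig_act]
      exact hu)) ε
  have hkm : k = m := by omega
  subst hkm
  refine ⟨(isometryEquiv Q h).1, (isometryEquiv Q h).2, ?_, ?_, ?_⟩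
  · rw [mul_inv_eq_iff_eq_mul]
    ext1 v
    have h1 := H.inv v Submodule.mem_top
    have h3 : z⁻¹ = (isometryEquiv Q g⁻¹).1 := by rw [map_inv, Subgroup.coe_inv, hgz]
    show (isometryEquiv Q h).1 (z v) = z⁻¹ ((isometryEquiv Q h).1 v)
    rw [h3, ← hgz]
    exact h1
  · apply Units.ext
    rw [det_isometryEquiv, H.det, Units.val_pow_eq_pow_val, Units.val_neg, Units.val_one]
  · rw [← hs h2]
    show spinorSign (⇑Q) 1 ((isometryEquiv Q).symm (isometryEquiv Q h)) = _
    rw [MulEquiv.symm_apply_apply]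

theorem exists_frob [Finite F] {p : ℕ} [Fact p.Prime] [CharP F p] (τ : F ≃+* F) :
    ∃ n : ℕ, ∀ x : F, τ x = x ^ p ^ n := by
  classical
  have := Fintype.ofFinite F
  let _ : Algebra (ZMod p) F := ZMod.algebra F p
  let σ : F ≃ₐ[ZMod p] F := AlgEquiv.ofRingEquiv (f := τ) (fun x => by
    have : (τ : F →+* F).comp (algebraMap (ZMod p) F) = algebraMap (ZMod p) F := Subsingleton.elim _ _
    exact RingHom.congr_fun this x)
  obtain ⟨n, hn⟩ := (FiniteField.bijective_frobeniusAlgEquivOfAlgebraic_pow (ZMod p) F).2 σ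
  refine ⟨n, fun x => ?_⟩
  have h1 : τ x = σ x := rfl
  rw [h1, ← hn]
  change (FiniteField.frobeniusAlgEquivOfAlgebraic (ZMod p) F ^ (n : ℕ)) x = _
  rw [AlgEquiv.coe_pow, FiniteField.coe_frobeniusAlgEquivOfAlgebraic_iterate, ZMod.card]

theorem charpoly_toLin (M : Matrix ι ι F) : (Matrix.toLin' M).charpoly = M.charpoly := by
  rw [← LinearMap.charpoly_toMatrix (Matrix.toLin' M) (Pi.basisFun F ι), ← LinearMap.toMatrix'_toLin' M]
  simp only [LinearMap.toMatrix_eq_toMatrix', _root_.LinearMap.toMatrix'_toLin']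

/-- a semilinear bijection commuting with `Z` -/
theorem charpoly_semi {σ : F ≃+* F} {M : Equiv.Perm (ι → F)} (hadd : ∀ u v, M (u + v) = M u + M v)
    (hsmul : ∀ (a : F) (v : ι → F), M (a • v) = σ a • M v) {Z : Matrix ι ι F}
    (hc : ∀ v, M (Z.mulVec v) = Z.mulVec (M v)) : Z.charpoly.map (σ : F →+* F) = Z.charpoly := by
  let s : (ι → F) ≃ (ι → F) := Equiv.piCongrRight fun _ => σ.toEquiv
  have hs : ∀ v, s v = (σ : F →+* F) ∘ v := fun v => rfl
  let A : (ι → F) ≃ₗ[F] (ι → F) :=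
    { toFun := fun v => M (s.symm v)
      invFun := fun v => s (M.symm v)
      map_add' := by
        intro u v
        have h1 : s.symm (u + v) = s.symm u + s.symm v := by
          rw [Equiv.symm_apply_eq]
          funext i
          show u i + v i = σ (σ.symm (u i) + σ.symm (v i))
          rw [map_add, σ.apply_symm_apply, σ.apply_symm_apply]
        rw [h1, hadd]
      map_smul' := by
        intro a v
        have h1 : s.symm (a • v) = σ.symm a • s.symm v := by
          rw [Equiv.symm_apply_eq]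
          funext i
          show a * v i = σ (σ.symm a * σ.symm (v i))
          rw [map_mul, σ.apply_symm_apply, σ.apply_symm_apply]
        rw [h1, hsmul, σ.apply_symm_apply]
        rfl
      left_inv := fun v => by
        show s (M.symm (M (s.symm v))) = v
        rw [Equiv.symm_apply_apply, Equiv.apply_symm_apply]
      right_inv := fun v => by
        show M (s.symm (s (M.symm v))) = v
        rw [Equiv.symm_apply_apply, Equiv.apply_symm_apply] }
  have hA : ∀ v, A (s v) = M v := fun v => by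
    show M (s.symm (s v)) = _
    rw [Equiv.symm_apply_apply]
  have h1 : A.conj (Matrix.toLin' (Z.map (σ : F →+* F))) = Matrix.toLin' Z := by
    refine LinearMap.ext fun w => ?_
    obtain ⟨v, rfl⟩ : ∃ v, A (s v) = w := ⟨s.symm (A.symm w), by rw [Equiv.apply_symm_apply, LinearEquiv.apply_symm_apply]⟩
    rw [LinearEquiv.conj_apply_apply, LinearEquiv.symm_apply_apply, Matrix.toLin'_apply, Matrix.toLin'_apply]
    have h2 : (Z.map (σ : F →+* F)).mulVec (s v) = s (Z.mulVec v) := by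
      funext i
      exact (RingHom.map_mulVec (σ : F →+* F) Z v i).symm
    rw [h2, hA, hA, hc]
  rw [← Matrix.charpoly_map, ← charpoly_toLin, ← charpoly_toLin, ← h1, LinearEquiv.charpoly_conj]

/-- **`z ~ z ^ p ^ i`** -/
theorem conj_frob [Finite F] (hG : Good Q) {p : ℕ} [Fact p.Prime] [CharP F p] {r : ℕ} (hr : r.Prime) (hr2 : r ≠ 2)
    (hrF : (r : F) ≠ 0) {z : (ι → F) ≃ₗ[F] (ι → F)} (hz : z ∈ O Q) (hzr : z ^ r = 1)
    {σ : F ≃+* F} {i : ℕ} (hσ : ∀ x, σ x = x ^ p ^ i) {M : Equiv.Perm (ι → F)} (hadd : ∀ u v, M (u + v) = M u + M v)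
    (hsmul : ∀ (a : F) (v : ι → F), M (a • v) = σ a • M v) (hc : ∀ v, M (z v) = z (M v)) :
    ∃ h ∈ O Q, h * z * h⁻¹ = z ^ p ^ i := by
  obtain ⟨g, hg⟩ := exists_ig hz
  have hgr : g ^ r = 1 := by
    apply (isometryEquiv Q).injective
    rw [map_pow, hg, map_one]
    exact Subtype.ext hzr
  have hgz : (isometryEquiv Q g).1 = z := congrArg Subtype.val hg
  have hgq : (g ^ p ^ i) ^ r = 1 := by rw [← pow_mul, mul_comm, pow_mul, hgr, one_pow]
  have hcj : IsConj g (g ^ p ^ i) := by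
    rw [Cfsg.Agent.H193.OrthConj.isConj_iff Q (nd_of hG) g (g ^ p ^ i) (hr.odd_of_ne_two hr2) hrF hgr hgq]
    have hsq : Squarefree (Polynomial.X ^ r - 1 : Polynomial F) := by
      have h1 : (Polynomial.X ^ r - Polynomial.C (1 : F)).Separable :=
        Polynomial.separable_X_pow_sub_C (1 : F) hrF one_ne_zero
      rw [Polynomial.C_1] at h1
      exact h1.squarefree
    have hpow : ∀ k : Cfsg.isometryGroup F (⇑Q), k ^ r = 1 →
        Polynomial.aeval ((k : Matrix.GeneralLinearGroup ι F) : Matrix ι ι F) (Polynomial.X ^ r - 1 : Polynomial F) = 0 := by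
      intro k hk
      have h1 : ((k : Matrix.GeneralLinearGroup ι F) : Matrix ι ι F) ^ r = 1 := by
        rw [← Units.val_pow_eq_pow_val, ← SubmonoidClass.coe_pow, hk]; rfl
      rw [map_sub, map_pow, Polynomial.aeval_X, h1, map_one, sub_self]
    have h1 := Cfsg.Agent.H193.SsConj.isConj_of_charpoly (g : Matrix.GeneralLinearGroup ι F)
      ((g ^ p ^ i : Cfsg.isometryGroup F (⇑Q)) : Matrix.GeneralLinearGroup ι F) _ hsq (hpow _ hgr) (hpow _ hgq) (by
        rw [SubmonoidClass.coe_pow, Units.val_pow_eq_pow_val, Cfsg.Agent.H709.CharPow.charpoly_pow_char]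
        have h3 : iterateFrobenius F p i = (σ : F →+* F) := by
          ext x
          rw [iterateFrobenius_def]
          exact (hσ x).symm
        rw [h3]
        symm
        refine charpoly_semi hadd hsmul fun v => ?_
        have h4 := hc v
        rw [← hgz] at h4
        exact h4)
    exact (MonoidHom.map_isConj (Units.coeHom (Matrix ι ι F)) h1 :)
  obtain ⟨h, hh⟩ := isConj_iff.1 hcj
  refine ⟨(isometryEquiv Q h).1, (isometryEquiv Q h).2, ?_⟩
  have h4 := congrArg (fun x => (isometryEquiv Q x).1) hh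
  simp only [map_mul, map_inv, map_pow, Subgroup.coe_mul, Subgroup.coe_inv, Subgroup.coe_pow, hgz] at h4
  exact h4

end

end Cfsg.Agent.H502.Car
end

-- part: H502/Car/PrimeB
section
/-!
# S3852, orthogonal groups: elements of odd prime order prime to the characteristic (helper502), II

The operator `T = z + z⁻¹` and the isometries `1 - 2 (T - t) ^ (q - 1)`.
-/

set_option autoImplicit false
set_option linter.unusedSectionVars false

namespace Cfsg.Agent.H502.Car

open QuadraticMap Cfsg.Agent.LieClassical.OrthCore Cfsg.Agent.LieClassical.OrthTrans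

section

variable {F V : Type*} [Field F] [AddCommGroup V] [Module F V] {Q : QuadraticForm F V}

/-- `z + z⁻¹` -/
noncomputable def Tz (z : V ≃ₗ[F] V) : Module.End F V := (z : V →ₗ[F] V) + ((z⁻¹ : V ≃ₗ[F] V) : V →ₗ[F] V)

theorem Tz_apply (z : V ≃ₗ[F] V) (v : V) : Tz z v = z v + z⁻¹ v := rfl

theorem Tz_inv (z : V ≃ₗ[F] V) : Tz z⁻¹ = Tz z := by
  rw [Tz, Tz, inv_inv, add_comm]

theorem coe_pow_end (z : V ≃ₗ[F] V) (n : ℕ) :
    ((z : V →ₗ[F] V) : Module.End F V) ^ n = ((z ^ n : V ≃ₗ[F] V) : V →ₗ[F] V) := by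
  refine LinearMap.ext fun v => ?_
  induction n generalizing v with
  | zero => rfl
  | succ n ih =>
    rw [pow_succ, pow_succ]
    exact ih (z v)

theorem Tz_pow [Nontrivial V] {p : ℕ} [Fact p.Prime] [CharP F p] (z : V ≃ₗ[F] V) (i : ℕ) :
    Tz z ^ p ^ i = Tz (z ^ p ^ i) := by
  haveI : CharP (Module.End F V) p :=
    charP_of_injective_algebraMap (algebraMap F (Module.End F V)).injective p
  have hc : Commute ((z : V →ₗ[F] V) : Module.End F V) ((z⁻¹ : V ≃ₗ[F] V) : V →ₗ[F] V) := by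
    refine LinearMap.ext fun v => ?_
    show z (z⁻¹ v) = z⁻¹ (z v)
    rw [← LinearEquiv.mul_apply, ← LinearEquiv.mul_apply, mul_inv_cancel, inv_mul_cancel]
  rw [Tz, add_pow_expChar_pow_of_commute _ _ hc, coe_pow_end, coe_pow_end, inv_pow]
  rfl

theorem pow_eig {T : Module.End F V} {t : F} {v : V} (h : T v = t • v) (n : ℕ) : (T ^ n) v = t ^ n • v := by
  induction n with
  | zero => rw [pow_zero, pow_zero, one_smul]; rfl
  | succ n ih => rw [pow_succ, Module.End.mul_apply, h, map_smul, ih, smul_smul, pow_succ, mul_comm]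

/-- eigenvalues of `T` are fixed by the Frobenius -/
theorem frob_eig {p : ℕ} [Fact p.Prime] [CharP F p] {z : V ≃ₗ[F] V} {i : ℕ}
    (h : z ^ p ^ i = z ∨ z ^ p ^ i = z⁻¹) {t : F} {v : V} (hv : v ≠ 0) (ht : Tz z v = t • v) : t ^ p ^ i = t := by
  have : Nontrivial V := ⟨⟨v, 0, hv⟩⟩
  have h1 : Tz z ^ p ^ i = Tz z := by
    rw [Tz_pow]
    rcases h with h | h <;> rw [h]
    exact Tz_inv z
  have h3 := pow_eig ht (p ^ i)
  rw [h1, ht] at h3
  exact (smul_left_injective F hv h3).symm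

theorem Tz_card [Finite F] [Nontrivial V] {z : V ≃ₗ[F] V} {r : ℕ} (hr : r.Prime) (hq : r ∣ Nat.card F ^ 2 - 1)
    (hz : z ^ r = 1) : Tz z ^ Nat.card F = Tz z := by
  have := Fintype.ofFinite F
  obtain ⟨p, hp⟩ := CharP.exists F
  have hpp : Fact p.Prime := ⟨CharP.char_is_prime F p⟩
  obtain ⟨k, -, hk⟩ := FiniteField.card F p
  have hcard : 1 < Nat.card F := Finite.one_lt_card
  have hd : r ∣ Nat.card F - 1 ∨ r ∣ Nat.card F + 1 := by
    have h3 : Nat.card F ^ 2 - 1 = (Nat.card F - 1) * (Nat.card F + 1) := by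
      rw [mul_comm, ← Nat.sq_sub_sq, one_pow]
    rw [h3] at hq
    exact (Nat.Prime.dvd_mul hr).1 hq
  have h1 : z ^ Nat.card F = z ∨ z ^ Nat.card F = z⁻¹ := by
    rcases hd with ⟨c, hc⟩ | ⟨c, hc⟩
    · left
      have h3 : Nat.card F = r * c + 1 := by omega
      rw [h3, pow_succ, pow_mul, hz, one_pow, one_mul]
    · right
      rw [eq_inv_iff_mul_eq_one, ← pow_succ, hc, pow_mul, hz, one_pow]
  rw [Nat.card_eq_fintype_card, hk] at h1 ⊢
  rw [Tz_pow]
  rcases h1 with h1 | h1 <;> rw [h1]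
  exact Tz_inv z

/-- the isometry which is `1` on the `t`-eigenspace of `T` and `-1` on the other ones -/
theorem exists_xt [Finite F] [Nontrivial V] {z : V ≃ₗ[F] V} (hz : z ∈ O Q)
    (hT : Tz z ^ Nat.card F = Tz z) (t : F) (h2 : (2 : F) ≠ 0) :
    ∃ x : V ≃ₗ[F] V, x ∈ O Q ∧ x * x = 1 ∧ (∀ v, x v = v ↔ Tz z v = t • v) ∧ (∀ v, x (z v) = z (x v)) ∧
      ∀ (σ : F ≃+* F) (M : Equiv.Perm V), (∀ u v, M (u + v) = M u + M v) → (∀ (a : F) (v : V), M (a • v) = σ a • M v) →
        σ t = t → (∀ v, M (z v) = z (M v)) → ∀ v, M (x v) = x (M v) := by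
  have := Fintype.ofFinite F
  obtain ⟨p, hp⟩ := CharP.exists F
  have hpp : Fact p.Prime := ⟨CharP.char_is_prime F p⟩
  haveI : CharP (Module.End F V) p :=
    charP_of_injective_algebraMap (algebraMap F (Module.End F V)).injective p
  obtain ⟨k, -, hk⟩ := FiniteField.card F p
  have hcard : 1 < Nat.card F := Finite.one_lt_card
  obtain ⟨U, hU, hUv⟩ : ∃ U : Module.End F V, U = Tz z - algebraMap F (Module.End F V) t ∧
      ∀ v, U v = Tz z v - t • v := ⟨_, rfl, fun v => rfl⟩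
  have hUq : U ^ Nat.card F = U := by
    rw [Nat.card_eq_fintype_card, hk, hU, sub_pow_expChar_pow_of_commute, ← hk, ← Nat.card_eq_fintype_card, hT,
      ← map_pow, Nat.card_eq_fintype_card, FiniteField.pow_card]
    exact (Algebra.commutes t (Tz z)).symm
  obtain ⟨n, hn⟩ : ∃ n, Nat.card F = n + 2 := ⟨Nat.card F - 2, by omega⟩
  obtain ⟨N, hN⟩ : ∃ N, N = U ^ (n + 1) := ⟨_, rfl⟩
  rw [hn] at hUq
  have hNN : ∀ v, N (N v) = N v := by
    intro v
    have h1 : N * N = N := by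
      rw [hN, ← pow_add, show n + 1 + (n + 1) = n + (n + 2) by ring, pow_add, hUq, ← pow_succ]
    exact LinearMap.congr_fun h1 v
  have hker : ∀ v, N v = 0 ↔ Tz z v = t • v := by
    intro v
    constructor
    · intro h
      have h1 : U (N v) = U v := by
        have h3 : U * N = U := by rw [hN, ← pow_succ', hUq]
        exact LinearMap.congr_fun h3 v
      rw [h, map_zero, hUv] at h1
      exact sub_eq_zero.1 h1.symm
    · intro h
      have h1 : U v = 0 := by rw [hUv, h, sub_self]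
      rw [hN, pow_succ, Module.End.mul_apply, h1, map_zero]
  -- self-adjoint
  have hsU : ∀ v w, polar Q (U v) w = polar Q v (U w) := by
    intro v w
    have h1 : ∀ v w, polar Q (z v) w = polar Q v (z⁻¹ w) := by
      intro v w
      have h3 := polar_map hz v (z⁻¹ w)
      rw [← LinearEquiv.mul_apply, mul_inv_cancel] at h3
      exact h3
    have h4 : ∀ v w, polar Q (z⁻¹ v) w = polar Q v (z w) := by
      intro v w
      rw [polar_comm, ← h1, polar_comm]
    rw [hUv, hUv, Tz_apply, Tz_apply, polar_sub_left, polar_add_left, polar_smul_left, polar_sub_right,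
      polar_add_right, polar_smul_right, h1, h4]
    ring
  have hsN : ∀ v w, polar Q (N v) w = polar Q v (N w) := by
    have h1 : ∀ (j : ℕ) (v w : V), polar Q ((U ^ j) v) w = polar Q v ((U ^ j) w) := by
      intro j
      induction j with
      | zero => intro v w; rfl
      | succ j ih =>
        intro v w
        rw [pow_succ, Module.End.mul_apply, Module.End.mul_apply, ih, hsU]
        congr 1
        have h3 : U * U ^ j = U ^ j * U := by rw [← pow_succ, ← pow_succ']
        exact LinearMap.congr_fun h3 w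
    rw [hN]
    exact h1 (n + 1)
  -- commutation with `z`
  have hzU : ∀ v, U (z v) = z (U v) := by
    intro v
    rw [hUv, hUv, Tz_apply, Tz_apply, map_sub, map_add, map_smul, ← LinearEquiv.mul_apply z⁻¹ z,
      ← LinearEquiv.mul_apply z z⁻¹, inv_mul_cancel, mul_inv_cancel]
  have hzN : ∀ v, N (z v) = z (N v) := by
    have h1 : ∀ (j : ℕ) (v : V), (U ^ j) (z v) = z ((U ^ j) v) := by
      intro j
      induction j with
      | zero => intro v; rfl
      | succ j ih =>
        intro v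
        rw [pow_succ, Module.End.mul_apply, Module.End.mul_apply, hzU, ih]
    rw [hN]
    exact h1 (n + 1)
  have hx : ∀ v, (1 - (2 : F) • N : Module.End F V) ((1 - (2 : F) • N : Module.End F V) v) = v := by
    intro v
    have e : ∀ v, (1 - (2 : F) • N : Module.End F V) v = v - (2 : F) • N v := fun _ => rfl
    rw [e, e, map_sub, map_smul, hNN]
    module
  obtain ⟨x, hxv⟩ : ∃ x : V ≃ₗ[F] V, ∀ v, x v = v - (2 : F) • N v :=
    ⟨LinearEquiv.ofLinear (1 - (2 : F) • N) (1 - (2 : F) • N) (LinearMap.ext hx) (LinearMap.ext hx), fun _ => rfl⟩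
  refine ⟨x, ?_, ?_, ?_, ?_, ?_⟩
  · intro v
    have h1 : polar Q v (N v) = 2 * Q (N v) := by
      rw [← hNN v, ← hsN, hNN, QuadraticMap.polar_self, ← smul_eq_mul, ofNat_smul_eq_nsmul F 2]
    rw [hxv, sub_eq_add_neg, ← neg_smul, QuadraticMap.map_add Q, QuadraticMap.map_smul, polar_smul_right, h1, smul_eq_mul,
      smul_eq_mul]
    ring
  · ext v
    show x (x v) = v
    rw [hxv, hxv]
    exact hx v
  · intro v
    rw [hxv, ← hker, sub_eq_self, smul_eq_zero, or_iff_right h2]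
  · intro v
    rw [hxv, hxv, map_sub, map_smul, hzN]
  · intro σ M hadd hsmul hσ hM v
    have hM0 : M 0 = 0 := by
      have := hadd 0 0
      rw [add_zero] at this
      exact left_eq_add.1 this
    have hneg : ∀ u, M (-u) = - M u := by
      intro u
      have := hadd u (-u)
      rw [add_neg_cancel, hM0] at this
      exact (neg_eq_of_add_eq_zero_right this.symm).symm
    have hsub : ∀ u v, M (u - v) = M u - M v := by
      intro u v
      rw [sub_eq_add_neg, hadd, hneg, sub_eq_add_neg]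
    have hMi : ∀ v, M (z⁻¹ v) = z⁻¹ (M v) := by
      intro v
      have h3 := hM (z⁻¹ v)
      rw [← LinearEquiv.mul_apply z z⁻¹, mul_inv_cancel] at h3
      have h4 : z⁻¹ (M v) = z⁻¹ (z (M (z⁻¹ v))) := congrArg (fun w => z⁻¹ w) h3
      rw [← LinearEquiv.mul_apply z⁻¹ z, inv_mul_cancel] at h4
      exact h4.symm
    have hMU : ∀ v, M (U v) = U (M v) := by
      intro v
      rw [hUv, hUv, Tz_apply, Tz_apply, hsub, hadd, hsmul, hσ, hM, hMi]
    have hMN : ∀ v, M (N v) = N (M v) := by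
      have h1 : ∀ (j : ℕ) (v : V), M ((U ^ j) v) = (U ^ j) (M v) := by
        intro j
        induction j with
        | zero => intro v; rfl
        | succ j ih =>
          intro v
          rw [pow_succ, Module.End.mul_apply, Module.End.mul_apply, ih, hMU]
      rw [hN]
      exact h1 (n + 1)
    have hσ2 : σ 2 = 2 := map_ofNat σ 2
    rw [hxv, hxv, hsub, hsmul, hσ2, hMN]

end

end Cfsg.Agent.H502.Car
end

-- part: H502/Car/Stmts
section
/-!
# S3852, orthogonal groups in odd characteristic: the statements of the open blocks (helper502)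

Notation: `H502/Car/Lift.lean` (`P Q = E Q / Z(E Q)`, `Lf e g M`, `el`, `Fx`, `Iv`).
-/

set_option autoImplicit false

namespace Cfsg.Agent.H502.Car

open QuadraticMap Cfsg.Agent.LieClassical.OrthCore Cfsg.Agent.LieClassical.OrthTrans
  Cfsg.Agent.LieClassical.OrthSimple Cfsg.Agent.ClassicalGeometry.OrthSemi
  Cfsg.Agent.ClassicalGeometry.OrthAut1 Cfsg.Agent.H989.OutOrth.Basic
open Subgroup Pointwise Cfsg.Agent.Solvable.Carter Cfsg.Agent.H18.Carter Cfsg.Agent.H381.Car

universe u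

/-- (FRAME-O) `z` of odd prime order with `z² - a z + 1 = 0`, fixed by the Carter subgroup `K`, `dim V = 2 m`, `m` not a
power of two: there is an isometry `x` of order two, `x ≠ ± 1`, commuting with `z` and with all lifts of elements of `K`.
(`E = F[z]`, `V = E^m`, `TA (C_G(z)) (Fin m) E`, helper308's `claim1`, `x = 2 e - 1`.) -/
def FrameO : Prop :=
  ∀ (F : Type) [Field F] [Finite F] (ι : Type) [Fintype ι] [DecidableEq ι] (Q : QuadraticForm F (ι → F)), Good Q →
    (2 : F) ≠ 0 → ∀ (G : Type u) [Group G] [Finite G] (S : Subgroup G) [S.Normal], Ctx G S →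
    ∀ (K : Subgroup G), IsCarter K → ∀ (e : S ≃* P Q), (∀ g : G, ∃ M : Gam Q, Lf e g M) →
    ∀ (z : ↥(E Q)) (r : ℕ), r.Prime → r ≠ 2 → z ^ r = 1 → z ≠ 1 → Fx e K z →
    ∀ (a : F), (∀ v, z.1 (z.1 v) = a • z.1 v - v) → a * a ≠ 4 →
    ∀ (m : ℕ), Fintype.card ι = 2 * m → (¬ ∃ k : ℕ, m = 2 ^ k) → m ≠ 0 →
    ∃ x : (ι → F) ≃ₗ[F] (ι → F), x ∈ O Q ∧ x * x = 1 ∧ (∃ v, v ≠ 0 ∧ x v = v) ∧ (∃ v, v ≠ 0 ∧ x v = -v) ∧
      (∀ v, x (z.1 v) = z.1 (x v)) ∧ ∀ k ∈ K, ∀ M : Gam Q, Lf e k M → conjLin M x = x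

/-- (FRAME-TS) `R` totally singular, `K`-invariant, `dim R = 2 b`, `b` odd, `b ≥ 3`: there is a `K`-invariant subspace
`0 < W < R` of even dimension.
(`Γ` = the image of the stabiliser of `R` in `PΓL(R)`, acting on `Matrix (Fin (2 b)) (Fin (2 b)) (F × F)`; `exists_lft`
of `H502/Car/Torus` lifts `SL(R)`; helper308's `claim2`.) -/
def FrameTs : Prop :=
  ∀ (F : Type) [Field F] [Finite F] (ι : Type) [Fintype ι] [DecidableEq ι] (Q : QuadraticForm F (ι → F)), Good Q →
    (2 : F) ≠ 0 → ∀ (G : Type u) [Group G] [Finite G] (S : Subgroup G) [S.Normal], Ctx G S →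
    ∀ (K : Subgroup G), IsCarter K → ∀ (e : S ≃* P Q), (∀ g : G, ∃ M : Gam Q, Lf e g M) →
    ∀ (R : Submodule F (ι → F)), Ts Q R → Iv e K R → ∀ (b : ℕ), Module.finrank F R = 2 * b → Odd b → 3 ≤ b →
    ∃ W : Submodule F (ι → F), W ≤ R ∧ W ≠ ⊥ ∧ W ≠ R ∧ Even (Module.finrank F W) ∧ Iv e K W

/-- (T1-O) unipotent elements, `p ≥ 5` (helper18 / helper381) -/
def ConjFour : Prop :=
  ∀ (F : Type) [Field F] [Finite F] (ι : Type) [Fintype ι] [DecidableEq ι] (Q : QuadraticForm F (ι → F)), Good Q →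
    ∀ (p : ℕ) [Fact p.Prime] [CharP F p], 5 ≤ p → ∀ z ∈ O Q, z ^ p = 1 → ∃ h ∈ E Q, h * z * h⁻¹ = z ^ 4

end Cfsg.Agent.H502.Car
end

-- part: H502/Car/PrimeNe
section
/-!
# S3852, orthogonal groups: no central elements of odd prime order prime to the characteristic (helper502)
-/

set_option autoImplicit false
set_option linter.unusedSectionVars false

namespace Cfsg.Agent.H502.Car

open QuadraticMap Cfsg.Agent.LieClassical.OrthCore Cfsg.Agent.LieClassical.OrthTrans
  Cfsg.Agent.LieClassical.OrthSimple Cfsg.Agent.ClassicalGeometry.OrthSemi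
  Cfsg.Agent.ClassicalGeometry.OrthAut1 Cfsg.Agent.H989.OutOrth.Basic Cfsg.Agent.FooteOrth
  Cfsg.Agent.LieClassical.OrthFinite
open Subgroup Pointwise Cfsg.Agent.Solvable.Carter Cfsg.Agent.H18.Carter Cfsg.Agent.H381.Car

universe u

section

variable {F : Type} [Field F] [Finite F] {ι : Type} [Fintype ι] [DecidableEq ι] {Q : QuadraticForm F (ι → F)}
  {G : Type u} [Group G] [Finite G] {S : Subgroup G} [S.Normal]

theorem det_of_O (hG : Good Q) (h2 : (2 : F) ≠ 0) {h : (ι → F) ≃ₗ[F] (ι → F)} (hh : h ∈ O Q) :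
    LinearEquiv.det h = 1 ∨ LinearEquiv.det h = -1 := by
  have h1 := ((mem_E_iff hG h2 (mul_mem hh hh)).1 (Cfsg.Agent.H749.sq_mem_E hG hh)).1
  rw [map_mul] at h1
  have h3 : (LinearEquiv.det h : F) * (LinearEquiv.det h : F) = 1 := by
    rw [← Units.val_mul, h1, Units.val_one]
  rcases mul_self_eq_one_iff.1 h3 with h4 | h4
  · exact Or.inl (Units.ext h4)
  · exact Or.inr (Units.ext h4)

/-- the conditions on elements of order `r` fixed by `K` -/
theorem ne_cond (hG : Good Q) (h2 : (2 : F) ≠ 0) (c : Ctx G S) {K : Subgroup G}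
    (hK : IsCarter K) (e : S ≃* P Q) (hs : ∀ g : G, ∃ M : Gam Q, Lf e g M) {r : ℕ} (hr : r.Prime) (hr2 : r ≠ 2)
    (hrF : (r : F) ≠ 0) {z : ↥(E Q)} (hz : z ^ r = 1) (hz1 : z ≠ 1) (hzK : Fx e K z) :
    (∀ v, z.1 v = v → v = 0) ∧ r ∣ Nat.card F ^ 2 - 1 ∧ Fintype.card ι % 4 = 2 := by
  have hrr : Fact r.Prime := ⟨hr⟩
  have hord : orderOf z = r := orderOf_eq_prime hz hz1
  by_contra hcon
  obtain ⟨k, hk, h, hh, hc⟩ := exists_pow_ne hG h2 hr hr2 hrF (E_le_O z.2) (congrArg Subtype.val hz) (by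
    intro hq
    by_contra h3
    push Not at h3
    apply hcon
    refine ⟨fun v hv => ?_, hq, h3.2⟩
    by_contra hv0
    exact h3.1 v hv0 hv)
  have h4 : (⟨h, hh⟩ : ↥(E Q)) * z * (⟨h, hh⟩ : ↥(E Q))⁻¹ = z ^ k := Subtype.ext hc
  have h5 := no_conj_pow hG c hs hK (hr.odd_of_ne_two hr2) hz hzK h4
  apply hk
  rw [← hord, ← pow_eq_pow_iff_modEq, h5, pow_one]

/-- isometries conjugate `z` only to `z` and `z⁻¹` among its powers -/
theorem conj_eq_or_inv (hG : Good Q) (h2 : (2 : F) ≠ 0) (c : Ctx G S) {K : Subgroup G}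
    (hK : IsCarter K) (e : S ≃* P Q) (hs : ∀ g : G, ∃ M : Gam Q, Lf e g M) {r : ℕ} (hr : r.Prime) (hr2 : r ≠ 2)
    {z : ↥(E Q)} (hz : z ^ r = 1) (hzK : Fx e K z)
    (hq : r ∣ Nat.card F ^ 2 - 1) (hfix : ∀ v, z.1 v = v → v = 0) {m : ℕ} (hm : Fintype.card ι = 2 * m)
    (hmo : Odd m) {h : (ι → F) ≃ₗ[F] (ι → F)} (hh : h ∈ O Q) {j : ℕ} (hj : h * z.1 * h⁻¹ = z.1 ^ j) :
    z.1 ^ j = z.1 ∨ z.1 ^ j = z.1⁻¹ := by
  have hz' : z.1 ^ r = 1 := congrArg Subtype.val hz
  obtain ⟨h₁, hO₁, hc₁, hd₁, hs₁⟩ := exists_invs hG h2 hr hr2 (E_le_O z.2) hz' hq hfix hm 1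
  obtain ⟨h₂, hO₂, hc₂, hd₂, hs₂⟩ := exists_invs hG h2 hr hr2 (E_le_O z.2) hz' hq hfix hm (-1)
  rw [hmo.neg_one_pow] at hd₁ hd₂
  -- the use of A1
  have key : ∀ g ∈ E Q, ∀ i : ℕ, g * z.1 * g⁻¹ = z.1 ^ i → z.1 ^ i = z.1 := by
    intro g hg i hi
    have h4 : (⟨g, hg⟩ : ↥(E Q)) * z * (⟨g, hg⟩ : ↥(E Q))⁻¹ = z ^ i := Subtype.ext hi
    exact congrArg Subtype.val (no_conj_pow hG c hs hK (hr.odd_of_ne_two hr2) hz hzK h4)
  have hinvp : z.1⁻¹ = z.1 ^ (r - 1) := by
    rw [inv_eq_iff_mul_eq_one, ← pow_succ', Nat.sub_add_cancel hr.one_le, hz']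
  have hsgi : ∀ (g : (ι → F) ≃ₗ[F] (ι → F)) (hg : g ∈ O Q), _root_.Cfsg.Agent.FooteOrth.sg Q ⟨g⁻¹, inv_mem hg⟩ = _root_.Cfsg.Agent.FooteOrth.sg Q ⟨g, hg⟩ := by
    intro g hg
    have h1 : _root_.Cfsg.Agent.FooteOrth.sg Q ⟨g⁻¹, inv_mem hg⟩ * _root_.Cfsg.Agent.FooteOrth.sg Q ⟨g, hg⟩ = 1 := by
      rw [← map_mul]
      have : (⟨g⁻¹, inv_mem hg⟩ : O Q) * ⟨g, hg⟩ = 1 := Subtype.ext (inv_mul_cancel g)
      rw [this, map_one]
    rw [eq_inv_of_mul_eq_one_left h1, Int.units_inv_eq_self]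
  rcases det_of_O hG h2 hh with hd | hd
  · left
    -- a centralising isometry of determinant one with spinor sign `-1`
    rcases Int.units_eq_one_or (_root_.Cfsg.Agent.FooteOrth.sg Q ⟨h, hh⟩) with hs0 | hs0
    · exact key h ((mem_E_iff hG h2 hh).2 ⟨hd, hs0⟩) j hj
    · have hy : h₁ * h₂⁻¹ ∈ O Q := mul_mem hO₁ (inv_mem hO₂)
      have hyd : LinearEquiv.det (h₁ * h₂⁻¹) = 1 := by
        rw [map_mul, map_inv, hd₁, hd₂, mul_inv_cancel]
      have hys : _root_.Cfsg.Agent.FooteOrth.sg Q ⟨h₁ * h₂⁻¹, hy⟩ = -1 := by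
        have e1 : (⟨h₁ * h₂⁻¹, hy⟩ : O Q) = ⟨h₁, hO₁⟩ * ⟨h₂⁻¹, inv_mem hO₂⟩ := rfl
        rw [e1, map_mul, hsgi h₂ hO₂, hs₁, hs₂, one_mul]
      have hyc : h₁ * h₂⁻¹ * z.1 * (h₁ * h₂⁻¹)⁻¹ = z.1 := by
        have e1 : h₂⁻¹ * z.1 * h₂ = z.1⁻¹ := by
          have e2 : z.1 = (h₂ * z.1 * h₂⁻¹)⁻¹ := by rw [hc₂, inv_inv]
          conv_lhs => rw [e2]
          group
        calc h₁ * h₂⁻¹ * z.1 * (h₁ * h₂⁻¹)⁻¹ = h₁ * (h₂⁻¹ * z.1 * h₂) * h₁⁻¹ := by group
          _ = (h₁ * z.1 * h₁⁻¹)⁻¹ := by rw [e1]; group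
          _ = z.1 := by rw [hc₁, inv_inv]
      refine key (h * (h₁ * h₂⁻¹)) ((mem_E_iff hG h2 (mul_mem hh hy)).2 ⟨by rw [map_mul, hd, hyd, mul_one], ?_⟩) j ?_
      · have e1 : (⟨h * (h₁ * h₂⁻¹), mul_mem hh hy⟩ : O Q) = ⟨h, hh⟩ * ⟨h₁ * h₂⁻¹, hy⟩ := rfl
        rw [e1, map_mul, hs0, hys]
        rfl
      · calc h * (h₁ * h₂⁻¹) * z.1 * (h * (h₁ * h₂⁻¹))⁻¹
            = h * (h₁ * h₂⁻¹ * z.1 * (h₁ * h₂⁻¹)⁻¹) * h⁻¹ := by group
          _ = z.1 ^ j := by rw [hyc, hj]
  · right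
    have hk : ∀ (g : (ι → F) ≃ₗ[F] (ι → F)) (hg : g ∈ O Q), LinearEquiv.det g = -1 → g * z.1 * g⁻¹ = z.1⁻¹ →
        _root_.Cfsg.Agent.FooteOrth.sg Q ⟨g, hg⟩ = _root_.Cfsg.Agent.FooteOrth.sg Q ⟨h, hh⟩ → z.1 ^ j = z.1⁻¹ := by
      intro g hg hgd hgc hgs
      have h5 := key (h * g) ((mem_E_iff hG h2 (mul_mem hh hg)).2 ⟨by rw [map_mul, hd, hgd]; norm_num, ?_⟩)
        (j * (r - 1)) ?_
      · rw [mul_comm, pow_mul, ← hinvp, inv_pow] at h5
        exact inv_eq_iff_eq_inv.1 h5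
      · have e1 : (⟨h * g, mul_mem hh hg⟩ : O Q) = ⟨h, hh⟩ * ⟨g, hg⟩ := rfl
        rw [e1, map_mul, hgs, Int.units_mul_self]
      · calc h * g * z.1 * (h * g)⁻¹ = h * (g * z.1 * g⁻¹) * h⁻¹ := by group
          _ = (h * z.1 * h⁻¹)⁻¹ := by rw [hgc]; group
          _ = z.1 ^ (j * (r - 1)) := by rw [hj, mul_comm, pow_mul, ← hinvp, inv_pow]
    rcases Int.units_eq_one_or (_root_.Cfsg.Agent.FooteOrth.sg Q ⟨h, hh⟩) with hs0 | hs0
    · exact hk h₁ hO₁ hd₁ hc₁ (by rw [hs₁, hs0])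
    · exact hk h₂ hO₂ hd₂ hc₂ (by rw [hs₂, hs0])

/-- **no central elements of odd prime order, prime to the characteristic** -/
theorem no_prime_ne (hFO : FrameO.{u}) (hG : Good Q) (h2 : (2 : F) ≠ 0) (h7 : 7 ≤ Fintype.card ι) (c : Ctx G S)
    {K : Subgroup G} (hK : IsCarter K) (e : S ≃* P Q) (hs : ∀ g : G, ∃ M : Gam Q, Lf e g M) {r : ℕ} (hr : r.Prime)
    (hr2 : r ≠ 2) (hrF : (r : F) ≠ 0) {z : ↥(E Q)} (hz : z ^ r = 1) (hz1 : z ≠ 1) (hzK : Fx e K z) : False := by
  obtain ⟨hfix, hq, h4⟩ := ne_cond hG h2 c hK e hs hr hr2 hrF hz hz1 hzK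
  have hz' : z.1 ^ r = 1 := congrArg Subtype.val hz
  obtain ⟨m, hm, hmo⟩ : ∃ m, Fintype.card ι = 2 * m ∧ Odd m := ⟨Fintype.card ι / 2, by omega, by
    rw [Nat.odd_iff]; omega⟩
  obtain ⟨p, hp⟩ := CharP.exists F
  have hpp : Fact p.Prime := ⟨CharP.char_is_prime F p⟩
  have : Nonempty ι := Fintype.card_pos_iff.1 (by omega)
  -- a vector space decomposition with a fixed part is impossible
  have hsplit : ∀ x : (ι → F) ≃ₗ[F] (ι → F), x ∈ O Q → x * x = 1 → (∃ v, v ≠ 0 ∧ x v = v) → (∃ v, v ≠ 0 ∧ x v = -v) →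
      (∀ v, x (z.1 v) = z.1 (x v)) → (∀ k ∈ K, ∀ M : Gam Q, Lf e k M → conjLin M x = x) → False := by
    rintro x hxO hxx ⟨v, hv0, hv⟩ ⟨w, hw0, hw⟩ hxz hxK
    obtain ⟨z', h1, h3, h5, h6⟩ := exists_pt hG h2 (hr.odd_of_ne_two hr2) hxO hxx hxK hz hzK hxz
    have hne : z' ≠ 1 := by
      rintro rfl
      exact hv0 (hfix v (h5 v hv).symm)
    have h7 := (ne_cond hG h2 c hK e hs hr hr2 hrF h1 hne h3).1 w (h6 w hw)
    exact hw0 h7
  -- an eigenvector of `T`
  obtain ⟨t, v, hv0, hv⟩ : ∃ (t : F) (v : ι → F), v ≠ 0 ∧ Tz z.1 v = t • v := by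
    obtain ⟨g, hg⟩ := exists_ig (E_le_O z.2)
    have hgz : (isometryEquiv Q g).1 = z.1 := congrArg Subtype.val hg
    have hgr : g ^ r = 1 := by
      apply (isometryEquiv Q).injective
      rw [map_pow, hg, map_one]
      exact Subtype.ext hz'
    have := Fintype.ofFinite F
    obtain ⟨v, -, hQv, t, ht⟩ := Cfsg.Agent.H507.GmnOrth.exists_eigen hr (by rwa [Nat.card_eq_fintype_card] at hq) hgr
      (U := ⊤) (fun _ _ => Submodule.mem_top) (fun x _ hx => hG.nondeg x fun y => hx y Submodule.mem_top) top_ne_bot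
    refine ⟨t, v, ?_, ?_⟩
    · rintro rfl
      exact hQv (QuadraticMap.map_zero _)
    · have h3 : (isometryEquiv Q g⁻¹).1 = z.1⁻¹ := by rw [map_inv, Subgroup.coe_inv, hgz]
      rw [Tz_apply, ← h3, ← hgz]
      exact ht
  -- the field automorphisms fix `t`
  have hMt : ∀ k ∈ K, ∀ M : Gam Q, Lf e k M → ∀ (σ : F ≃+* F) (a : F), IsSS Q σ a M.1 → σ t = t := by
    intro k hk M hM σ a hMS
    obtain ⟨i, hi⟩ := exists_frob (p := p) σ
    have hcm : ∀ v, M.1 (z.1 v) = z.1 (M.1 v) := by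
      intro v
      have h1 : conjLin M z.1 = z.1 := congrArg Subtype.val (hzK k hk M hM)
      rw [← conjLin_apply', h1]
    obtain ⟨h, hh, hc⟩ := conj_frob hG hr hr2 hrF (E_le_O z.2) hz' hi hMS.add hMS.smul hcm
    rw [hi]
    exact frob_eig (conj_eq_or_inv hG h2 c hK e hs hr hr2 hz hzK hq hfix hm hmo hh hc) hv0 hv
  -- `T` is the scalar `t`
  have hT : ∀ w, Tz z.1 w = t • w := by
    by_contra hcon
    push Not at hcon
    obtain ⟨w, hw⟩ := hcon
    obtain ⟨x, hxO, hxx, hxt, hxz, hxM⟩ := exists_xt (E_le_O z.2) (Tz_card hr hq hz') t h2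
    refine hsplit x hxO hxx ⟨v, hv0, (hxt v).2 hv⟩ ⟨w - x w, ?_, ?_⟩ hxz ?_
    · intro h
      exact hw ((hxt w).1 (sub_eq_zero.1 h).symm)
    · have h1 : x (x w) = w := LinearEquiv.congr_fun hxx w
      rw [map_sub, h1, neg_sub]
    · intro k hk M hM
      obtain ⟨σ, a, hMS⟩ := M.2
      have h1 := hxM σ M.1 hMS.add hMS.smul (hMt k hk M hM σ a hMS) (by
        intro v
        have h1 : conjLin M z.1 = z.1 := congrArg Subtype.val (hzK k hk M hM)
        rw [← conjLin_apply', h1])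
      ext1 v
      obtain ⟨w, rfl⟩ := M.1.surjective v
      rw [conjLin_apply', h1]
  have hzz : ∀ w, z.1 (z.1 w) = t • z.1 w - w := by
    intro w
    have h1 := congrArg z.1 (hT w)
    rw [Tz_apply, map_add, map_smul, ← LinearEquiv.mul_apply z.1 z.1⁻¹, mul_inv_cancel] at h1
    exact eq_sub_of_add_eq h1
  -- `t ≠ ± 2`
  have hodd : ∀ w, z.1 (z.1 w) = w → w = 0 := by
    intro w hw
    obtain ⟨k, hk⟩ := hr.odd_of_ne_two hr2
    have h1 : ∀ j : ℕ, (z.1 ^ (2 * j)) w = w := by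
      intro j
      induction j with
      | zero => rfl
      | succ j ih =>
        rw [Nat.mul_succ, pow_add]
        show (z.1 ^ (2 * j)) ((z.1 ^ 2) w) = w
        have : (z.1 ^ 2) w = w := by
          rw [pow_two]
          exact hw
        rw [this, ih]
    have h3 : (z.1 ^ r) w = z.1 w := by
      rw [hk, pow_succ']
      show z.1 ((z.1 ^ (2 * k)) w) = _
      rw [h1]
    rw [hz'] at h3
    exact hfix w h3.symm
  have ht4 : t * t ≠ 4 := by
    intro h
    have h1 : (t - 2) * (t + 2) = 0 := by linear_combination h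
    rcases mul_eq_zero.1 h1 with h3 | h3
    · have h5 : t = 2 := sub_eq_zero.1 h3
      have h6 : z.1 (z.1 v - v) = z.1 v - v := by
        rw [map_sub, hzz, h5]
        module
      exact hv0 (hfix v (sub_eq_zero.1 (hfix _ h6)))
    · have h5 : t = -2 := eq_neg_of_add_eq_zero_left h3
      have h6 : z.1 (z.1 v + v) = -(z.1 v + v) := by
        rw [map_add, hzz, h5]
        module
      have h8 := hodd (z.1 v + v) (by rw [h6, map_neg, h6, neg_neg])
      have h9 : z.1 v = -v := eq_neg_of_add_eq_zero_left h8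
      exact hv0 (hodd v (by rw [h9, map_neg, h9, neg_neg]))
  obtain ⟨x, hxO, hxx, hx1, hx2, hxz, hxK⟩ := hFO F ι Q hG h2 G S c K hK e hs z r hr hr2 hz hz1 hzK t hzz ht4 m hm
    (by
      rintro ⟨k, rfl⟩
      rcases Nat.eq_zero_or_pos k with h | h
      · rw [h] at hm
        omega
      · rw [Nat.odd_iff] at hmo
        obtain ⟨j, rfl⟩ : ∃ j, k = j + 1 := ⟨k - 1, by omega⟩
        rw [pow_succ] at hmo
        omega) (by omega)
  exact hsplit x hxO hxx hx1 hx2 hxz hxK

end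

end Cfsg.Agent.H502.Car
end

private theorem dce_d315ee429a56 : _root_.True := by
  try have : _root_.True := by simp only [_root_.Cfsg.Agent.H502.Car.Tz.eq_1]
  exact _root_.True.intro
end

-- part: H18/Carter/Rows
section
set_option linter.all false
open scoped Cfsg.Agent.FastGrp

-- part: H18/Carter/Alt
section
/-!
# Elements of odd prime order are conjugate to proper powers: definition, alternating groups
-/

set_option autoImplicit false
set_option linter.unusedSectionVars false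
set_option linter.unusedVariables false

namespace Cfsg.Agent.H18.Carter

open Subgroup
open Equiv (Perm)

/-- every element of odd prime order is conjugate to another power of itself -/
def PowConj (K : Type*) [Group K] : Prop :=
  ∀ z : K, (orderOf z).Prime → orderOf z ≠ 2 → ∃ g : K, g * z * g⁻¹ ≠ z ∧ g * z * g⁻¹ ∈ zpowers z

theorem PowConj.of_equiv {K K' : Type*} [Group K] [Group K'] (e : K ≃* K') (h : PowConj K) : PowConj K' := by
  intro z hz hz2
  have ho : orderOf (e.symm z) = orderOf z := orderOf_injective e.symm.toMonoidHom e.symm.injective z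
  obtain ⟨g, h1, h2⟩ := h (e.symm z) (by rwa [ho]) (by rwa [ho])
  refine ⟨e g, fun h3 => h1 ?_, ?_⟩
  · apply e.injective
    rw [map_mul, map_mul, map_inv, e.apply_symm_apply]
    exact h3
  · obtain ⟨k, hk⟩ := mem_zpowers_iff.1 h2
    rw [mem_zpowers_iff]
    refine ⟨k, ?_⟩
    have := congrArg e hk
    rwa [map_zpow, e.apply_symm_apply, map_mul, map_mul, map_inv, e.apply_symm_apply] at this

/-- real elements of odd order -/
theorem ne_inv_of_odd {K : Type*} [Group K] {z : K} (hz : (orderOf z).Prime) (hz2 : orderOf z ≠ 2) : z⁻¹ ≠ z := by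
  intro h
  apply hz2
  have h1 : z ^ 2 = 1 := by rw [sq]; nth_rw 1 [← h]; exact inv_mul_cancel z
  exact (Nat.prime_dvd_prime_iff_eq hz Nat.prime_two).1 (orderOf_dvd_of_pow_eq_one h1)

theorem pow_ne_self {K : Type*} [Group K] {z : K} (hz : (orderOf z).Prime) {k : ℕ} (hk : 1 < k)
    (hnd : ¬ orderOf z ∣ k - 1) : z ^ k ≠ z := by
  intro h
  apply hnd
  apply orderOf_dvd_of_pow_eq_one
  have e : k = (k - 1) + 1 := by omega
  rw [e, pow_succ] at h
  exact mul_right_cancel (h.trans (one_mul z).symm)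

theorem alt_powConj {n : ℕ} (h5 : 5 ≤ n) : PowConj ↥(alternatingGroup (Fin n)) := by
  intro s hs hs2
  rcases H763.Ccp.real_or hs s rfl with ⟨g, hg⟩ | ⟨hct, hn, -⟩
  · refine ⟨g, ?_, ?_⟩
    · rw [hg]; exact ne_inv_of_odd hs hs2
    · rw [hg]; exact inv_mem (mem_zpowers s)
  · set p := orderOf s with hp
    have hp5 : 5 ≤ p := by
      have h1 := hs.two_le
      have h2 : p ≠ 4 := by rintro h; rw [h] at hs; exact absurd hs (by norm_num)
      omega
    have hodd : Odd p := hs.odd_of_ne_two hs2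
    have hcop : Nat.Coprime 2 p := (Nat.coprime_two_left).2 hodd
    have hso : orderOf (s : Perm (Fin n)) = p := orderOf_injective (alternatingGroup (Fin n)).subtype (subtype_injective _) s
    have h1 : IsConj (s : Perm (Fin n)) ((s : Perm (Fin n)) ^ 2) := by
      rw [Equiv.Perm.isConj_iff_cycleType_eq]
      have hcyc : (s : Perm (Fin n)).IsCycle := by
        rw [← Equiv.Perm.card_cycleType_eq_one, hct]; rfl
      have hcyc2 : ((s : Perm (Fin n)) ^ 2).IsCycle := by
        rw [Equiv.Perm.IsCycle.pow_iff hcyc]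
        rw [hso]; exact hcop
      rw [hcyc.cycleType, hcyc2.cycleType]
      congr 1
      have h3 := Equiv.Perm.IsCycle.orderOf hcyc
      have h4 := Equiv.Perm.IsCycle.orderOf hcyc2
      rw [← h3, ← h4, Nat.Coprime.orderOf_pow]
      rw [hso]; exact hcop.symm
    obtain ⟨h, hh⟩ := isConj_iff.1 h1
    have hh2 : h * h * (s : Perm (Fin n)) * (h * h)⁻¹ = (s : Perm (Fin n)) ^ 4 := by
      calc h * h * (s : Perm (Fin n)) * (h * h)⁻¹ = h * (h * s * h⁻¹) * h⁻¹ := by group
        _ = h * (s : Perm (Fin n)) ^ 2 * h⁻¹ := by rw [hh]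
        _ = (h * s * h⁻¹) ^ 2 := by rw [conj_pow]
        _ = _ := by rw [hh, ← pow_mul]
    have hsg : Equiv.Perm.sign (h * h) = 1 := by
      rw [map_mul]
      exact Int.units_mul_self _
    refine ⟨⟨h * h, Equiv.Perm.mem_alternatingGroup.2 hsg⟩, ?_, ?_⟩
    · have e : (⟨h * h, Equiv.Perm.mem_alternatingGroup.2 hsg⟩ : ↥(alternatingGroup (Fin n))) * s *
          (⟨h * h, Equiv.Perm.mem_alternatingGroup.2 hsg⟩)⁻¹ = s ^ 4 := Subtype.ext hh2
      rw [e]
      refine pow_ne_self hs (by norm_num) ?_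
      intro hd
      have := Nat.le_of_dvd (by norm_num) hd
      omega
    · have e : (⟨h * h, Equiv.Perm.mem_alternatingGroup.2 hsg⟩ : ↥(alternatingGroup (Fin n))) * s *
          (⟨h * h, Equiv.Perm.mem_alternatingGroup.2 hsg⟩)⁻¹ = s ^ 4 := Subtype.ext hh2
      rw [e]
      exact pow_mem (mem_zpowers s) 4

end Cfsg.Agent.H18.Carter
end

-- part: H18/Carter/Rows
section
/-!
# S3852: rows from `PowConj` (alternating groups)
-/

set_option autoImplicit false

namespace Cfsg.Agent.H18.Carter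

open Subgroup

universe u

variable {G : Type u} [Group G] [Finite G] {S : Subgroup G} [S.Normal]

/-- A row of S3852 from `PowConj`. -/
theorem cc_of_powConj (hF : H381.Car.Fpf.{u}) (c : Ctx G S) (h : PowConj ↥S) : CC G := by
  refine H381.Car.cc_of_real hF c fun z hz ho ho2 => ?_
  have e : orderOf (⟨z, hz⟩ : S) = orderOf z := Subgroup.orderOf_mk z hz
  obtain ⟨g, h1, h2⟩ := h ⟨z, hz⟩ (by rw [e]; exact ho) (by rw [e]; exact ho2)
  refine ⟨g, fun h3 => h1 (Subtype.ext h3), ?_⟩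
  obtain ⟨k, hk⟩ := mem_zpowers_iff.1 h2
  exact mem_zpowers_iff.2 ⟨k, congrArg Subtype.val hk⟩

end Cfsg.Agent.H18.Carter
end
end

-- part: H18/Carter/PslTwo
section
prune_inst 0x42550044059e2100000002592b3003e42d60005b20008080040400a440e89ec6a8542a860b4b011129a28209548390060030001d0424000000e000c00011d018000800000b1480008a00016000180000000000000000000000000000000010004000000000
set_option linter.all false
open scoped Cfsg.Agent.FastGrp

/-!
# S3852: the groups `PSL₂(q)`, `q` odd: elements and automorphisms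
-/

set_option autoImplicit false
set_option linter.unusedSectionVars false
set_option linter.unusedVariables false
set_option linter.style.haveILetI false

namespace Cfsg.Agent.H18.Carter.PslTwo

open Subgroup Cfsg.Agent.H906
open scoped MatrixGroups Matrix
open Cfsg.Agent.Schreier.ClassPSL
open Cfsg.Agent.ClassicalGeometry.AutPSL.Root Cfsg.Agent.ClassicalGeometry.AutPSL.Auto
  Cfsg.Agent.ClassicalGeometry.AutPSL.Main

variable {F : Type*} [Field F] [Finite F]

/-- real or unipotent -/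
theorem real_or (r : ℕ) [Fact r.Prime] [CharP F r] (x : Matrix.ProjectiveSpecialLinearGroup (Fin 2) F) :
    (∃ y, y * x * y⁻¹ = x⁻¹) ∨ ∃ y : Matrix.ProjectiveSpecialLinearGroup (Fin 2) F, ∃ b : F, y * x * y⁻¹ = unP F (Multiplicative.ofAdd b) := by
  obtain ⟨g, rfl⟩ := QuotientGroup.mk_surjective x
  by_cases ht : (g.1 0 0 + g.1 1 1) ^ 2 - 4 = 0
  · exact Or.inr (mk_conj_un g ht r)
  · left
    obtain ⟨h, hh⟩ := SL2_conj_inv g ht
    refine ⟨QuotientGroup.mk h, ?_⟩
    rw [← QuotientGroup.mk_inv, ← QuotientGroup.mk_mul, ← QuotientGroup.mk_mul, hh, QuotientGroup.mk_inv]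

theorem unP_pow_char (r : ℕ) [Fact r.Prime] [CharP F r] (b : F) : unP F (Multiplicative.ofAdd b) ^ r = 1 := by
  rw [unP_pow, CharP.cast_eq_zero, zero_mul]
  exact map_one _

/-- `PSL₂(q)`, `q` odd, `q` not an odd power of `3` -/
theorem powConj [Fintype F] (hodd : Odd (Fintype.card F)) (h3 : ∀ m : ℕ, Fintype.card F ≠ 3 ^ (2 * m + 1)) :
    PowConj (Matrix.ProjectiveSpecialLinearGroup (Fin 2) F) := by
  obtain ⟨r, hr⟩ := CharP.exists F
  haveI hrp : Fact r.Prime := ⟨CharP.char_is_prime F r⟩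
  have hr2 : r ≠ 2 := by
    rintro rfl
    rw [← Nat.not_even_iff_odd] at hodd
    apply hodd
    obtain ⟨n, -, h⟩ := FiniteField.card F 2
    rw [h]
    exact (Nat.even_pow.2 ⟨even_two, n.2.ne'⟩)
  intro z hz hz2
  rcases real_or r z with ⟨y, hy⟩ | hu
  · exact ⟨y, by rw [hy]; exact ne_inv_of_odd hz hz2, by rw [hy]; exact inv_mem (mem_zpowers z)⟩
  · have hzr : orderOf z = r := by
      obtain ⟨y, b, h⟩ := hu
      have h1 : z ^ r = 1 := by
        have h2 : z = y⁻¹ * unP F (Multiplicative.ofAdd b) * y := by rw [← h]; group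
        have := conj_pow (i := r) (a := y⁻¹) (b := unP F (Multiplicative.ofAdd b))
        rw [inv_inv, ← h2, unP_pow_char] at this
        rw [this]; group
      exact (Nat.prime_dvd_prime_iff_eq hz hrp.out).1 (orderOf_dvd_of_pow_eq_one h1)
    by_cases hr3 : r = 3
    · subst hr3
      obtain ⟨n, -, hn⟩ := FiniteField.card F 3
      have hev : Even (n : ℕ) := by
        rw [← Nat.not_odd_iff_even]
        rintro ⟨m, hm⟩
        exact h3 m (by rw [hn, hm])
      have hsq : IsSquare (-1 : F) := by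
        rw [FiniteField.isSquare_neg_one_iff, hn]
        obtain ⟨m, hm⟩ := hev
        rw [hm, ← two_mul, pow_mul, Nat.pow_mod]
        norm_num
      obtain ⟨t, ht⟩ := hsq
      have ht0 : t ≠ 0 := by
        rintro rfl
        simp at ht
      obtain ⟨g, hg⟩ := unip_inv_conj hu (n := 1) (t := Units.mk0 t ht0) (by rw [Units.val_mk0, sq, ← ht]; simp)
      rw [pow_one] at hg
      exact ⟨g, by rw [hg]; exact ne_inv_of_odd hz hz2, by rw [hg]; exact inv_mem (mem_zpowers z)⟩
    · have h20 : (2 : F) ≠ 0 := by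
        have := CharP.cast_eq_zero_iff F r 2
        intro h
        have h4 : r ∣ 2 := this.1 (by exact_mod_cast h)
        exact hr2 ((Nat.prime_dvd_prime_iff_eq hrp.out Nat.prime_two).1 h4)
      obtain ⟨g, hg⟩ := unip_pow_conj hu (n := 4) (t := Units.mk0 2 h20) (by rw [Units.val_mk0]; norm_num)
      refine ⟨g, ?_, by rw [hg]; exact pow_mem (mem_zpowers z) 4⟩
      rw [hg]
      refine pow_ne_self hz (by norm_num) ?_
      rw [hzr]
      intro h
      exact hr3 ((Nat.prime_dvd_prime_iff_eq hrp.out Nat.prime_three).1 h)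

/-- an automorphism of `2`-power order centralising a unipotent element `≠ 1` is trivial (odd degree over the prime field) -/
theorem eq_one_of_fix (h2 : (2 : F) ≠ 0) (hodd : Odd (Nat.card (F ≃+* F))) (r : ℕ) [Fact r.Prime] [CharP F r]
    {α : MulAut (Matrix.ProjectiveSpecialLinearGroup (Fin 2) F)} {k : ℕ} (hα : α ^ 2 ^ k = 1) {b : F} (hb : b ≠ 0)
    (hf : α (unP F (Multiplicative.ofAdd b)) = unP F (Multiplicative.ofAdd b)) : α = 1 := by
  obtain ⟨γ, hγ⟩ := Cfsg.Agent.H688.TransAut.exists_gal (F := F)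
  have h1 : γ α = 1 := by
    have h3 : (γ α) ^ 2 ^ k = 1 := by rw [← map_pow, hα, map_one]
    have h4 : orderOf (γ α) ∣ 2 ^ k := orderOf_dvd_of_pow_eq_one h3
    have h5 : orderOf (γ α) ∣ Nat.card (F ≃+* F) := _root_.orderOf_dvd_natCard _
    have h6 : Nat.Coprime (2 ^ k) (Nat.card (F ≃+* F)) := (Nat.coprime_two_left.2 hodd).pow_left k
    exact orderOf_eq_one_iff.1 (Nat.eq_one_of_dvd_coprimes h6 h4 h5)
  obtain ⟨A, rfl⟩ := hγ α h1
  have h7 : (QuotientGroup.mk (cj A (un b)) : Matrix.ProjectiveSpecialLinearGroup (Fin 2) F) = QuotientGroup.mk (un b) := hf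
  rw [QuotientGroup.eq, Matrix.SpecialLinearGroup.mem_center_iff] at h7
  obtain ⟨e, he, he2⟩ := h7
  have h8 : (un b).1 = (cj A (un b)).1 * Matrix.scalar (Fin 2) e := by
    rw [he2, ← Matrix.SpecialLinearGroup.coe_mul, mul_inv_cancel_left]
  have hAi : ((A⁻¹ : GL (Fin 2) F) : Matrix (Fin 2) (Fin 2) F) * (A : Matrix (Fin 2) (Fin 2) F) = 1 := by
    rw [← Units.val_mul, inv_mul_cancel, Units.val_one]
  have h9 : (cj A (un b)).1 = (A : Matrix (Fin 2) (Fin 2) F) * (un b).1 * ((A⁻¹ : GL (Fin 2) F) : Matrix (Fin 2) (Fin 2) F) :=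
    coe_cj A (un b)
  have h10 : (un b).1 * (A : Matrix (Fin 2) (Fin 2) F) = e • ((A : Matrix (Fin 2) (Fin 2) F) * (un b).1) := by
    have hs : Matrix.scalar (Fin 2) e = e • (1 : Matrix (Fin 2) (Fin 2) F) := by
      ext i j
      (revert i j; simp only [_root_.Fin.forall_fin_succ, _root_.Matrix.scalar_apply, _root_.Matrix.smul_apply, _root_.smul_eq_mul, Fin.isValue, _root_.Fin.succ_zero_eq_one, _root_.IsEmpty.forall_iff, _root_.and_true, _root_.Matrix.diagonal_apply_eq, _root_.Matrix.one_apply_eq, _root_.mul_one, _root_.ne_eq, _root_.zero_ne_one, _root_.not_false_eq_true, _root_.Matrix.diagonal_apply_ne, Nat.reduceAdd, _root_.Matrix.one_apply_ne, _root_.MulZeroClass.mul_zero, _root_.and_self, _root_.Fin.succ_ne_zero, _root_.true_and])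
    conv_lhs => rw [h8, h9, hs]
    rw [Matrix.mul_smul, mul_one, Matrix.smul_mul, mul_assoc, hAi, mul_one]
  have hdet : (A : Matrix (Fin 2) (Fin 2) F).det ≠ 0 := by
    have := congrArg Matrix.det hAi
    rw [Matrix.det_mul, Matrix.det_one] at this
    exact right_ne_zero_of_mul (this ▸ one_ne_zero)
  rw [Matrix.det_fin_two] at hdet
  rw [un_val] at h10
  have e00 := congrFun (congrFun h10 0) 0
  have e01 := congrFun (congrFun h10 0) 1
  have e10 := congrFun (congrFun h10 1) 0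
  simp only [Matrix.mul_apply, Fin.sum_univ_two, _root_.Fin.isValue, _root_.Matrix.of_apply, _root_.Matrix.cons_val', _root_.Matrix.cons_val_fin_one, _root_.Matrix.cons_val_zero, _root_.one_mul, _root_.Matrix.cons_val_one, _root_.Matrix.smul_apply, _root_.mul_one, _root_.MulZeroClass.mul_zero, _root_.add_zero, _root_.smul_eq_mul, _root_.MulZeroClass.zero_mul, _root_.zero_add] at e00 e01 e10
  have hc : (A : Matrix (Fin 2) (Fin 2) F) 1 0 = 0 := by
    by_contra hne
    have he1 : e = 1 := by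
      have : e * (A : Matrix (Fin 2) (Fin 2) F) 1 0 = 1 * (A : Matrix (Fin 2) (Fin 2) F) 1 0 := by rw [← e10, one_mul]
      exact mul_right_cancel₀ hne this
    rw [he1, one_mul] at e00
    have : b * (A : Matrix (Fin 2) (Fin 2) F) 1 0 = 0 := by linear_combination e00
    rcases mul_eq_zero.1 this with h | h
    · exact hb h
    · exact hne h
  rw [hc, mul_zero, sub_zero] at hdet
  rw [hc, mul_zero, add_zero] at e00
  have ha : (A : Matrix (Fin 2) (Fin 2) F) 0 0 ≠ 0 := left_ne_zero_of_mul hdet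
  have he1 : e = 1 := by
    have : e * (A : Matrix (Fin 2) (Fin 2) F) 0 0 = 1 * (A : Matrix (Fin 2) (Fin 2) F) 0 0 := by rw [← e00, one_mul]
    exact mul_right_cancel₀ ha this
  rw [he1, one_mul] at e01
  have had : (A : Matrix (Fin 2) (Fin 2) F) 1 1 = (A : Matrix (Fin 2) (Fin 2) F) 0 0 := by
    apply mul_left_cancel₀ hb
    linear_combination e01
  obtain ⟨c, hcd⟩ : ∃ c : F, (A : Matrix (Fin 2) (Fin 2) F) 0 1 = (A : Matrix (Fin 2) (Fin 2) F) 0 0 * c :=
    ⟨(A : Matrix (Fin 2) (Fin 2) F) 0 1 / (A : Matrix (Fin 2) (Fin 2) F) 0 0, by field_simp⟩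
  have hAU : (A : Matrix (Fin 2) (Fin 2) F) = (A : Matrix (Fin 2) (Fin 2) F) 0 0 • (un c).1 := by
    rw [un_val]
    ext i j
    (revert i j; simp only [hc, had, hcd, _root_.Fin.forall_fin_succ, Fin.isValue, _root_.Matrix.smul_apply, _root_.Matrix.of_apply, _root_.Matrix.cons_val', _root_.Matrix.cons_val_fin_one, _root_.smul_eq_mul, _root_.Matrix.cons_val_zero, _root_.Matrix.cons_val_succ, _root_.Fin.succ_zero_eq_one, _root_.IsEmpty.forall_iff, _root_.and_true, _root_.mul_one, _root_.and_self, _root_.MulZeroClass.mul_zero])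
  have hcj : ∀ g : SL(2, F), cj A g = un c * g * (un c)⁻¹ := by
    intro g
    rw [eq_mul_inv_iff_mul_eq]
    apply Subtype.ext
    rw [Matrix.SpecialLinearGroup.coe_mul, Matrix.SpecialLinearGroup.coe_mul, coe_cj]
    have h12 : (un c).1 = ((A : Matrix (Fin 2) (Fin 2) F) 0 0)⁻¹ • (A : Matrix (Fin 2) (Fin 2) F) := by
      conv_rhs => rw [hAU]
      rw [smul_smul]
      have h13 : (((A : Matrix (Fin 2) (Fin 2) F) 0 0 • (un c).1) 0 0)⁻¹ * (A : Matrix (Fin 2) (Fin 2) F) 0 0 = 1 := by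
        rw [un_val]
        simp [ha]
      rw [h13, one_smul]
    have h11 : ((A⁻¹ : GL (Fin 2) F) : Matrix (Fin 2) (Fin 2) F) * (un c).1 = ((A : Matrix (Fin 2) (Fin 2) F) 0 0)⁻¹ • 1 := by
      rw [h12, Matrix.mul_smul, hAi]
    rw [mul_assoc, h11, Matrix.mul_smul, mul_one, h12, Matrix.smul_mul]
  have hα2 : lift (cj A) = MulAut.conj (unP F (Multiplicative.ofAdd c)) := by
    apply MulEquiv.ext
    intro x
    obtain ⟨g, rfl⟩ := QuotientGroup.mk_surjective x
    have : lift (cj A) (QuotientGroup.mk g) = (QuotientGroup.mk (cj A g) : Matrix.ProjectiveSpecialLinearGroup (Fin 2) F) := rfl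
    rw [this, hcj, MulAut.conj_apply]
    rfl
  have hr : (lift (cj A) : MulAut (Matrix.ProjectiveSpecialLinearGroup (Fin 2) F)) ^ r = 1 := by
    rw [hα2, ← map_pow, unP_pow_char, map_one]
  have hr2 : r ≠ 2 := by
    rintro rfl
    exact h2 (by exact_mod_cast CharP.cast_eq_zero F 2)
  have hcop : Nat.Coprime r (2 ^ k) :=
    Nat.Coprime.pow_right k (((Fact.out : r.Prime).coprime_iff_not_dvd).2 fun h => hr2 ((Nat.prime_dvd_prime_iff_eq Fact.out Nat.prime_two).1 h))
  exact orderOf_eq_one_iff.1 (Nat.eq_one_of_dvd_coprimes hcop (orderOf_dvd_of_pow_eq_one hr) (orderOf_dvd_of_pow_eq_one hα))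

/-- in characteristic `3` elements of order `3` are unipotent -/
theorem unip_of_cube [CharP F 3] {x : Matrix.ProjectiveSpecialLinearGroup (Fin 2) F} (h1 : x ≠ 1) (h3 : x ^ 3 = 1) :
    ∃ y : Matrix.ProjectiveSpecialLinearGroup (Fin 2) F, ∃ b : F, b ≠ 0 ∧ y * x * y⁻¹ = unP F (Multiplicative.ofAdd b) := by
  haveI : Fact (Nat.Prime 3) := ⟨Nat.prime_three⟩
  obtain ⟨g, rfl⟩ := QuotientGroup.mk_surjective x
  have hdet := g.2
  rw [Matrix.det_fin_two] at hdet
  have h30 : (3 : F) = 0 := by exact_mod_cast CharP.cast_eq_zero F 3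
  have ht : (g.1 0 0 + g.1 1 1) ^ 2 - 4 = 0 := by
    by_contra ht
    apply h1
    rw [← QuotientGroup.mk_pow, QuotientGroup.eq_one_iff, Matrix.SpecialLinearGroup.mem_center_iff] at h3
    obtain ⟨e, -, he⟩ := h3
    have hcube : (g ^ 3 : SL(2, F)).1 = g.1 * g.1 * g.1 := by
      rw [Matrix.SpecialLinearGroup.coe_pow]
      change g.1 ^ 3 = _
      rw [pow_succ, sq]
    rw [hcube] at he
    have e00 := congrFun (congrFun he 0) 0
    have e01 := congrFun (congrFun he 0) 1
    have e10 := congrFun (congrFun he 1) 0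
    have e11 := congrFun (congrFun he 1) 1
    simp only [Matrix.mul_apply, Fin.sum_univ_two, _root_.Fin.isValue, _root_.Matrix.scalar_apply, _root_.Matrix.diagonal_apply_eq, _root_.ne_eq, _root_.zero_ne_one, _root_.not_false_eq_true, _root_.Matrix.diagonal_apply_ne, _root_.one_ne_zero] at e00 e01 e10 e11
    have ht' : (g.1 0 0 + g.1 1 1) ^ 2 - 1 ≠ 0 := by
      intro h
      apply ht
      linear_combination h - h30
    have z01 : g.1 0 1 = 0 := by
      apply (mul_eq_zero.1 (_ : ((g.1 0 0 + g.1 1 1) ^ 2 - 1) * g.1 0 1 = 0)).resolve_left ht'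
      linear_combination -e01 + g.1 0 1 * hdet
    have z10 : g.1 1 0 = 0 := by
      apply (mul_eq_zero.1 (_ : ((g.1 0 0 + g.1 1 1) ^ 2 - 1) * g.1 1 0 = 0)).resolve_left ht'
      linear_combination -e10 + g.1 1 0 * hdet
    have z0 : g.1 0 0 - g.1 1 1 = 0 := by
      apply (mul_eq_zero.1 (_ : ((g.1 0 0 + g.1 1 1) ^ 2 - 1) * (g.1 0 0 - g.1 1 1) = 0)).resolve_left ht'
      linear_combination e11 - e00 + (g.1 0 0 - g.1 1 1) * hdet
    rw [QuotientGroup.eq_one_iff, Matrix.SpecialLinearGroup.mem_center_iff]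
    refine ⟨g.1 0 0, ?_, ?_⟩
    · rw [Fintype.card_fin]
      rw [z01, zero_mul, sub_zero] at hdet
      linear_combination hdet + g.1 0 0 * z0
    · ext i j
      (revert i j; simp only [_root_.Fin.forall_fin_succ, Fin.isValue, _root_.Matrix.scalar_apply, _root_.Fin.succ_zero_eq_one, _root_.IsEmpty.forall_iff, _root_.Matrix.diagonal_apply_eq, _root_.ne_eq, _root_.zero_ne_one, _root_.not_false_eq_true, _root_.Matrix.diagonal_apply_ne, _root_.Fin.succ_ne_zero, _root_.and_true, _root_.true_and]) <;> (repeat' with_reducible apply And.intro)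
      · exact z01.symm
      · exact z10.symm
      · exact sub_eq_zero.1 z0
  obtain ⟨y, b, h⟩ := mk_conj_un g ht 3
  refine ⟨y, b, ?_, h⟩
  rintro rfl
  apply h1
  have h4 : unP F (Multiplicative.ofAdd (0 : F)) = 1 := map_one _
  rw [h4] at h
  have : (QuotientGroup.mk g : Matrix.ProjectiveSpecialLinearGroup (Fin 2) F) = y⁻¹ * (y * QuotientGroup.mk g * y⁻¹) * y := by group
  rw [this, h]
  group

/-- an automorphism of `2`-power order centralising an element of order `3` is trivial -/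
theorem eq_one_of_fix' [CharP F 3] (hodd : Odd (Nat.card (F ≃+* F)))
    {α : MulAut (Matrix.ProjectiveSpecialLinearGroup (Fin 2) F)} {k : ℕ} (hα : α ^ 2 ^ k = 1)
    {x : Matrix.ProjectiveSpecialLinearGroup (Fin 2) F} (h1 : x ≠ 1) (h3 : x ^ 3 = 1) (hf : α x = x) : α = 1 := by
  haveI : Fact (Nat.Prime 3) := ⟨Nat.prime_three⟩
  obtain ⟨y, b, hb, h⟩ := unip_of_cube h1 h3
  have h2 : (2 : F) ≠ 0 := by
    have h30 : (3 : F) = 0 := by exact_mod_cast CharP.cast_eq_zero F 3
    intro h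
    exact one_ne_zero (by linear_combination h30 - h : (1 : F) = 0)
  have h4 : MulAut.conj y * α * (MulAut.conj y)⁻¹ = 1 := by
    apply eq_one_of_fix h2 hodd 3 (k := k) _ hb
    · rw [MulAut.mul_apply, MulAut.mul_apply, ← h, MulAut.conj_apply, MulAut.conj_inv_apply]
      have : y⁻¹ * (y * x * y⁻¹) * y = x := by group
      rw [this, hf]
    · rw [conj_pow, hα, mul_one, mul_inv_cancel]
  have h5 := mul_eq_one_iff_eq_inv.1 h4
  rw [inv_inv] at h5
  exact mul_left_cancel (h5.trans (mul_one _).symm)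

end Cfsg.Agent.H18.Carter.PslTwo
end

-- part: H18/Carter/PslTwo_mg
section

end

-- part: H988/Car/Mov
section
prune_inst 0x10000000000000
set_option linter.all false
open scoped Cfsg.Agent.FastGrp

-- part: H988/Car/RF
section
/-!
# S3852: the calculus `RF` (helper988)

`RF r N` : whenever `N₀ ≃* N` is a normal subgroup of a finite group `G` (all smaller groups have conjugate Carter
subgroups) and `K` is a Carter subgroup of `G`, then `r` does not divide `|K ∩ N₀|`.

* `RF.of_not_dvd` : `r ∤ |N|`;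
* `RF.of_simple`  : `N` nonabelian simple, elements of order `r` conjugate (in `N`) to other powers;
* `RF.of_row`     : `N` nonabelian simple, the row is known;
* `RF.ext`        : `L` characteristic in `N`, `RF r L`, `RF r (N / L)`;
* `not_dvd_of_RF` : `Ctx G S`, `t ∈ S ∩ Z(K)`, `RF r (C_S(t))`: `r ∤ |K ∩ S|`.
-/

set_option autoImplicit false
set_option linter.unusedSectionVars false

namespace Cfsg.Agent.H988.Car

open Subgroup Pointwise
open Cfsg.Agent.Solvable.Carter Cfsg.Agent.H18.Carter Cfsg.Agent.H381.Car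
open scoped commutatorElement

universe u v w

/-- all smaller groups have conjugate Carter subgroups -/
def Sm (G : Type u) [Group G] : Prop := ∀ (B : Type u) [Group B] [Finite B], Nat.card B < Nat.card G → CC B

theorem Sm.mono {G H : Type u} [Group G] [Group H] (h : Sm G) (hc : Nat.card H ≤ Nat.card G) : Sm H :=
  fun B _ _ hB => h B (hB.trans_le hc)

theorem Sm.sub {G : Type u} [Group G] [Finite G] (h : Sm G) (H : Subgroup G) (hH : H ≠ ⊤) : CC H :=
  h H (Cfsg.Agent.Lib.SolvableNormalP.card_lt_of_ne_top hH)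

/-- see the header -/
def RF (r : ℕ) (N : Type v) [Group N] : Prop :=
  ∀ (G : Type u) [Group G] [Finite G] (N₀ : Subgroup G) [N₀.Normal], Nonempty (N₀ ≃* N) → Sm G →
    ∀ K : Subgroup G, IsCarter K → ¬ r ∣ Nat.card (K ⊓ N₀ : Subgroup G)

theorem RF.congr {r : ℕ} {N : Type v} {N' : Type w} [Group N] [Group N'] (e : N ≃* N') (h : RF.{u} r N) :
    RF.{u} r N' := fun G _ _ N₀ _ ⟨e'⟩ hs K hK => h G N₀ ⟨e'.trans e.symm⟩ hs K hK

theorem RF.of_not_dvd {r : ℕ} {N : Type v} [Group N] (h : ¬ r ∣ Nat.card N) : RF.{u} r N := by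
  intro G _ _ N₀ _ ⟨e⟩ _ K _ hd
  apply h
  rw [← Nat.card_congr e.toEquiv]
  exact hd.trans (card_dvd_of_le inf_le_right)

/-- the row for the simple group `T` at the prime `r` -/
def RowAt (r : ℕ) (T : Type v) [Group T] : Prop :=
  ∀ (G : Type u) [Group G] [Finite G] (S : Subgroup G) [S.Normal], Ctx G S → Nonempty (S ≃* T) →
    ∀ K : Subgroup G, IsCarter K → ¬ r ∣ Nat.card (K ⊓ S : Subgroup G)

/-- components -/
theorem not_dvd_comps {G : Type u} [Group G] [Finite G] {K : Subgroup G} {m : ℕ} (c : Comps G K m) (i : Fin m)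
    (hK : IsCarter K) (hs : Sm G) {r : ℕ} (hr : r.Prime)
    (hZ : ¬ r ∣ Nat.card ↥(c.N ⊓ centralizer (c.N : Set G) : Subgroup G))
    (hsim : IsSimpleGroup (↥(c.E i) ⧸ center ↥(c.E i)))
    {T : Type v} [Group T] (e : (↥(c.E i) ⧸ center ↥(c.E i)) ≃* T) (h : RowAt.{u} r T) :
    ¬ r ∣ Nat.card ↥(K ⊓ c.N) := by
  intro hd
  obtain ⟨B, _, _, S, R, f, hp, hcard⟩ := c.pass hK (fun B _ _ hB => hs B hB) i
  have := hp.normal
  have hctx : Ctx B S := Ctx.of_carter (hp.simple hsim) (hp.na (c.perf i) (c.ne i)) hp.cen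
    (fun B' _ _ hB' => hs B' (hB'.trans_le (hcard.trans (Nat.card_mono (Set.toFinite _) le_top |>.trans
      (le_of_eq Subgroup.card_top))))) hp.carter hp.sup
  obtain ⟨e'⟩ := hp.equiv
  rcases c.dvd hp hr hd with h1 | h1
  · exact h B S hctx ⟨e'.symm.trans e⟩ R hp.carter h1
  · exact hZ h1

theorem perfect_of_simple {T : Type v} [Group T] [IsSimpleGroup T] (na : ¬ ∀ a b : T, a * b = b * a) :
    ⁅(⊤ : Subgroup T), (⊤ : Subgroup T)⁆ = ⊤ := by
  rcases IsSimpleGroup.eq_bot_or_eq_top_of_normal ⁅(⊤ : Subgroup T), (⊤ : Subgroup T)⁆ inferInstance with h | h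
  · exfalso
    apply na
    intro a b
    have h1 : ⁅a, b⁆ ∈ ⁅(⊤ : Subgroup T), (⊤ : Subgroup T)⁆ := commutator_mem_commutator (mem_top a) (mem_top b)
    rw [h, mem_bot, commutatorElement_eq_one_iff_mul_comm] at h1
    exact h1
  · exact h

theorem RF.of_row {r : ℕ} (hr : r.Prime) {T : Type v} [Group T] [IsSimpleGroup T] (na : ¬ ∀ a b : T, a * b = b * a)
    (h : RowAt.{u} r T) : RF.{u} r T := by
  intro G _ _ N₀ _ ⟨e⟩ hs K hK
  have hsN : IsSimpleGroup N₀ := by
    have : Nontrivial N₀ := e.toEquiv.nontrivial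
    exact IsSimpleGroup.isSimpleGroup_of_surjective e.symm.toMonoidHom e.symm.surjective
  have naN : ¬ ∀ a b : N₀, a * b = b * a := by
    intro h1
    apply na
    intro a b
    have h2 := congrArg e (h1 (e.symm a) (e.symm b))
    rwa [map_mul, map_mul, e.apply_symm_apply, e.apply_symm_apply] at h2
  have hp : ⁅N₀, N₀⁆ = N₀ := by
    have h1 := congrArg (Subgroup.map N₀.subtype) (perfect_of_simple naN)
    rw [map_commutator, ← MonoidHom.range_eq_map, range_subtype] at h1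
    exact h1
  have hne : N₀ ≠ ⊥ := (Subgroup.nontrivial_iff_ne_bot _).1 hsN.toNontrivial
  have hc : center N₀ = ⊥ := by
    rcases IsSimpleGroup.eq_bot_or_eq_top_of_normal (center N₀) inferInstance with h1 | h1
    · exact h1
    · exfalso
      apply naN
      intro a b
      have : b ∈ center N₀ := by rw [h1]; trivial
      exact mem_center_iff.1 this a
  have hKN : K ≤ normalizer (N₀ : Set G) := by rw [normalizer_eq_top]; exact le_top
  let c := Comps.single hp hne hKN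
  have hN : c.N = N₀ := Comps.single_N hp hne hKN
  let q : N₀ ≃* (↥N₀ ⧸ center ↥N₀) := ((QuotientGroup.quotientMulEquivOfEq hc).trans QuotientGroup.quotientBot).symm
  have hsim : IsSimpleGroup (↥N₀ ⧸ center ↥N₀) := by
    have : Nontrivial (↥N₀ ⧸ center ↥N₀) := q.symm.toEquiv.nontrivial
    exact IsSimpleGroup.isSimpleGroup_of_surjective q.toMonoidHom q.surjective
  have hZ : ¬ r ∣ Nat.card ↥(c.N ⊓ centralizer (c.N : Set G) : Subgroup G) := by
    rw [hN]
    have h1 : N₀ ⊓ centralizer (N₀ : Set G) = ⊥ := by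
      rw [eq_bot_iff]
      rintro x ⟨hx, hx'⟩
      have h2 : (⟨x, hx⟩ : N₀) ∈ center N₀ := by
        rw [mem_center_iff]
        intro g
        exact Subtype.ext (hx' g g.2)
      rw [hc, mem_bot] at h2
      exact congrArg Subtype.val h2
    rw [h1, card_bot]
    exact hr.one_lt.ne' ∘ Nat.dvd_one.1
  have := not_dvd_comps c 0 hK hs hr hZ hsim (q.symm.trans e) h
  rwa [hN] at this

theorem rowAt_of_power {r : ℕ} [Fact r.Prime] {T : Type v} [Group T]
    (h : ∀ z : T, orderOf z = r → ∃ g : T, g * z * g⁻¹ ≠ z ∧ g * z * g⁻¹ ∈ zpowers z) : RowAt.{u} r T := by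
  intro G _ _ S _ c ⟨e⟩ K hK
  refine not_dvd_of_power c (r := r) ?_ hK
  intro z hz ho
  have ho' : orderOf (e ⟨z, hz⟩) = r := by
    rw [← ho, ← Subgroup.orderOf_mk z hz]
    exact orderOf_injective e.toMonoidHom e.injective ⟨z, hz⟩
  obtain ⟨g, h1, h2⟩ := h _ ho'
  have key : e.symm (g * e ⟨z, hz⟩ * g⁻¹) = e.symm g * ⟨z, hz⟩ * (e.symm g)⁻¹ := by
    rw [map_mul, map_mul, map_inv, e.symm_apply_apply]
  refine ⟨(e.symm g : S), fun h3 => h1 ?_, ?_⟩
  · apply e.symm.injective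
    rw [key, e.symm_apply_apply]
    exact Subtype.ext h3
  · obtain ⟨k, hk⟩ := mem_zpowers_iff.1 h2
    have h4 := congrArg e.symm hk
    rw [map_zpow, e.symm_apply_apply, key] at h4
    exact mem_zpowers_iff.2 ⟨k, congrArg Subtype.val h4⟩

/-- extension by a normal subgroup `L₀` of `G` -/
theorem not_dvd_ext {G : Type u} [Group G] [Finite G] (hs : Sm G) {K N L : Subgroup G} [N.Normal] [L.Normal]
    (hLN : L ≤ N) (hK : IsCarter K) {r : ℕ} (hr : r.Prime) (h1 : ¬ r ∣ Nat.card (K ⊓ L : Subgroup G))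
    (h2 : ¬ r ∣ Nat.card (K.map (QuotientGroup.mk' L) ⊓ N.map (QuotientGroup.mk' L) : Subgroup (G ⧸ L))) :
    ¬ r ∣ Nat.card (K ⊓ N : Subgroup G) := by
  intro hd
  have : Fact r.Prime := ⟨hr⟩
  obtain ⟨x, hx⟩ := exists_prime_orderOf_dvd_card' r hd
  have hxo : orderOf (x : G) = r := by rw [← hx]; exact (Subgroup.orderOf_coe x)
  by_cases hxL : (x : G) ∈ L
  · apply h1
    rw [← hxo, ← Subgroup.orderOf_mk (x : G) (Subgroup.mem_inf.2 ⟨x.2.1, hxL⟩ : (x : G) ∈ K ⊓ L)]
    exact orderOf_dvd_natCard _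
  · apply h2
    have hm : QuotientGroup.mk' L (x : G) ∈ K.map (QuotientGroup.mk' L) ⊓ N.map (QuotientGroup.mk' L) :=
      ⟨⟨_, x.2.1, rfl⟩, ⟨_, x.2.2, rfl⟩⟩
    have ho : orderOf (QuotientGroup.mk' L (x : G)) = r := by
      apply orderOf_eq_prime
      · rw [← map_pow, ← hxo, pow_orderOf_eq_one, map_one]
      · intro h
        exact hxL ((QuotientGroup.eq_one_iff _).1 h)
    rw [← ho, ← Subgroup.orderOf_mk _ hm]
    exact orderOf_dvd_natCard _

theorem isCarter_mk {G : Type u} [Group G] [Finite G] (hs : Sm G) {K : Subgroup G} (hK : IsCarter K) (L : Subgroup G)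
    [L.Normal] : IsCarter (K.map (QuotientGroup.mk' L)) :=
  hK.map (QuotientGroup.mk'_surjective L) fun H hH => hs.sub H hH

/-- **Extension.** -/
theorem RF.ext {r : ℕ} (hr : r.Prime) {N : Type v} [Group N] (L : Subgroup N) [L.Characteristic] (h1 : RF.{u} r L)
    (h2 : RF.{u} r (N ⧸ L)) : RF.{u} r N := by
  intro G _ _ N₀ _ ⟨e⟩ hs K hK
  -- the image of `L` in `G`
  let L₁ : Subgroup N₀ := L.comap e.toMonoidHom
  have hL₁ : L₁.Characteristic := by
    rw [characteristic_iff_comap_eq]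
    intro φ
    have h3 := (characteristic_iff_comap_eq.1 (inferInstance : L.Characteristic)) ((e.symm.trans φ).trans e)
    ext x
    have h4 := SetLike.ext_iff.1 h3 (e x)
    rw [mem_comap] at h4
    have h5 : ((e.symm.trans φ).trans e).toMonoidHom (e x) = e (φ x) := by
      show e (φ (e.symm (e x))) = e (φ x)
      rw [e.symm_apply_apply]
    rw [h5] at h4
    exact h4
  let L₀ : Subgroup G := L₁.map N₀.subtype
  have hL₀ : L₀.Normal := inferInstance
  have hLN : L₀ ≤ N₀ := map_subtype_le _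
  have eL : L₀ ≃* L := by
    refine (L₁.equivMapOfInjective N₀.subtype N₀.subtype_injective).symm.trans ?_
    refine (L₁.equivMapOfInjective e.toMonoidHom e.injective).trans ?_
    refine MulEquiv.subgroupCongr ?_
    exact Subgroup.map_comap_eq_self_of_surjective e.surjective L
  refine not_dvd_ext hs hLN hK hr (h1 G L₀ ⟨eL⟩ hs K hK) ?_
  have hn : (N₀.map (QuotientGroup.mk' L₀)).Normal := inferInstance
  refine h2 (G ⧸ L₀) (N₀.map (QuotientGroup.mk' L₀)) ⟨?_⟩ ?_ _ (isCarter_mk hs hK L₀)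
  · -- `N₀ / L₀ ≃* N / L`
    let f : N₀ →* ↥(N₀.map (QuotientGroup.mk' L₀)) := (QuotientGroup.mk' L₀).subgroupMap N₀
    have hf : Function.Surjective f := (QuotientGroup.mk' L₀).subgroupMap_surjective N₀
    have hker : f.ker = L₁ := by
      ext x
      rw [MonoidHom.mem_ker]
      constructor
      · intro h3
        have h4 : QuotientGroup.mk' L₀ (x : G) = 1 := congrArg Subtype.val h3
        have h5 := (QuotientGroup.eq_one_iff (x : G)).1 h4
        obtain ⟨y, hy, hyx⟩ := h5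
        have : y = x := Subtype.ext hyx
        exact this ▸ hy
      · intro h3
        apply Subtype.ext
        exact (QuotientGroup.eq_one_iff (x : G)).2 ⟨x, h3, rfl⟩
    let e1 : (N₀ ⧸ f.ker) ≃* ↥(N₀.map (QuotientGroup.mk' L₀)) := QuotientGroup.quotientKerEquivOfSurjective f hf
    have e2 : (N₀ ⧸ L₁) ≃* (N ⧸ L) := QuotientGroup.congr L₁ L e (by
      exact Subgroup.map_comap_eq_self_of_surjective e.surjective L)
    exact e1.symm.trans ((QuotientGroup.quotientMulEquivOfEq hker).trans e2)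
  · refine hs.mono ?_
    rw [Subgroup.card_eq_card_quotient_mul_card_subgroup L₀]
    exact Nat.le_mul_of_pos_right _ Nat.card_pos

/-- **Centralisers.** -/
theorem not_dvd_of_RF {G : Type u} [Group G] [Finite G] {S : Subgroup G} [S.Normal] (c : Ctx G S) {r : ℕ}
    {K : Subgroup G} (hK : IsCarter K) {t : S} (ht : t ≠ 1) (hKt : K ≤ centralizer ({(t : G)} : Set G))
    (h : RF.{u} r ↥(centralizer ({t} : Set S))) : ¬ r ∣ Nat.card (K ⊓ S : Subgroup G) := by
  set Y := centralizer ({(t : G)} : Set G) with hY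
  have ht' : (t : G) ≠ 1 := fun h => ht (Subtype.ext h)
  have hYt : Y ≠ ⊤ := c.cent_ne_top ht'
  have hs : Sm Y := fun B _ _ hB => c.min B (hB.trans (Cfsg.Agent.Lib.SolvableNormalP.card_lt_of_ne_top hYt))
  have e : ↥(S.subgroupOf Y) ≃* ↥(centralizer ({t} : Set S)) :=
    { toFun := fun x => ⟨⟨(x : G), mem_subgroupOf.1 x.2⟩, by
        rw [mem_centralizer_singleton_iff]
        exact Subtype.ext (mem_centralizer_singleton_iff.1 x.1.2)⟩
      invFun := fun x => ⟨⟨((x : S) : G), by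
        rw [hY, mem_centralizer_singleton_iff]
        exact congrArg Subtype.val (mem_centralizer_singleton_iff.1 x.2)⟩, mem_subgroupOf.2 (x : S).2⟩
      left_inv := fun x => rfl
      right_inv := fun x => rfl
      map_mul' := fun x y => rfl }
  have h1 := h Y (S.subgroupOf Y) ⟨e⟩ hs (K.subgroupOf Y) (hK.subgroupOf hKt)
  intro hd
  apply h1
  have h2 : Nat.card ↥(K.subgroupOf Y ⊓ S.subgroupOf Y) = Nat.card (K ⊓ S : Subgroup G) := by
    have : K.subgroupOf Y ⊓ S.subgroupOf Y = (K ⊓ S).subgroupOf Y := rfl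
    rw [this]
    exact Nat.card_congr (subgroupOfEquivOfLe (inf_le_left.trans hKt)).toEquiv
  rwa [h2]

end Cfsg.Agent.H988.Car
end

-- part: H988/Car/Frame
section
/-!
# S3852: the frame of the sporadic rows (helper988)

`c : Ctx G S`, `K` a Carter subgroup of `G`, `D = K ∩ S`.

* `not_dvd_of_cyclic` : the Sylow `r`-subgroups of `S` are cyclic: `r ∤ |D|`; `not_dvd_exact` : `r² ∤ |S|`;
* `odd_norm` : `D` an `l`-group, `l` odd, `|G : S| ∣ 2`: some Sylow `l`-subgroup of `S` has an odd normaliser;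
* `isPGroup_two` : `D` is a `2`-group as soon as `D` has no two prime divisors one of which is odd;
* `isPGroup_of_central` : `t ∈ Z(K) ∩ S` with `|S : C_S(t)|` odd, Sylow `2`-subgroups of `S` self-normalising: `K` is
  a `2`-group.
-/

set_option autoImplicit false
set_option linter.unusedSectionVars false

namespace Cfsg.Agent.H988.Car

open Subgroup Pointwise
open Cfsg.Agent.Solvable.Carter Cfsg.Agent.H18.Carter Cfsg.Agent.H381.Car
open scoped commutatorElement

universe u v w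

/-! ### cyclic Sylow subgroups -/

section

end

variable {G : Type u} [Group G] [Finite G] {S : Subgroup G} [S.Normal]

/-- conjugation by an element of the normaliser of a Sylow subgroup which centralises the subgroup up to `p'` -/
theorem not_dvd_orderOf_conj {S : Type*} [Group S] [Finite S] {r : ℕ} [hr : Fact r.Prime] (Q : Sylow r S)
    (hab : ∀ a ∈ (Q : Subgroup S), ∀ b ∈ (Q : Subgroup S), a * b = b * a)
    (n : ↥(normalizer ((Q : Subgroup S) : Set S))) :
    ¬ r ∣ orderOf (normalizerMonoidHom (Q : Subgroup S) n) := by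
  intro hd
  have h1 : r ∣ Nat.card (normalizerMonoidHom (Q : Subgroup S)).range :=
    hd.trans (by
      have h0 := orderOf_dvd_natCard ((normalizerMonoidHom (Q : Subgroup S)).rangeRestrict n)
      rwa [← Subgroup.orderOf_coe] at h0)
  rw [← Subgroup.index_ker] at h1
  have h2 : (Q : Subgroup S).subgroupOf (normalizer ((Q : Subgroup S) : Set S)) ≤
      (normalizerMonoidHom (Q : Subgroup S)).ker := by
    intro x hx
    rw [MonoidHom.mem_ker]
    ext y
    show ((x : S) * y * (x : S)⁻¹) = y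
    rw [hab _ (mem_subgroupOf.1 hx) _ y.2, mul_inv_cancel_right]
  have h3 : r ∣ ((Q : Subgroup S).subgroupOf (normalizer ((Q : Subgroup S) : Set S))).index :=
    h1.trans (index_dvd_of_le h2)
  have h4 : ((Q : Subgroup S).subgroupOf (normalizer ((Q : Subgroup S) : Set S))).index ∣ (Q : Subgroup S).index :=
    relIndex_dvd_index_of_le le_normalizer
  exact Q.not_dvd_index (h3.trans h4)

/-! ### `D` an `l`-group -/

/-- a permutation of order dividing two with one fixed point -/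
theorem odd_card_of_unique {α : Type*} [Finite α] (f : α → α) (hf : ∀ x, f (f x) = x) (a : α)
    (ha : ∀ x, f x = x ↔ x = a) : Odd (Nat.card α) := by
  classical
  have := Fintype.ofFinite α
  have hp : Fact (Nat.Prime 2) := ⟨Nat.prime_two⟩
  let F : Function.End α := f
  have h1 : F ^ 2 ^ 1 = 1 := by
    rw [pow_one, sq]
    funext x
    exact hf x
  have h2 : Fintype.card α ≡ Fintype.card (Function.fixedPoints f) [MOD 2] := Equiv.Perm.card_fixedPoints_modEq h1
  have h3 : Fintype.card (Function.fixedPoints f) = 1 := by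
    rw [Fintype.card_eq_one_iff]
    exact ⟨⟨a, (ha a).2 rfl⟩, fun x => Subtype.ext ((ha x).1 x.2)⟩
  rw [h3] at h2
  rw [Nat.card_eq_fintype_card, Nat.odd_iff]
  exact h2

/-- **(F3)** -/
theorem odd_norm (hF : Fpf.{u}) (c : Ctx G S) (hidx : S.index ∣ 2) {l : ℕ} [hl : Fact l.Prime] (hl2 : l ≠ 2)
    {K : Subgroup G} (hK : IsCarter K) (hD : IsPGroup l (K ⊓ S : Subgroup G)) :
    ∃ P : Sylow l S, Odd (Nat.card ↥(normalizer ((P : Subgroup S) : Set S))) := by
  obtain ⟨P, hPS, hPp, hPl, hPK⟩ := lemma_x hF c.min S hK hD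
  have hPp' : IsPGroup l (P.subgroupOf S) := hPp.comap_of_injective S.subtype S.subtype_injective
  let P' : Sylow l S := hPp'.toSylow hPl
  have hP' : (P' : Subgroup S) = P.subgroupOf S := rfl
  refine ⟨P', ?_⟩
  have hDP : K ⊓ S ≤ P := by
    -- `D P` is an `l`-group
    have h1 : IsPGroup l ((K ⊓ S) ⊔ P : Subgroup G) :=
      hD.to_sup_of_normal_right' hPp (inf_le_left.trans hPK)
    have h2 : IsPGroup l (((K ⊓ S) ⊔ P).subgroupOf S) := h1.comap_of_injective S.subtype S.subtype_injective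
    have h3 : (P' : Subgroup S) ≤ ((K ⊓ S) ⊔ P).subgroupOf S := fun x hx => mem_subgroupOf.2 (mem_sup_right (mem_subgroupOf.1 hx))
    have h4 := P'.is_maximal' h2 h3
    intro x hx
    have h5 : (⟨x, hx.2⟩ : S) ∈ ((K ⊓ S) ⊔ P).subgroupOf S := mem_subgroupOf.2 (mem_sup_left hx)
    rw [h4] at h5
    exact mem_subgroupOf.1 h5
  set M : Subgroup G := normalizer (P : Set G) ⊓ S with hM
  have hPM : P ≤ M := le_inf le_normalizer hPS
  have hcard : Nat.card ↥(normalizer ((P' : Subgroup S) : Set S)) = Nat.card M := by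
    have h1 : normalizer ((P' : Subgroup S) : Set S) = (normalizer (P : Set G)).subgroupOf S := by
      rw [hP', subgroupOf_normalizer_eq hPS]
    rw [h1, ← inf_subgroupOf_right]
    exact Nat.card_congr (subgroupOfEquivOfLe inf_le_right).toEquiv
  rw [hcard]
  -- an element `a` of `K` with `K = D ∪ a D`
  have hidx' : S = ⊤ ∨ S.index = 2 := by
    rcases (Nat.dvd_prime Nat.prime_two).1 hidx with h | h
    · exact Or.inl (index_eq_one.1 h)
    · exact Or.inr h
  have hmul : ∀ x y : G, x ∉ S → y ∉ S → x * y ∈ S := by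
    intro x y hx hy
    rcases hidx' with h | h
    · rw [h]; trivial
    · rw [Subgroup.mul_mem_iff_of_index_two h]
      exact ⟨fun h => absurd h hx, fun h => absurd h hy⟩
  obtain ⟨a, haK, ha⟩ : ∃ a ∈ K, ∀ k ∈ K, k ∈ S ∨ a⁻¹ * k ∈ S := by
    by_cases hKS : K ≤ S
    · exact ⟨1, K.one_mem, fun k hk => Or.inl (hKS hk)⟩
    · obtain ⟨a, haK, haS'⟩ := Set.not_subset.1 hKS
      have haS : a ∉ S := haS'
      refine ⟨a, haK, fun k _ => ?_⟩
      by_cases hk : k ∈ S
      · exact Or.inl hk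
      · exact Or.inr (hmul _ _ (fun h => haS (by have h' := S.inv_mem h; rwa [inv_inv] at h')) hk)
  have ha2 : a * a ∈ K ⊓ S := by
    refine ⟨K.mul_mem haK haK, ?_⟩
    by_cases haS : a ∈ S
    · exact S.mul_mem haS haS
    · exact hmul _ _ haS haS
  have haP : ∀ x ∈ P, a * x * a⁻¹ ∈ P := fun x hx => (mem_normalizer_iff.1 (hPK haK) x).1 hx
  have haM : ∀ x ∈ M, a * x * a⁻¹ ∈ M := fun x hx =>
    ⟨mul_mem (mul_mem (hPK haK) hx.1) ((normalizer (P : Set G)).inv_mem (hPK haK)), (inferInstance : S.Normal).conj_mem _ hx.2 a⟩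
  -- the action of `a` on `M / P`
  let P₁ : Subgroup M := P.subgroupOf M
  have hP₁ : P₁.Normal := by
    refine ⟨fun x hx m => ?_⟩
    rw [mem_subgroupOf] at hx ⊢
    exact (mem_normalizer_iff.1 m.2.1 _).1 hx
  let φ : M →* M :=
    { toFun := fun x => ⟨a * (x : G) * a⁻¹, haM x x.2⟩
      map_one' := by ext; simp
      map_mul' := fun x y => by ext; simp [mul_assoc] }
  let f : M ⧸ P₁ → M ⧸ P₁ := QuotientGroup.map P₁ P₁ φ (fun x hx => mem_subgroupOf.2 (haP _ (mem_subgroupOf.1 hx)))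
  have hf : ∀ x : M, f (x : M ⧸ P₁) = ((φ x : M) : M ⧸ P₁) := fun x => rfl
  have hodd : Odd (Nat.card (M ⧸ P₁)) := by
    refine odd_card_of_unique f ?_ 1 ?_
    · intro q
      obtain ⟨x, rfl⟩ := QuotientGroup.mk_surjective q
      rw [hf, hf]
      rw [QuotientGroup.eq]
      rw [mem_subgroupOf]
      show (a * (a * (x : G) * a⁻¹) * a⁻¹)⁻¹ * (x : G) ∈ P
      have h1 : (a * a) * (((x : G)⁻¹ * (a * a)⁻¹ * (x : G))) ∈ P := by
        refine mul_mem (hDP ha2) ?_
        have h2 := (mem_normalizer_iff.1 ((normalizer (P : Set G)).inv_mem x.2.1) _).1 (inv_mem (hDP ha2))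
        rwa [inv_inv] at h2
      have e : (a * (a * (x : G) * a⁻¹) * a⁻¹)⁻¹ * (x : G) =
          (a * a) * (((x : G)⁻¹ * (a * a)⁻¹ * (x : G))) := by simp only [mul_inv_rev, inv_inv, mul_assoc]
      rw [e]
      exact h1
    · intro q
      obtain ⟨x, rfl⟩ := QuotientGroup.mk_surjective q
      rw [hf]
      constructor
      · intro h
        have h' := (QuotientGroup.eq.1 h.symm)
        rw [mem_subgroupOf] at h'
        have h1 : (x : G)⁻¹ * (a * (x : G) * a⁻¹) ∈ P := h'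
        have h2 : (x : G)⁻¹ ∈ (K ⊓ S) ⊔ P := by
          refine w_principle_S c hK ?_ hPS ?_ hPK (S.inv_mem x.2.2) ((normalizer (P : Set G)).inv_mem x.2.1) ?_
          · rintro rfl
            apply inf_ne_bot hF c hK
            exact le_bot_iff.1 hDP
          · rintro rfl
            exact c.S_not_solvable (by
              have := hPp.isNilpotent
              infer_instance)
          · intro k hk
            rw [inv_inv]
            rcases ha k hk with hkS | hkS
            · have hkP : k ∈ P := hDP ⟨hk, hkS⟩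
              have h3 := (mem_normalizer_iff.1 ((normalizer (P : Set G)).inv_mem x.2.1) _).1 hkP
              rw [inv_inv] at h3
              exact mul_mem h3 (inv_mem hkP)
            · have hdP : a⁻¹ * k ∈ P := hDP ⟨K.mul_mem (K.inv_mem haK) hk, hkS⟩
              have h3 := (mem_normalizer_iff.1 ((normalizer (P : Set G)).inv_mem x.2.1) _).1 hdP
              rw [inv_inv] at h3
              have h4 := haP _ (mul_mem h3 (inv_mem hdP))
              have e : (x : G)⁻¹ * k * (x : G) * k⁻¹ = ((x : G)⁻¹ * (a * (x : G) * a⁻¹)) *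
                  (a * ((x : G)⁻¹ * (a⁻¹ * k) * (x : G) * (a⁻¹ * k)⁻¹) * a⁻¹) := by group
              rw [e]
              exact mul_mem h1 h4
        rw [sup_eq_right.2 hDP] at h2
        rw [QuotientGroup.eq_one_iff, mem_subgroupOf]
        have h5 := P.inv_mem h2
        rwa [inv_inv] at h5
      · intro h
        rw [QuotientGroup.eq_one_iff, mem_subgroupOf] at h
        rw [(QuotientGroup.eq_one_iff x).2 (mem_subgroupOf.2 h), QuotientGroup.eq_one_iff, mem_subgroupOf]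
        exact haP _ h
  rw [Subgroup.card_eq_card_quotient_mul_card_subgroup P₁]
  refine hodd.mul ?_
  have hP₁p : IsPGroup l P₁ := hPp.comap_of_injective M.subtype M.subtype_injective
  obtain ⟨n, hn⟩ := IsPGroup.iff_card.1 hP₁p
  rw [hn]
  exact (hl.out.odd_of_ne_two hl2).pow

/-- the condition on `S` which follows from S3855 -/
def OddNormS (S : Type v) [Group S] : Prop :=
  ∀ (l : ℕ) [Fact l.Prime], l ≠ 2 → ∀ P : Sylow l S,
    Odd (Nat.card ↥(normalizer ((P : Subgroup S) : Set S))) → IsCyclic P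

/-! ### central involutions -/

/-- `|G : C| = |S : C ∩ S|` for `C S = G` -/
theorem index_eq_of_sup {C : Subgroup G} (h : C ⊔ S = ⊤) : C.index = (C.subgroupOf S).index := by
  have h1 : S.relIndex C = S.index := by
    have h2 : S.relIndex (S ⊔ C) = S.relIndex C := relIndex_sup_left _ _
    rw [← h2, sup_comm, h, relIndex_top_right]
  have h3 : (C ⊓ S).index = (C ⊓ S).relIndex C * C.index := (relIndex_mul_index inf_le_left).symm
  have h4 : (C ⊓ S).index = (C ⊓ S).relIndex S * S.index := (relIndex_mul_index inf_le_right).symm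
  rw [inf_relIndex_left, h1] at h3
  rw [inf_relIndex_right, h3, mul_comm] at h4
  have h5 : S.index ≠ 0 := index_ne_zero_of_finite
  exact Nat.eq_of_mul_eq_mul_right (Nat.pos_of_ne_zero h5) h4

/-- **Central involutions**, self-normalising Sylow `2`-subgroups of `S`. -/
theorem isPGroup_of_central (c : Ctx G S) (hidx : S.index ∣ 2)
    (hself : ∀ P : Sylow 2 S, normalizer ((P : Subgroup S) : Set S) = P)
    {K : Subgroup G} (hK : IsCarter K) {t : S} (ht : t ≠ 1) (hKt : K ≤ centralizer ({(t : G)} : Set G))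
    (hcen : ¬ 2 ∣ (centralizer ({t} : Set S)).index) : IsPGroup 2 K := by
  have hp2 : Fact (Nat.Prime 2) := ⟨Nat.prime_two⟩
  set C := centralizer ({(t : G)} : Set G) with hC
  have ht' : (t : G) ≠ 1 := fun h => ht (Subtype.ext h)
  have hCt : C ≠ ⊤ := c.cent_ne_top ht'
  have hCS : C ⊔ S = ⊤ := by
    rw [eq_top_iff, ← c.prod K hK]
    exact sup_le_sup_right hKt S
  have hCi : ¬ 2 ∣ C.index := by
    rw [index_eq_of_sup hCS]
    have h1 : C.subgroupOf S = centralizer ({t} : Set S) := by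
      ext x
      rw [mem_subgroupOf, hC, mem_centralizer_singleton_iff, mem_centralizer_singleton_iff]
      exact ⟨fun h => Subtype.ext h, fun h => congrArg Subtype.val h⟩
    rwa [h1]
  -- a Sylow subgroup of `C`
  obtain ⟨Q⟩ : Nonempty (Sylow 2 C) := inferInstance
  set P : Subgroup G := (Q : Subgroup C).map C.subtype with hP
  have hPC : P ≤ C := map_subtype_le _
  have hPp : IsPGroup 2 P := Q.2.map _
  have hPi : ¬ 2 ∣ P.index := by
    intro hd
    have h1 : P.index = P.relIndex C * C.index := (relIndex_mul_index hPC).symm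
    rw [h1] at hd
    rcases hp2.out.dvd_mul.1 hd with h2 | h2
    · have h3 : P.relIndex C = (Q : Subgroup C).index := by
        rw [relIndex, hP]
        congr 1
        exact comap_map_eq_self_of_injective C.subtype_injective _
      rw [h3] at h2
      exact Q.not_dvd_index h2
    · exact hCi h2
  -- `P` is self-normalising
  have hPS : IsPGroup 2 (P.subgroupOf S) := hPp.comap_of_injective S.subtype S.subtype_injective
  let PG : Sylow 2 G := hPp.toSylow hPi
  have hPG : (PG : Subgroup G) = P := rfl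
  have hPSi : ¬ 2 ∣ (P.subgroupOf S).index := by
    intro hd
    -- a larger `2`-subgroup of `S` is contained in a conjugate
    obtain ⟨R, hR⟩ := hPS.exists_le_sylow
    have h1 : Nat.card ((R : Subgroup S).map S.subtype) = Nat.card (R : Subgroup S) :=
      Nat.card_congr ((R : Subgroup S).equivMapOfInjective _ S.subtype_injective).symm.toEquiv
    obtain ⟨R', hR'⟩ := (R.2.map S.subtype).exists_le_sylow
    obtain ⟨g, hg⟩ := MulAction.exists_smul_eq G PG R'
    have h2 : Nat.card (R : Subgroup S) ≤ Nat.card (P.subgroupOf S) := by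
      have h3 : (R : Subgroup S).map S.subtype ≤ MulAut.conj g • (P ⊓ S) := by
        rintro _ ⟨x, hx, rfl⟩
        have h4 : S.subtype x ∈ (R' : Subgroup G) := hR' ⟨x, hx, rfl⟩
        rw [← hg, Sylow.coe_subgroup_smul, mem_conj_smul_iff] at h4
        rw [mem_conj_smul_iff]
        refine ⟨h4, ?_⟩
        have := (inferInstance : S.Normal).conj_mem _ x.2 g⁻¹
        rwa [inv_inv] at this
      have h5 : Nat.card ((R : Subgroup S).map S.subtype) ≤ Nat.card (MulAut.conj g • (P ⊓ S) : Subgroup G) :=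
        Nat.card_mono (Set.toFinite _) h3
      rw [h1] at h5
      refine h5.trans (le_of_eq ?_)
      rw [← inf_subgroupOf_right]
      rw [Nat.card_congr (subgroupOfEquivOfLe (inf_le_right : P ⊓ S ≤ S)).toEquiv]
      exact Nat.card_congr ((P ⊓ S).equivMapOfInjective _ (MulAut.conj g).injective).symm.toEquiv
    have h6 : P.subgroupOf S = R := by
      refine SetLike.ext' (Set.eq_of_subset_of_ncard_le hR ?_ (Set.toFinite _))
      exact h2
    rw [h6] at hd
    exact R.not_dvd_index hd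
  let P' : Sylow 2 S := hPS.toSylow hPSi
  have hP' : (P' : Subgroup S) = P.subgroupOf S := rfl
  have hNS : normalizer (P : Set G) ⊓ S ≤ P := by
    rintro x ⟨hx, hxS⟩
    have h1 : (⟨x, hxS⟩ : S) ∈ normalizer ((P' : Subgroup S) : Set S) := by
      rw [mem_normalizer_iff]
      intro y
      rw [hP', mem_subgroupOf, mem_subgroupOf]
      exact mem_normalizer_iff.1 hx _
    rw [hself P', hP', mem_subgroupOf] at h1
    exact h1
  have hN2 : IsPGroup 2 (normalizer (P : Set G)) := by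
    -- `x² ∈ P`
    intro x
    have h1 : (x : G) * x ∈ S := by
      rcases (Nat.dvd_prime Nat.prime_two).1 hidx with h | h
      · rw [index_eq_one.1 h]; trivial
      · rw [Subgroup.mul_mem_iff_of_index_two h]
    have h2 : (x : G) * x ∈ P := hNS ⟨mul_mem x.2 x.2, h1⟩
    obtain ⟨k, hk⟩ := hPp ⟨_, h2⟩
    refine ⟨k + 1, ?_⟩
    have h3 := congrArg Subtype.val hk
    ext
    push_cast at h3 ⊢
    rw [pow_succ', pow_mul, sq]
    exact h3
  have hNP : normalizer (P : Set G) = P := PG.is_maximal' hN2 le_normalizer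
  have hPc : IsCarter P := ⟨hPp.isNilpotent, hNP⟩
  obtain ⟨g, -, hg⟩ := c.conj_of_le hCt hK hPc hKt hPC
  have h1 : IsPGroup 2 (MulAut.conj g • K : Subgroup G) := by rw [hg]; exact hPp
  exact h1.of_equiv (K.equivMapOfInjective _ (MulAut.conj g).injective).symm

end Cfsg.Agent.H988.Car
end

-- part: H988/Car/Mov
section
/-!
# S3852: rows from power conjugacy (helper988)

`Moved p T` (S4114, helper497): every element of order `p` of `T` is conjugate to a different power of itself.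

* `TwoS S` : `K ∩ S` is a `2`-group for all Carter subgroups `K`;
* `two_of_moved`, `two_of_dat` : all odd primes moved;
* `two_of_pair`, `two_of_even` : one open prime `r`, elements of order `r` commuting with an involution are moved, `|G : S| ∣ 2`,
  S3855 for `S`.
-/

set_option autoImplicit false
set_option linter.unusedSectionVars false

namespace Cfsg.Agent.H988.Car

open Subgroup Cfsg
open Cfsg.Agent.Solvable.Carter Cfsg.Agent.H18.Carter Cfsg.Agent.H381.Car
open Cfsg.Agent.H497.Stein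

universe u v

theorem mem_of_movedAt {T : Type v} [Group T] {z : T} (h : MovedAt z) :
    ∃ g : T, g * z * g⁻¹ ≠ z ∧ g * z * g⁻¹ ∈ zpowers z := by
  obtain ⟨g, j, h1, h2⟩ := h
  exact ⟨g, by rwa [h1], by rw [h1]; exact pow_mem (mem_zpowers z) j⟩

variable {G : Type u} [Group G] [Finite G] {S : Subgroup G} [S.Normal]

/-- `K ∩ S` is a `2`-group for all Carter subgroups `K` -/
def TwoS (S : Subgroup G) : Prop := ∀ K : Subgroup G, IsCarter K → IsPGroup 2 ↥(K ⊓ S)

theorem not_dvd_of_moved' (c : Ctx G S) {p : ℕ} (hp : p.Prime) (h : Moved p ↥S) {K : Subgroup G} (hK : IsCarter K) :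
    ¬ p ∣ Nat.card (K ⊓ S : Subgroup G) := by
  have : Fact p.Prime := ⟨hp⟩
  exact rowAt_of_power (fun z hz => mem_of_movedAt (h z hz)) G S c ⟨MulEquiv.refl _⟩ K hK

theorem two_of_moved (c : Ctx G S) (h : ∀ p : ℕ, p.Prime → p ≠ 2 → Moved p ↥S) : TwoS S := by
  intro K hK
  rw [IsPGroup.iff_card]
  refine ⟨_, Nat.eq_prime_pow_of_unique_prime_dvd Nat.card_pos.ne' ?_⟩
  intro r hr hd
  by_contra hne
  exact not_dvd_of_moved' c hr (h r hr hne) hK hd

/-- the primes whose square divides the order -/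
theorem moved_of_dat {T : Type v} [Group T] {N : ℕ} (hs : IsSimpleGroup T) (hc : Nat.card T = N) {l : List (ℕ × ℕ)}
    (hv : OrdDiv.valid l N = true) (h4 : 4 ∣ N) (P : ℕ → Prop)
    (hrows : ∀ x ∈ l, 2 ≤ x.2 → x.1 ≠ 2 → P x.1 → Moved x.1 T) : ∀ p : ℕ, p.Prime → p ≠ 2 → P p → Moved p T := by
  have hfin : Finite T := Nat.finite_of_card_ne_zero (by
    rw [hc]
    exact (OrdDiv.valid_pos hv).ne')
  have hna := not_comm_of_card hs (by rw [hc]; exact h4)
  intro p hp hp2 hP
  by_cases h : p ^ 2 ∣ N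
  · obtain ⟨k, hk, h2k⟩ := OrdDiv.exists_pair hv hp (by norm_num : 1 ≤ 2) h
    exact hrows (p, k) hk h2k hp2 hP
  · exact moved_of_not_sq hna hp (by rw [hc]; exact h)

theorem two_of_dat (c : Ctx G S) {N : ℕ} (D : BpSpor.Dat ↥S N) {l : List (ℕ × ℕ)}
    (hv : OrdDiv.valid l N = true) (h4 : 4 ∣ N) (hrows : ∀ x ∈ l, 2 ≤ x.2 → x.1 ≠ 2 → Moved x.1 ↥S) : TwoS S :=
  two_of_moved c fun p hp hp2 => moved_of_dat D.simple D.card hv h4 (fun _ => True)
    (fun x hx h1 h2 _ => hrows x hx h1 h2) p hp hp2 trivial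

/-- two commuting central elements -/
theorem not_dvd_of_pair' (c : Ctx G S) {p q : ℕ} (hp : p.Prime) (hq : q.Prime) (h : MovedPair p q ↥S)
    {K : Subgroup G} (hK : IsCarter K) (hdp : p ∣ Nat.card (K ⊓ S : Subgroup G)) :
    ¬ q ∣ Nat.card (K ⊓ S : Subgroup G) := by
  intro hdq
  have : Fact p.Prime := ⟨hp⟩
  have : Fact q.Prime := ⟨hq⟩
  obtain ⟨y, hyS, hyK, hy, hcy⟩ := exists_central (S := S) hK.1 hdp
  obtain ⟨s, hsS, hsK, hs, hcs⟩ := exists_central (S := S) hK.1 hdq
  obtain ⟨g, hg, hg'⟩ := mem_of_movedAt (h ⟨y, hyS⟩ ⟨s, hsS⟩ (by rw [Subgroup.orderOf_mk, hy])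
    (by rw [Subgroup.orderOf_mk, hs]) (Subtype.ext (mem_centralizer_singleton_iff.1 (hcy hsK))))
  refine hg (Subtype.ext ?_)
  show (g : G) * y * (g : G)⁻¹ = y
  refine c.eq_of_conj hK hcy ?_
  obtain ⟨i, hi⟩ := hg'
  have hi' : y ^ i = (g : G) * y * (g : G)⁻¹ := congrArg Subtype.val hi
  intro k hk
  rw [← hi', mem_centralizer_singleton_iff]
  have h1 : k * y = y * k := mem_centralizer_singleton_iff.mp (hcy hk)
  exact (Commute.zpow_right h1 i : Commute k (y ^ i))

/-- an involution of `S` normalises a Sylow `r`-subgroup -/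
theorem not_odd_of_evIn {T : Type v} [Group T] [Finite T] {r : ℕ} [Fact r.Prime]
    (h : ∃ (P : Sylow r T) (t : T), orderOf t = 2 ∧ t ∈ normalizer ((P : Subgroup T) : Set T)) (Q : Sylow r T) :
    ¬ Odd (Nat.card ↥(normalizer ((Q : Subgroup T) : Set T))) := by
  obtain ⟨P, t, ht, hn⟩ := h
  obtain ⟨g, hg⟩ := MulAction.exists_smul_eq T P Q
  intro ho
  have h1 : g * t * g⁻¹ ∈ normalizer ((Q : Subgroup T) : Set T) := by
    rw [← hg, Sylow.coe_subgroup_smul, mem_normalizer_iff]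
    intro x
    rw [mem_conj_smul_iff, mem_conj_smul_iff, mem_normalizer_iff.1 hn (g⁻¹ * x * g)]
    have e : t * (g⁻¹ * x * g) * t⁻¹ = g⁻¹ * (g * t * g⁻¹ * x * (g * t * g⁻¹)⁻¹) * g := by group
    rw [e]
  have h2 : orderOf (⟨_, h1⟩ : ↥(normalizer ((Q : Subgroup T) : Set T))) = 2 := by
    rw [Subgroup.orderOf_mk]
    have e : g * t * g⁻¹ = MulAut.conj g t := rfl
    rw [e, MulEquiv.orderOf_eq, ht]
  have h3 := orderOf_dvd_natCard (⟨_, h1⟩ : ↥(normalizer ((Q : Subgroup T) : Set T)))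
  rw [h2] at h3
  exact (Nat.not_even_iff_odd.2 ho) (even_iff_two_dvd.2 h3)

/-- **One open prime `r`**, not both of `2`, `r` divide `|D|`. -/
theorem two_of_open (hF : Fpf.{u}) (c : Ctx G S) (hidx : S.index ∣ 2) {r : ℕ} [hr : Fact r.Prime] (hr2 : r ≠ 2)
    (hev : ∃ (P : Sylow r ↥S) (t : ↥S), orderOf t = 2 ∧ t ∈ normalizer ((P : Subgroup ↥S) : Set ↥S))
    (hm : ∀ p : ℕ, p.Prime → p ≠ 2 → p ≠ r → Moved p ↥S)
    (h2 : ∀ K : Subgroup G, IsCarter K → r ∣ Nat.card (K ⊓ S : Subgroup G) → ¬ 2 ∣ Nat.card (K ⊓ S : Subgroup G)) :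
    TwoS S := by
  have : Fact (Nat.Prime 2) := ⟨Nat.prime_two⟩
  intro K hK
  rw [IsPGroup.iff_card]
  refine ⟨_, Nat.eq_prime_pow_of_unique_prime_dvd Nat.card_pos.ne' ?_⟩
  intro q hq hd
  by_contra hne
  have hqr : q = r := by
    by_contra h
    exact not_dvd_of_moved' c hq (hm q hq hne h) hK hd
  subst hqr
  have h3 := h2 K hK hd
  have hD : IsPGroup q (K ⊓ S : Subgroup G) := by
    rw [IsPGroup.iff_card]
    refine ⟨_, Nat.eq_prime_pow_of_unique_prime_dvd Nat.card_pos.ne' ?_⟩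
    intro s hs hds
    by_contra hns
    rcases eq_or_ne s 2 with rfl | hs2
    · exact h3 hds
    · exact not_dvd_of_moved' c hs (hm s hs hs2 hns) hK hds
  obtain ⟨P, hP⟩ := odd_norm hF c hidx hr2 hK hD
  exact not_odd_of_evIn hev P hP

/-- **One open prime**, pairs. -/
theorem two_of_pair (hF : Fpf.{u}) (c : Ctx G S) (hidx : S.index ∣ 2) {r : ℕ} [hr : Fact r.Prime] (hr2 : r ≠ 2)
    (hev : ∃ (P : Sylow r ↥S) (t : ↥S), orderOf t = 2 ∧ t ∈ normalizer ((P : Subgroup ↥S) : Set ↥S))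
    (hm : ∀ p : ℕ, p.Prime → p ≠ 2 → p ≠ r → Moved p ↥S) (hpair : MovedPair r 2 ↥S) : TwoS S :=
  two_of_open hF c hidx hr2 hev hm fun _ hK hd => not_dvd_of_pair' c hr.out Nat.prime_two hpair hK hd

/-- **One open prime**, pairs or `2`-central involutions. -/
theorem two_of_even (hF : Fpf.{u}) (c : Ctx G S) (hidx : S.index ∣ 2) {r : ℕ} [hr : Fact r.Prime] (hr2 : r ≠ 2)
    (hself : ∀ P : Sylow 2 ↥S, normalizer ((P : Subgroup ↥S) : Set ↥S) = P)
    (hev : ∃ (P : Sylow r ↥S) (t : ↥S), orderOf t = 2 ∧ t ∈ normalizer ((P : Subgroup ↥S) : Set ↥S))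
    (hm : ∀ p : ℕ, p.Prime → p ≠ 2 → p ≠ r → Moved p ↥S)
    (hpair : ∀ t y : ↥S, orderOf t = 2 → orderOf y = r → t * y = y * t → MovedAt y ∨
      ¬ 2 ∣ (centralizer ({t} : Set ↥S)).index) : TwoS S := by
  refine two_of_open hF c hidx hr2 hev hm fun K hK hdr hd2 => ?_
  have : Fact (Nat.Prime 2) := ⟨Nat.prime_two⟩
  obtain ⟨y, hyS, hyK, hy, hcy⟩ := exists_central (S := S) hK.1 hdr
  obtain ⟨t, htS, htK, ht, hct⟩ := exists_central (S := S) hK.1 hd2
  rcases hpair ⟨t, htS⟩ ⟨y, hyS⟩ (by rw [Subgroup.orderOf_mk, ht]) (by rw [Subgroup.orderOf_mk, hy])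
    (Subtype.ext (mem_centralizer_singleton_iff.1 (hcy htK))) with h | h
  · obtain ⟨g, hg, hg'⟩ := mem_of_movedAt h
    refine hg (Subtype.ext ?_)
    show (g : G) * y * (g : G)⁻¹ = y
    refine c.eq_of_conj hK hcy ?_
    obtain ⟨i, hi⟩ := hg'
    have hi' : y ^ i = (g : G) * y * (g : G)⁻¹ := congrArg Subtype.val hi
    intro k hk
    rw [← hi', mem_centralizer_singleton_iff]
    have h1 : k * y = y * k := mem_centralizer_singleton_iff.mp (hcy hk)
    exact (Commute.zpow_right h1 i : Commute k (y ^ i))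
  · have h1 : IsPGroup 2 K := isPGroup_of_central c hidx hself hK (t := ⟨t, htS⟩)
      (fun e => by
        have e' : t = 1 := congrArg Subtype.val e
        rw [e', orderOf_one] at ht
        norm_num at ht) hct h
    obtain ⟨n, hn⟩ := IsPGroup.iff_card.1 (h1.to_le (inf_le_left : K ⊓ S ≤ K))
    rw [hn] at hdr
    exact hr2 ((Nat.prime_dvd_prime_iff_eq hr.out Nat.prime_two).1 (hr.out.dvd_of_dvd_pow hdr))

/-- all automorphisms of `S` inner: `G = S` -/
theorem index_of_inner (c : Ctx G S) (h : ∀ φ : MulAut ↥S, ∃ s : ↥S, φ = MulAut.conj s) : S.index ∣ 2 := by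
  have h1 : S = ⊤ := by
    rw [eq_top_iff]
    intro g _
    obtain ⟨s, hs⟩ := h (MulAut.conjNormal g)
    have h2 : (s : G)⁻¹ * g ∈ centralizer (S : Set G) := by
      intro x hx
      have h3 := congrArg (fun f : MulAut ↥S => ((f ⟨x, hx⟩ : ↥S) : G)) hs
      simp only [MulAut.conjNormal_apply, MulAut.conj_apply, Subgroup.coe_mul, InvMemClass.coe_inv] at h3
      have h4 : g * x * g⁻¹ = (s : G) * x * (s : G)⁻¹ := h3
      have h5 : (s : G)⁻¹ * (g * x * g⁻¹) = (s : G)⁻¹ * ((s : G) * x * (s : G)⁻¹) := by rw [h4]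
      calc x * ((s : G)⁻¹ * g) = (s : G)⁻¹ * ((s : G) * x * (s : G)⁻¹) * g := by group
        _ = (s : G)⁻¹ * (g * x * g⁻¹) * g := by rw [h5]
        _ = (s : G)⁻¹ * g * x := by group
    rw [c.cen, mem_bot] at h2
    have h3 : g = s := by
      have h4 := congrArg (fun y => (s : G) * y) h2
      simpa using h4
    rw [h3]
    exact s.2
  rw [h1, index_top]
  exact one_dvd 2

theorem inner_of_equiv {T : Type v} [Group T] {T' : Type u} [Group T'] (e : T' ≃* T)
    (h : ∀ α : MulAut T, ∃ k : T, α = MulAut.conj k) : ∀ φ : MulAut T', ∃ k : T', φ = MulAut.conj k := by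
  intro φ
  obtain ⟨k, hk⟩ := h ((e.symm.trans φ).trans e)
  refine ⟨e.symm k, ?_⟩
  ext x
  apply e.injective
  have h1 := congrArg (fun f : MulAut T => f (e x)) hk
  have h2 : e (φ (e.symm (e x))) = k * e x * k⁻¹ := h1
  rw [e.symm_apply_apply] at h2
  rw [h2, MulAut.conj_apply, map_mul, map_mul, map_inv, e.apply_symm_apply]

/-- the outer automorphism group of `S` has order at most two -/
theorem index_of_two (c : Ctx G S) (h : ∀ φ ψ : MulAut ↥S, (∃ s : ↥S, φ = MulAut.conj s) ∨ (∃ s : ↥S, ψ = MulAut.conj s) ∨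
    ∃ s : ↥S, φ * ψ = MulAut.conj s) : S.index ∣ 2 := by
  have key : ∀ g : G, (∃ s : ↥S, MulAut.conjNormal g = MulAut.conj s) → g ∈ S := by
    rintro g ⟨s, hs⟩
    have h2 : (s : G)⁻¹ * g ∈ centralizer (S : Set G) := by
      intro x hx
      have h3 := congrArg (fun f : MulAut ↥S => ((f ⟨x, hx⟩ : ↥S) : G)) hs
      simp only [MulAut.conjNormal_apply, MulAut.conj_apply, Subgroup.coe_mul, InvMemClass.coe_inv] at h3
      have h4 : g * x * g⁻¹ = (s : G) * x * (s : G)⁻¹ := h3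
      have h5 : (s : G)⁻¹ * (g * x * g⁻¹) = (s : G)⁻¹ * ((s : G) * x * (s : G)⁻¹) := by rw [h4]
      calc x * ((s : G)⁻¹ * g) = (s : G)⁻¹ * ((s : G) * x * (s : G)⁻¹) * g := by group
        _ = (s : G)⁻¹ * (g * x * g⁻¹) * g := by rw [h5]
        _ = (s : G)⁻¹ * g * x := by group
    rw [c.cen, mem_bot] at h2
    have h3 : g = s := by
      have h4 := congrArg (fun y => (s : G) * y) h2
      simpa using h4
    rw [h3]
    exact s.2
  by_cases hex : ∃ a : G, a ∉ S
  · obtain ⟨a, ha⟩ := hex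
    have : S.index = 2 := by
      rw [index_eq_two_iff]
      refine ⟨a, fun b => ?_⟩
      by_cases hb : b ∈ S
      · right
        refine ⟨hb, fun hba => ha ?_⟩
        exact (mul_mem_cancel_left hb).1 hba
      · left
        refine ⟨?_, hb⟩
        rcases h (MulAut.conjNormal b) (MulAut.conjNormal a) with h1 | h1 | h1
        · exact absurd (key b h1) hb
        · exact absurd (key a h1) ha
        · rw [← map_mul] at h1
          exact key _ h1
    rw [this]
  · push Not at hex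
    have h1 : S = ⊤ := by
      rw [eq_top_iff]
      intro g _
      exact hex g
    rw [h1, index_top]
    exact one_dvd 2

theorem OddNormS.congr {T : Type v} [Group T] [Finite T] {T' : Type u} [Group T'] (e : T ≃* T') (h : OddNormS T') :
    OddNormS T := by
  intro l hl hl2 P hP
  have hs : Function.Surjective e.toMonoidHom := e.surjective
  have hc : ((P.mapSurjective hs : Sylow l T') : Subgroup T') = (P : Subgroup T).map e.toMonoidHom :=
    Sylow.coe_mapSurjective hs P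
  have := h l hl2 (P.mapSurjective hs) ?_
  · have e2 : ↥(P : Subgroup T) ≃* ↥((P.mapSurjective hs : Sylow l T') : Subgroup T') :=
      (e.subgroupMap (P : Subgroup T)).trans (MulEquiv.subgroupCongr hc.symm)
    exact isCyclic_of_injective e2.toMonoidHom e2.injective
  · have h1 : (normalizer (((P.mapSurjective hs : Sylow l T') : Subgroup T') : Set T')) =
        (normalizer ((P : Subgroup T) : Set T)).map e.toMonoidHom := by
      rw [hc]
      exact (Subgroup.map_equiv_normalizer_eq (P : Subgroup T) e).symm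
    rw [h1, Nat.card_congr ((normalizer ((P : Subgroup T) : Set T)).equivMapOfInjective e.toMonoidHom
      e.injective).toEquiv.symm]
    exact hP

end Cfsg.Agent.H988.Car
end
end

-- part: H988/Car/EvenTool
section
set_option linter.all false
open scoped Cfsg.Agent.FastGrp

/-!
# S3852: involution centralisers (helper988)

* `movedAt_lift` : lifting through a central kernel of exponent 2;
* `movedAt_cent` : elements of order `p` commuting with `t`, `f : C(t) → B` with central kernel of exponent 2, `Moved p B`;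
* `index_of_sylow`, `index_of_card` : involutions with centralisers of odd index.
-/

set_option autoImplicit false

namespace Cfsg.Agent.H988.Car

open Subgroup Cfsg
open Cfsg.Agent.H497.Stein

universe u v

/-- **Lifting** through a central kernel of exponent 2. -/
theorem movedAt_lift {C : Type u} {B : Type v} [Group C] [Group B] (f : C →* B) (hf : Function.Surjective f)
    (hk : ∀ c ∈ f.ker, (∀ g : C, g * c = c * g) ∧ c ^ 2 = 1) {p : ℕ} (hp : Odd p) {y : C} (hy : y ^ p = 1)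
    (h : MovedAt (f y)) : MovedAt y := by
  obtain ⟨g, j, h1, h2⟩ := h
  obtain ⟨g, rfl⟩ := hf g
  refine ⟨g, j, ?_, fun h3 => h2 (by rw [← map_pow, h3])⟩
  obtain ⟨c, hc⟩ : ∃ c, c = (y ^ j)⁻¹ * (g * y * g⁻¹) := ⟨_, rfl⟩
  have hck : c ∈ f.ker := by
    rw [MonoidHom.mem_ker, hc, map_mul, map_inv, map_mul, map_mul, map_inv, map_pow, h1, inv_mul_cancel]
  obtain ⟨hcc, hc2⟩ := hk c hck
  have e1 : g * y * g⁻¹ = y ^ j * c := by rw [hc]; group
  have e2 : (g * y * g⁻¹) ^ (p + 1) = g * y * g⁻¹ := by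
    rw [conj_pow, pow_succ, hy, one_mul]
  have hcomm : Commute (y ^ j) c := hcc (y ^ j)
  obtain ⟨m, hm⟩ : ∃ m, p + 1 = 2 * m := by
    obtain ⟨m, hm⟩ := hp
    exact ⟨m + 1, by omega⟩
  have e3 : (y ^ j * c) ^ (p + 1) = y ^ j := by
    rw [hcomm.mul_pow, show c ^ (p + 1) = 1 by rw [hm, pow_mul, hc2, one_pow], mul_one, ← pow_mul, mul_comm j, pow_mul,
      pow_succ y, hy, one_mul]
  rw [← e2, e1, e3]

/-- elements of order `p` of `C(t)` -/
theorem movedAt_cent {T : Type u} [Group T] {B : Type v} [Group B] {t : T}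
    (f : ↥(centralizer ({t} : Set T)) →* B) (hf : Function.Surjective f)
    (hk : ∀ c ∈ f.ker, (∀ g, g * c = c * g) ∧ c ^ 2 = 1) {p : ℕ} (hp : p.Prime) (hp2 : p ≠ 2) (hm : Moved p B) {y : T}
    (hy : orderOf y = p) (hyt : y * t = t * y) : MovedAt y := by
  let y' : ↥(centralizer ({t} : Set T)) := ⟨y, mem_centralizer_singleton_iff.2 hyt⟩
  have hyp : y' ^ p = 1 := Subtype.ext (by rw [← hy]; exact pow_orderOf_eq_one y)
  have hodd : Odd p := hp.odd_of_ne_two hp2
  have h1 : orderOf (f y') = p := by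
    have h2 : orderOf (f y') ∣ p := orderOf_dvd_of_pow_eq_one (by rw [← map_pow, hyp, map_one])
    rcases (Nat.dvd_prime hp).1 h2 with h3 | h3
    · exfalso
      rw [orderOf_eq_one_iff] at h3
      obtain ⟨-, h4⟩ := hk y' h3
      have h5 : orderOf y' ∣ 2 := orderOf_dvd_of_pow_eq_one h4
      have h6 : orderOf y' = p := by rw [← hy]; exact Subgroup.orderOf_mk _ _
      rw [h6] at h5
      exact hp2 ((Nat.prime_dvd_prime_iff_eq hp Nat.prime_two).1 h5)
    · exact h3
  exact (movedAt_lift f hf hk hodd hyp (hm _ h1)).map (centralizer ({t} : Set T)).subtype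
    (centralizer ({t} : Set T)).subtype_injective

theorem MovedAt.of_equiv {T : Type u} [Group T] {T' : Type v} [Group T'] (e : T ≃* T') {y : T} (h : MovedAt (e y)) :
    MovedAt y := by
  have h1 := h.map e.symm.toMonoidHom e.symm.injective
  have h2 : e.symm.toMonoidHom (e y) = y := e.symm_apply_apply y
  rwa [h2] at h1

theorem map_cent {T : Type u} [Group T] {T' : Type v} [Group T'] (e : T ≃* T') (t : T) :
    (centralizer ({t} : Set T)).map e.toMonoidHom = centralizer ({e t} : Set T') := by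
  ext x
  constructor
  · rintro ⟨y, hy, rfl⟩
    rw [mem_centralizer_singleton_iff]
    show e y * e t = e t * e y
    rw [← map_mul, ← map_mul, mem_centralizer_singleton_iff.1 hy]
  · intro hx
    refine ⟨e.symm x, ?_, e.apply_symm_apply x⟩
    rw [SetLike.mem_coe, mem_centralizer_singleton_iff]
    apply e.injective
    rw [map_mul, map_mul, e.apply_symm_apply]
    exact mem_centralizer_singleton_iff.1 hx

theorem index_cent {T : Type u} [Group T] {T' : Type v} [Group T'] (e : T ≃* T') (t : T) :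
    (centralizer ({t} : Set T)).index = (centralizer ({e t} : Set T')).index := by
  rw [← map_cent e t]
  exact (Subgroup.index_map_of_bijective (f := e.toMonoidHom) e.bijective _).symm

theorem index_cent_conj {T : Type u} [Group T] (g t : T) :
    (centralizer ({g * t * g⁻¹} : Set T)).index = (centralizer ({t} : Set T)).index :=
  (index_cent (MulAut.conj g) t).symm

/-- `t` is centralised by a Sylow `2`-subgroup -/
theorem index_of_sylow {T : Type u} [Group T] [Finite T] (P : Sylow 2 T) {t : T}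
    (h : ∀ x ∈ (P : Subgroup T), x * t = t * x) : ¬ 2 ∣ (centralizer ({t} : Set T)).index := by
  have : Fact (Nat.Prime 2) := ⟨Nat.prime_two⟩
  intro hd
  have h1 : (P : Subgroup T) ≤ centralizer ({t} : Set T) := fun x hx => mem_centralizer_singleton_iff.2 (h x hx)
  exact P.not_dvd_index (hd.trans (index_dvd_of_le h1))

theorem index_of_card {T : Type u} [Group T] [Finite T] {t : T} {m k : ℕ} (hN : Nat.card T = m * k)
    (hm : Nat.card ↥(centralizer ({t} : Set T)) = m) (hk : Odd k) : ¬ 2 ∣ (centralizer ({t} : Set T)).index := by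
  have h1 := (centralizer ({t} : Set T)).card_mul_index
  rw [hN, hm] at h1
  have hm0 : 0 < m := by rw [← hm]; exact Nat.card_pos
  rw [Nat.eq_of_mul_eq_mul_left hm0 h1]
  exact fun h => (Nat.not_even_iff_odd.2 hk) (even_iff_two_dvd.2 h)

theorem selfN_eq {T : Type u} [Group T] (h : ∀ P : Sylow 2 T, normalizer ((P : Subgroup T) : Set T) ≤ P)
    (P : Sylow 2 T) : normalizer ((P : Subgroup T) : Set T) = P := le_antisymm (h P) le_normalizer

end Cfsg.Agent.H988.Car
end
end
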